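import Groth.Agent.H9Abh.Root

/-!
# The exponent killing tame ramification
-/

set_option autoImplicit false
set_option linter.style.haveILetI false
universe u

open IsLocalRing

namespace Groth.Agent.H9Abh

variable (A : Type u) [CommRing A] [IsDomain A] [IsDiscreteValuationRing A] (K : Type u) [Field K] [Algebra A K]
  [IsFractionRing A K] {L : Type u} [Field L] [Algebra K L] [FiniteDimensional K L] [Algebra.IsSeparable K L]

/-- The ramification index is positive and at most the degree. -/
theorem ramificationIdx'_bound (V : ValuationSubring L)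
    (hV : EtRam.Dominates A ((algebraMap K L).comp (algebraMap A K)) V) :
    letI : Algebra A V := (RingHom.codRestrict _ V hV.1).toAlgebra
    Ideal.ramificationIdx' (maximalIdeal A) (maximalIdeal V) ≠ 0 ∧
      Ideal.ramificationIdx' (maximalIdeal A) (maximalIdeal V) ≤ Module.finrank K L := by
  letI : Algebra A V := (RingHom.codRestrict _ V hV.1).toAlgebra
  haveI : IsDiscreteValuationRing V := EtRamLib.isDVR_of_dominates A K V hV
  obtain ⟨π, hπ⟩ := IsDiscreteValuationRing.exists_irreducible A
  have hinj : Function.Injective ((algebraMap K L).comp (algebraMap A K)) :=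
    (algebraMap K L).injective.comp (IsFractionRing.injective A K)
  have hπ0 : algebraMap A V π ≠ 0 := fun h => hπ.ne_zero (hinj ((congrArg Subtype.val h).trans (map_zero _).symm))
  obtain ⟨ϖ, u, hϖ, hu⟩ := exists_uniformizer_pow (V := V) hπ hπ0
  generalize Ideal.ramificationIdx' (maximalIdeal A) (maximalIdeal V) = e at hu
  refine ⟨?_, ?_⟩
  · rintro rfl
    have hπu : IsUnit (algebraMap A V π) := by rw [hu, pow_zero, mul_one]; exact u.isUnit
    haveI : IsLocalHom (algebraMap A V) := EtRamLib.isLocalHom_of_dominates _ V hV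
    exact hπ.not_isUnit (isUnit_of_map_unit (algebraMap A V) π hπu)
  -- distinct valuations of `a ϖ ^ i`, `i < e`
  let val := V.valuation
  have hg0 : val (ϖ : L) ≠ 0 := (Valuation.ne_zero_iff _).2 fun h => hϖ.ne_zero (Subtype.ext h)
  have hg1 : val (ϖ : L) < 1 := (V.valuation_lt_one_iff ϖ).1 ((mem_maximalIdeal _).2 hϖ.not_isUnit)
  have hA : ∀ a : A, a ≠ 0 → ∃ k : ℕ, val (algebraMap K L (algebraMap A K a)) = val (ϖ : L) ^ (e * k) := fun a ha => by
    obtain ⟨k, w, rfl⟩ := IsDiscreteValuationRing.eq_unit_mul_pow_irreducible ha hπ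
    refine ⟨k, ?_⟩
    have h1 : ∀ x : V, IsUnit x → val (x : L) = 1 := fun x hx => by
      refine le_antisymm (V.valuation_le_one x) (not_lt.1 fun h => ?_)
      exact (mem_maximalIdeal _).1 ((V.valuation_lt_one_iff x).2 h) hx
    have e1 : algebraMap K L (algebraMap A K ((w : A) * π ^ k)) =
        ((algebraMap A V (w : A) * ((u : V) * ϖ ^ e) ^ k : V) : L) := by
      rw [← hu, ← map_pow, ← map_mul]
      rfl
    rw [e1]
    push_cast
    rw [map_mul, map_pow, map_mul, map_pow, h1 _ (w.isUnit.map _), h1 _ u.isUnit, one_mul, one_mul, ← pow_mul]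
  letI : Algebra A L := ((algebraMap K L).comp (algebraMap A K)).toAlgebra
  have hli : LinearIndependent A (fun i : Fin e => ((ϖ : L) ^ (i : ℕ))) := by
    classical
    rw [linearIndependent_iff']
    intro s c hc i hi
    by_contra hci
    let s' := s.filter (fun j => c j ≠ 0)
    have hs' : s'.Nonempty := ⟨i, Finset.mem_filter.2 ⟨hi, hci⟩⟩
    have hval : ∀ j ∈ s', ∃ k : ℕ, val (c j • (ϖ : L) ^ (j : ℕ)) = val (ϖ : L) ^ (e * k + j) := fun j hj => by
      obtain ⟨k, hk⟩ := hA (c j) (Finset.mem_filter.1 hj).2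
      refine ⟨k, ?_⟩
      rw [Algebra.smul_def, map_mul, map_pow, pow_add]
      exact congrArg (· * val (ϖ : L) ^ (j : ℕ)) hk
    obtain ⟨j, hj, hmax⟩ := s'.exists_max_image (fun j => val (c j • (ϖ : L) ^ (j : ℕ))) hs'
    have hsum : ∑ k ∈ s', c k • (ϖ : L) ^ (k : ℕ) = 0 := by
      rw [← hc]
      refine Finset.sum_filter_of_ne fun k _ hk h => hk (by rw [h, zero_smul])
    have hlt : ∀ k ∈ s' \ {j}, val (c k • (ϖ : L) ^ (k : ℕ)) < val (c j • (ϖ : L) ^ (j : ℕ)) := fun k hk => by
      obtain ⟨hk1, hk2⟩ := Finset.mem_sdiff.1 hk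
      refine lt_of_le_of_ne (hmax k hk1) fun heq => hk2 (Finset.mem_singleton.2 (Fin.ext ?_))
      obtain ⟨a, ha⟩ := hval k hk1
      obtain ⟨b, hb⟩ := hval j hj
      rw [ha, hb] at heq
      have := (pow_right_strictAnti₀ (zero_lt_iff.2 hg0) hg1).injective heq
      have hk' := k.2
      have hj' := j.2
      have := congrArg (· % e) this
      simpa [Nat.mul_add_mod, Nat.mod_eq_of_lt hk', Nat.mod_eq_of_lt hj'] using this
    have h := Valuation.map_sum_eq_of_lt val hj hlt
    rw [hsum, map_zero] at h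
    obtain ⟨b, hb⟩ := hval j hj
    rw [hb] at h
    exact pow_ne_zero _ hg0 h.symm
  haveI : IsScalarTower A K L := IsScalarTower.of_algebraMap_eq fun _ => rfl
  have hliK : LinearIndependent K (fun i : Fin e => ((ϖ : L) ^ (i : ℕ))) :=
    (LinearIndependent.iff_fractionRing A K).1 hli
  simpa using hliK.fintype_card_le_finrank

/-- The product of the numbers up to `N` that are units in `R`. -/
noncomputable def exponent (R : Type u) [CommRing R] (N : ℕ) : ℕ :=
  open scoped Classical in ∏ k ∈ (Finset.Icc 1 N).filter (fun k : ℕ => IsUnit (k : R)), k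

open scoped Classical in
theorem exponent_pos (R : Type u) [CommRing R] (N : ℕ) : 1 ≤ exponent R N :=
  Finset.one_le_prod' fun k hk => (Finset.mem_Icc.1 (Finset.mem_filter.1 hk).1).1

open scoped Classical in
theorem exponent_isUnit (R : Type u) [CommRing R] (N : ℕ) : IsUnit (exponent R N : R) := by
  rw [exponent, Nat.cast_prod]
  exact IsUnit.prod_iff.2 fun k hk => (Finset.mem_filter.1 hk).2

open scoped Classical in
theorem dvd_exponent (R : Type u) [CommRing R] {N k : ℕ} (h1 : 1 ≤ k) (h2 : k ≤ N) (hu : IsUnit (k : R)) :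
    k ∣ exponent R N :=
  Finset.dvd_prod_of_mem _ (Finset.mem_filter.2 ⟨Finset.mem_Icc.2 ⟨h1, h2⟩, hu⟩)

/-- Tame extensions of degree at most `N` are good for `exponent A N`. -/
theorem good_of_tame (h : EtRam.IsTamelyRamified A ((algebraMap K L).comp (algebraMap A K))) {N : ℕ}
    (hN : Module.finrank K L ≤ N) : Good A ((algebraMap K L).comp (algebraMap A K)) (exponent A N) := by
  intro V hV
  letI : Algebra A V := (RingHom.codRestrict _ V hV.1).toAlgebra
  intro _
  obtain ⟨hs, hp⟩ := h V hV
  obtain ⟨h0, hle⟩ := ramificationIdx'_bound A K V hV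
  refine ⟨hs, dvd_exponent A (Nat.one_le_iff_ne_zero.2 h0) (hle.trans hN) ?_⟩
  by_contra hu
  have hres : ((Ideal.ramificationIdx' (maximalIdeal A) (maximalIdeal V) : ℕ) : ResidueField A) = 0 := by
    rw [← map_natCast (residue A)]
    exact (residue_eq_zero_iff _).2 ((mem_maximalIdeal _).2 hu)
  obtain ⟨p, hpC⟩ := CharP.exists (ResidueField A)
  have hd := (CharP.cast_eq_zero_iff (ResidueField A) p _).1 hres
  rcases CharP.char_is_prime_or_zero (ResidueField A) p with hpp | rfl
  · exact hp p hpp hpC hd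
  · exact h0 (Nat.eq_zero_of_zero_dvd hd)

end Groth.Agent.H9Abh
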