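import Groth.Prelude.Def_FEt
import Groth.Prelude.Def_SGA1
import Groth.Agent.Pi1Ext.Spread
import Mathlib

/-!
# Covers of a basic open of an affine scheme and their algebras
-/

set_option autoImplicit false
set_option linter.style.haveILetI false
set_option backward.isDefEq.respectTransparency false
set_option backward.isDefEq.respectTransparency.types false

universe u

open CategoryTheory CategoryTheory.Limits AlgebraicGeometry TensorProduct

noncomputable section

namespace Groth.Agent.H9Abh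

theorem fet_prop_mk {X Y : Scheme.{u}} (f : X ⟶ Y) (h1 : IsFinite f) (h2 : Etale f) : FEt.prop f := ⟨h1, h2⟩

theorem prop_spec_iff (R S : Type u) [CommRing R] [CommRing S] [Algebra R S] :
    FEt.prop (Spec.map (CommRingCat.ofHom (algebraMap R S))) ↔ Module.Finite R S ∧ Algebra.Etale R S := by
  refine ⟨fun h => ⟨RingHom.finite_algebraMap.1 ((IsFinite.SpecMap_iff _).1 h.1),
    RingHom.etale_algebraMap.1 ((HasRingHomProperty.Spec_iff (P := @Etale)).1 h.2)⟩, fun ⟨h1, h2⟩ => ?_⟩
  exact fet_prop_mk _ ((IsFinite.SpecMap_iff _).2 (RingHom.finite_algebraMap.2 h1))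
    ((HasRingHomProperty.Spec_iff (P := @Etale)).2 (RingHom.etale_algebraMap.2 h2))

/-- The cover attached to a finite étale algebra. -/
def ofAlg (R S : Type u) [CommRing R] [CommRing S] [Algebra R S] (h1 : Module.Finite R S) (h2 : Algebra.Etale R S) :
    FEt.Cat (Spec (CommRingCat.of R)) :=
  MorphismProperty.Over.mk _ (Spec.map (CommRingCat.ofHom (algebraMap R S))) ((prop_spec_iff R S).2 ⟨h1, h2⟩)

/-- Isomorphic algebras give isomorphic covers. -/
theorem ofAlg_iso {R S S' : Type u} [CommRing R] [CommRing S] [CommRing S'] [Algebra R S] [Algebra R S']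
    (e : S ≃ₐ[R] S') (h1 : Module.Finite R S) (h2 : Algebra.Etale R S) (h1' : Module.Finite R S')
    (h2' : Algebra.Etale R S') : Nonempty (ofAlg R S h1 h2 ≅ ofAlg R S' h1' h2') := by
  refine ⟨MorphismProperty.Over.isoMk (Scheme.Spec.mapIso e.symm.toRingEquiv.toCommRingCatIso.op) ?_⟩
  show Spec.map _ ≫ Spec.map _ = Spec.map _
  rw [← Spec.map_comp]
  exact congrArg Spec.map (CommRingCat.hom_ext (RingHom.ext fun x => e.symm.commutes x))

/-- Restriction of an algebra cover along a map of rings. -/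
theorem restrict_ofAlg (R S R' : Type u) [CommRing R] [CommRing S] [CommRing R'] [Algebra R S] [Algebra R R']
    (h1 : Module.Finite R S) (h2 : Algebra.Etale R S) (h1' : Module.Finite R' (R' ⊗[R] S))
    (h2' : Algebra.Etale R' (R' ⊗[R] S)) :
    Nonempty ((FEt.restrict (Spec.map (CommRingCat.ofHom (algebraMap R R')))).obj (ofAlg R S h1 h2) ≅
      ofAlg R' (R' ⊗[R] S) h1' h2') :=
  ⟨MorphismProperty.Over.isoMk (pullbackSymmetry _ _ ≪≫ pullbackSpecIso R R' S) (by
    show (_ ≪≫ _).hom ≫ Spec.map (CommRingCat.ofHom (algebraMap R' (R' ⊗[R] S))) = pullback.snd _ _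
    rw [Iso.trans_hom, Category.assoc]
    exact ((pullbackSymmetry _ _).hom ≫= pullbackSpecIso_hom_fst' R R' S).trans (pullbackSymmetry_hom_comp_fst _ _))⟩

/-- A ring in which `F` is invertible maps to the basic open. -/
theorem exists_lift_basic {A R : Type u} [CommRing A] [CommRing R] [Algebra A R] (F : A)
    (hF : IsUnit (algebraMap A R F)) :
    ∃ j : Spec (CommRingCat.of R) ⟶ (SGA1.specBasicOpen A F : Scheme.{u}),
      j ≫ (SGA1.specBasicOpen A F).ι = Spec.map (CommRingCat.ofHom (algebraMap A R)) := by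
  refine ⟨IsOpenImmersion.lift (SGA1.specBasicOpen A F).ι (Spec.map (CommRingCat.ofHom (algebraMap A R))) ?_,
    IsOpenImmersion.lift_fac _ _ _⟩
  rw [Scheme.Opens.range_ι]
  rintro _ ⟨p, rfl⟩
  exact fun h => p.isPrime.ne_top (Ideal.eq_top_of_isUnit_mem _ h hF)

section Basic

variable {A : Type u} [CommRing A] {F : A} (V : FEt.Cat ((SGA1.specBasicOpen A F) : Scheme.{u}))

/-- The coordinate ring of a cover of a basic open, as an algebra over the base. -/
def structHom : A →+* Γ(V.left, ⊤) :=
  ((V.hom ≫ (SGA1.specBasicOpen A F).ι).appTop).hom.comp (Scheme.ΓSpecIso (CommRingCat.of A)).inv.hom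

theorem isAffine_left : IsAffine V.left := by
  haveI : IsAffine (SGA1.specBasicOpen A F : Scheme.{u}) := by
    refine IsAffineOpen.Spec_basicOpen (R := CommRingCat.of A) F
  haveI : IsFinite V.hom := V.prop.1
  haveI : IsAffine ((Functor.fromPUnit (SGA1.specBasicOpen A F : Scheme.{u})).obj V.right) := by assumption
  exact isAffine_of_isAffineHom V.hom

/-- Restriction along a ring map through which the spectrum lands in the basic open. -/
theorem restrict_basic {R : Type u} [CommRing R] [Algebra A R]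
    (j : Spec (CommRingCat.of R) ⟶ (SGA1.specBasicOpen A F : Scheme.{u}))
    (hj : j ≫ (SGA1.specBasicOpen A F).ι = Spec.map (CommRingCat.ofHom (algebraMap A R))) :
    letI : Algebra A Γ(V.left, ⊤) := (structHom V).toAlgebra
    ∃ (h1 : Module.Finite R (R ⊗[A] Γ(V.left, ⊤))) (h2 : Algebra.Etale R (R ⊗[A] Γ(V.left, ⊤))),
      Nonempty ((FEt.restrict j).obj V ≅ ofAlg R (R ⊗[A] Γ(V.left, ⊤)) h1 h2) := by
  letI : Algebra A Γ(V.left, ⊤) := (structHom V).toAlgebra
  haveI := isAffine_left V
  let i := (SGA1.specBasicOpen A F).ι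
  have hB : V.hom ≫ i = V.left.isoSpec.hom ≫ Spec.map (CommRingCat.ofHom (algebraMap A Γ(V.left, ⊤))) := by
    have h := (V.left.isoSpec.hom ≫= congrArg Spec.map
      (show CommRingCat.ofHom (algebraMap A Γ(V.left, ⊤)) =
        (Scheme.ΓSpecIso (CommRingCat.of A)).inv ≫ (V.hom ≫ i).appTop from rfl))
    rw [h, Spec.map_comp, Scheme.isoSpec_hom_naturality_assoc]
    simp [← Spec.map_comp]
  let l : pullback V.hom j ⟶ pullback (Spec.map (CommRingCat.ofHom (algebraMap A R)))
      (Spec.map (CommRingCat.ofHom (algebraMap A Γ(V.left, ⊤)))) :=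
    pullback.lift (pullback.snd _ _) (pullback.fst _ _ ≫ V.left.isoSpec.hom) (by
      rw [← hj, Category.assoc, ← hB, pullback.condition_assoc])
  let m : pullback (Spec.map (CommRingCat.ofHom (algebraMap A R)))
      (Spec.map (CommRingCat.ofHom (algebraMap A Γ(V.left, ⊤)))) ⟶ pullback V.hom j :=
    pullback.lift (pullback.snd _ _ ≫ V.left.isoSpec.inv) (pullback.fst _ _) (by
      rw [← cancel_mono i, Category.assoc, Category.assoc, hB, Category.assoc, Iso.inv_hom_id_assoc]
      show _ = pullback.fst _ _ ≫ j ≫ (SGA1.specBasicOpen A F).ι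
      rw [hj, pullback.condition])
  let e : pullback V.hom j ≅ Spec (CommRingCat.of (R ⊗[A] Γ(V.left, ⊤))) :=
    { hom := l
      inv := m
      hom_inv_id := by apply pullback.hom_ext <;> simp [l, m]
      inv_hom_id := by apply pullback.hom_ext <;> simp [l, m] } ≪≫ pullbackSpecIso A R Γ(V.left, ⊤)
  have he : e.hom ≫ Spec.map (CommRingCat.ofHom (algebraMap R (R ⊗[A] Γ(V.left, ⊤)))) = pullback.snd V.hom j := by
    show (_ ≪≫ _).hom ≫ _ = _
    rw [Iso.trans_hom, Category.assoc]
    exact (l ≫= pullbackSpecIso_hom_fst' A R Γ(V.left, ⊤)).trans (pullback.lift_fst _ _ _)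
  have hp : FEt.prop (Spec.map (CommRingCat.ofHom (algebraMap R (R ⊗[A] Γ(V.left, ⊤))))) := by
    have e1 : Spec.map (CommRingCat.ofHom (algebraMap R (R ⊗[A] Γ(V.left, ⊤)))) = e.inv ≫ pullback.snd V.hom j := by
      rw [← he, Iso.inv_hom_id_assoc]
    rw [e1, MorphismProperty.cancel_left_of_respectsIso FEt.prop]
    exact MorphismProperty.pullback_snd _ _ V.prop
  obtain ⟨h1, h2⟩ := (prop_spec_iff R _).1 hp
  exact ⟨h1, h2, ⟨MorphismProperty.Over.isoMk e he⟩⟩

end Basic

end Groth.Agent.H9Abh
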