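import Mathlib

/-!
# Étaleness after inverting an element, along a tower
-/

set_option autoImplicit false
set_option linter.style.haveILetI false

universe u

open TensorProduct

noncomputable section

namespace Groth.Agent.H9Abh

attribute [local instance] Algebra.TensorProduct.rightAlgebra in
/-- The localisation as a base change. -/
theorem exists_awayEquiv (R S : Type u) [CommRing R] [CommRing S] [Algebra R S] (c : R) :
    letI := (Localization.awayMap (algebraMap R S) c).toAlgebra
    Nonempty (Localization.Away c ⊗[R] S ≃ₐ[Localization.Away c] Localization.Away (algebraMap R S c)) := by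
  letI := (Localization.awayMap (algebraMap R S) c).toAlgebra
  haveI h : IsLocalization (Algebra.algebraMapSubmonoid S (Submonoid.powers c)) (Localization.Away c ⊗[R] S) :=
    inferInstance
  rw [Algebra.algebraMapSubmonoid_powers] at h
  let e : Localization.Away c ⊗[R] S ≃ₐ[S] Localization.Away (algebraMap R S c) :=
    IsLocalization.algEquiv (Submonoid.powers (algebraMap R S c)) _ _
  refine ⟨AlgEquiv.ofRingEquiv (f := e.toRingEquiv) fun x => ?_⟩
  have : e.toRingEquiv.toRingHom.comp (algebraMap (Localization.Away c) (Localization.Away c ⊗[R] S)) =
      algebraMap (Localization.Away c) (Localization.Away (algebraMap R S c)) := by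
    refine IsLocalization.ringHom_ext (Submonoid.powers c) (RingHom.ext fun r => ?_)
    show e (algebraMap (Localization.Away c) _ (algebraMap R _ r)) = Localization.awayMap (algebraMap R S) c (algebraMap R _ r)
    rw [← IsScalarTower.algebraMap_apply, Localization.awayMap, IsLocalization.Away.map, IsLocalization.map_eq,
      ← e.commutes (algebraMap R S r)]
    exact congrArg e ((Algebra.TensorProduct.includeRight : S →ₐ[R] Localization.Away c ⊗[R] S).commutes r).symm
  exact RingHom.congr_fun this x

/-- Cancellation of étaleness over a localisation. -/
theorem etale_tensor_away_of_tower {A B C : Type u} [CommRing A] [CommRing B] [CommRing C] [Algebra A B] [Algebra B C]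
    [Algebra A C] [IsScalarTower A B C] (c : A)
    (hB : Algebra.Etale (Localization.Away c) (Localization.Away c ⊗[A] B))
    (hC : letI := (Localization.awayMap (algebraMap A C) c).toAlgebra
      Algebra.Etale (Localization.Away c) (Localization.Away (algebraMap A C c))) :
    Algebra.Etale (Localization.Away (algebraMap A B c)) (Localization.Away (algebraMap A B c) ⊗[B] C) := by
  have hcc : algebraMap B C (algebraMap A B c) = algebraMap A C c := (IsScalarTower.algebraMap_apply A B C c).symm
  letI a1 := (Localization.awayMap (algebraMap A B) c).toAlgebra
  obtain ⟨e1⟩ := exists_awayEquiv A B c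
  haveI : Algebra.Etale (Localization.Away c) (Localization.Away (algebraMap A B c)) := Algebra.Etale.of_equiv e1
  letI a2 := (Localization.awayMap (algebraMap B C) (algebraMap A B c)).toAlgebra
  letI a3 := ((algebraMap (Localization.Away (algebraMap A B c)) (Localization.Away (algebraMap B C (algebraMap A B c)))).comp
    (algebraMap (Localization.Away c) (Localization.Away (algebraMap A B c)))).toAlgebra
  haveI : IsScalarTower (Localization.Away c) (Localization.Away (algebraMap A B c))
      (Localization.Away (algebraMap B C (algebraMap A B c))) := IsScalarTower.of_algebraMap_eq fun _ => rfl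
  haveI : Algebra.Etale (Localization.Away c) (Localization.Away (algebraMap B C (algebraMap A B c))) := by
    rw [← RingHom.etale_algebraMap]
    have h := (@RingHom.etale_algebraMap (Localization.Away c) (Localization.Away (algebraMap A C c)) _ _
      (Localization.awayMap (algebraMap A C) c).toAlgebra).2 hC
    have gen : ∀ (d : C) (hd : d = algebraMap A C c) (g : Localization.Away c →+* Localization.Away d),
        (∀ a, g (algebraMap A _ a) = algebraMap C _ (algebraMap A C a)) → g.Etale := fun d hd g hg => by
      subst hd
      have : g = Localization.awayMap (algebraMap A C) c :=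
        IsLocalization.ringHom_ext (Submonoid.powers c) (RingHom.ext fun a => by
          rw [RingHom.comp_apply, RingHom.comp_apply, hg, Localization.awayMap, IsLocalization.Away.map,
            IsLocalization.map_eq])
      rw [this]
      exact h
    refine gen _ hcc _ fun a => ?_
    show Localization.awayMap (algebraMap B C) (algebraMap A B c) (Localization.awayMap (algebraMap A B) c (algebraMap A _ a)) = _
    simp only [Localization.awayMap, IsLocalization.Away.map, IsLocalization.map_eq]
    exact congrArg _ (IsScalarTower.algebraMap_apply A B C a).symm
  haveI : Algebra.Etale (Localization.Away (algebraMap A B c))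
      (Localization.Away (algebraMap B C (algebraMap A B c))) :=
    Algebra.Etale.of_restrictScalars (Localization.Away c) _ _
  obtain ⟨e2⟩ := exists_awayEquiv B C (algebraMap A B c)
  exact Algebra.Etale.of_equiv e2.symm

end Groth.Agent.H9Abh
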