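import Groth.Agent.EtFound.IntegralCore
import Mathlib

/-!
# Rigidity: sections over strictly henselian bases, and inseparable targets
-/

set_option autoImplicit false
set_option linter.style.haveILetI false
universe u

open IsLocalRing

namespace Groth.Agent.H9Abh

/-- A point of a finite étale algebra over a strictly henselian domain is given by a section. -/
theorem exists_section_factor {R : Type u} [CommRing R] [IsDomain R] [HenselianLocalRing R]
    [IsSepClosed (ResidueField R)] {C : Type u} [CommRing C] [Algebra R C] [Module.Finite R C] [Algebra.Etale R C]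
    {M : Type u} [Field M] [Algebra R M] (hinj : Function.Injective (algebraMap R M)) (g : C →ₐ[R] M) :
    ∀ c : C, ∃ r : R, g c = algebraMap R M r := by
  let 𝔭 : Ideal C := RingHom.ker g.toRingHom
  haveI : 𝔭.IsPrime := RingHom.ker_isPrime _
  have h𝔭 : 𝔭.comap (algebraMap R C) = ⊥ := (Submodule.eq_bot_iff _).2 fun a ha => by
    have h : g (algebraMap R C a) = 0 := ha
    rw [AlgHom.commutes] at h
    exact hinj (h.trans (map_zero _).symm)
  obtain ⟨Q, hQge, hQ, hQc⟩ := Ideal.exists_ideal_over_prime_of_isIntegral (R := R) (S := C) (maximalIdeal R) 𝔭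
    (by rw [h𝔭]; exact bot_le)
  obtain ⟨ψ, hψ⟩ := EtFound.exists_section_integral (R := R) R C (fun x hx => ⟨⟨Q, hQ⟩, PrimeSpectrum.ext (by
      show Q.comap (algebraMap R C) = x.asIdeal
      rw [hQc, ← hx, Algebra.algebraMap_self, Ideal.comap_id])⟩) ⟨Q, hQ⟩
    (by show (Q.comap (algebraMap R C)).comap (algebraMap R R) = _; rw [hQc, Algebra.algebraMap_self, Ideal.comap_id])
  let J : Ideal C := RingHom.ker ψ.toRingHom
  have hJQ : J ≤ Q := by
    intro x hx
    have e : (PrimeSpectrum.comap ψ.toRingHom (PrimeSpectrum.comap (algebraMap R C) ⟨Q, hQ⟩)).asIdeal = Q :=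
      congrArg PrimeSpectrum.asIdeal hψ
    refine e.le ?_
    show ψ x ∈ (PrimeSpectrum.comap (algebraMap R C) ⟨Q, hQ⟩).asIdeal
    rw [show ψ x = 0 from hx]
    exact Ideal.zero_mem _
  -- the kernel of a section of an unramified algebra is idempotent
  have hsub : ∀ x ∈ J, x ∈ J ^ 2 := fun x hx => by
    let g₁ : C →ₐ[R] C ⧸ J ^ 2 := Ideal.Quotient.mkₐ R _
    let g₂ : C →ₐ[R] C ⧸ J ^ 2 := (Algebra.ofId R (C ⧸ J ^ 2)).comp ψ
    let I : Ideal (C ⧸ J ^ 2) := J.map (Ideal.Quotient.mk (J ^ 2))
    have hI : IsNilpotent I := ⟨2, by rw [← Ideal.map_pow, Ideal.map_quotient_self]; rfl⟩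
    have h : g₁ = g₂ := Algebra.FormallyUnramified.ext I hI fun c => by
      rw [Ideal.Quotient.eq]
      show Ideal.Quotient.mk (J ^ 2) c - Ideal.Quotient.mk (J ^ 2) (algebraMap R C (ψ c)) ∈ I
      rw [← map_sub]
      refine Ideal.mem_map_of_mem _ ?_
      show ψ (c - algebraMap R C (ψ c)) = 0
      rw [map_sub, AlgHom.commutes, Algebra.algebraMap_self, RingHom.id_apply, sub_self]
    have h' : Ideal.Quotient.mk (J ^ 2) x = algebraMap R (C ⧸ J ^ 2) (ψ x) := AlgHom.congr_fun h x
    rw [show ψ x = 0 from hx, map_zero] at h'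
    exact Ideal.Quotient.eq_zero_iff_mem.1 h'
  have hJfg : J.FG := by
    classical
    obtain ⟨G, hG⟩ := Module.Finite.fg_top (R := R) (M := C)
    refine ⟨G.image fun c => c - algebraMap R C (ψ c), le_antisymm (Ideal.span_le.2 ?_) fun x hx => ?_⟩
    · intro y hy
      obtain ⟨c, -, rfl⟩ := Finset.mem_image.1 hy
      show ψ (c - algebraMap R C (ψ c)) = 0
      rw [map_sub, AlgHom.commutes, Algebra.algebraMap_self, RingHom.id_apply, sub_self]
    · have hx' : x - algebraMap R C (ψ x) = x := by rw [show ψ x = 0 from hx, map_zero, sub_zero]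
      rw [← hx']
      have hxG : x ∈ Submodule.span R (G : Set C) := hG ▸ Submodule.mem_top
      clear hx hx'
      induction hxG using Submodule.span_induction with
      | mem y hy => exact Ideal.subset_span (Finset.mem_coe.2 (Finset.mem_image_of_mem _ hy))
      | zero => simp
      | add y z _ _ hy hz => rw [map_add, map_add, add_sub_add_comm]; exact add_mem hy hz
      | smul b y _ hy =>
        rw [map_smul, Algebra.smul_def, smul_eq_mul, map_mul, ← mul_sub]
        exact Ideal.mul_mem_left _ _ hy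
  have hidem : IsIdempotentElem J := le_antisymm Ideal.mul_le_right (fun x hx => by rw [← pow_two]; exact hsub x hx)
  obtain ⟨e, he, heJ⟩ := (J.isIdempotentElem_iff_of_fg hJfg).1 hidem
  have heJ' : e ∈ J := heJ ▸ Ideal.mem_span_singleton_self e
  have he1 : 1 - e ∉ Q := fun h => hQ.ne_top ((Ideal.eq_top_iff_one _).2 (by simpa using Q.add_mem h (hJQ heJ')))
  have heP : e ∈ 𝔭 := by
    have h0 : e * (1 - e) ∈ 𝔭 := by rw [mul_sub, mul_one, he.eq, sub_self]; exact 𝔭.zero_mem
    exact (Ideal.IsPrime.mem_or_mem inferInstance h0).resolve_right fun h => he1 (hQge h)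
  intro c
  refine ⟨ψ c, ?_⟩
  have hker : c - algebraMap R C (ψ c) ∈ J := by
    show ψ (c - algebraMap R C (ψ c)) = 0
    rw [map_sub, AlgHom.commutes, Algebra.algebraMap_self, RingHom.id_apply, sub_self]
  rw [heJ] at hker
  have h2 : g (c - algebraMap R C (ψ c)) = 0 := ((Ideal.span_singleton_le_iff_mem _).2 heP) hker
  rw [map_sub, AlgHom.commutes, sub_eq_zero] at h2
  exact h2

/-- A finite unramified algebra with a point in a purely inseparable extension is trivial. -/
theorem surjective_of_inseparable {R : Type u} [CommRing R] [IsLocalRing R] {p a : ℕ} [Fact p.Prime]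
    [CharP (ResidueField R) p] {C : Type u} [CommRing C] [IsDomain C] [Algebra R C] [Module.Finite R C]
    [Algebra.FormallyUnramified R C] {S : Type u} [CommRing S] [Algebra R S] [Algebra.IsIntegral R C]
    (τ : C →ₐ[R] S) (hτ : Function.Injective τ) [Algebra.IsIntegral R S]
    (hS : ∀ s : S, ∃ r : R, s ^ p ^ a - algebraMap R S r ∈ (maximalIdeal R).map (algebraMap R S)) :
    Function.Surjective (algebraMap R C) := by
  let m := (maximalIdeal R).map (algebraMap R C)
  letI : Algebra C S := τ.toRingHom.toAlgebra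
  haveI : IsScalarTower R C S := IsScalarTower.of_algebraMap_eq fun r => (τ.commutes r).symm
  haveI : Algebra.IsIntegral C S := Algebra.IsIntegral.tower_top (R := R)
  let D := C ⧸ m
  let k := ResidueField R
  letI : Algebra k D := (Ideal.Quotient.lift (maximalIdeal R) ((Ideal.Quotient.mk m).comp (algebraMap R C))
    fun x hx => Ideal.Quotient.eq_zero_iff_mem.2 (Ideal.mem_map_of_mem _ hx)).toAlgebra
  haveI : IsScalarTower R k D := IsScalarTower.of_algebraMap_eq fun _ => rfl
  haveI : Algebra.FormallyUnramified R D :=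
    Algebra.FormallyUnramified.of_surjective (Ideal.Quotient.mkₐ R m) Ideal.Quotient.mk_surjective
  haveI : Algebra.FormallyUnramified k D := Algebra.FormallyUnramified.of_restrictScalars R k D
  haveI : Module.Finite k D := Module.Finite.of_restrictScalars_finite R k D
  haveI : IsReduced D := Algebra.FormallyUnramified.isReduced_of_field k D
  have hpow : ∀ d : D, ∃ c : k, d ^ p ^ a = algebraMap k D c := by
    intro d
    obtain ⟨y, rfl⟩ := Ideal.Quotient.mk_surjective d
    obtain ⟨r, hr⟩ := hS (τ y)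
    refine ⟨residue R r, ?_⟩
    rw [← map_pow]
    show Ideal.Quotient.mk m (y ^ p ^ a) = Ideal.Quotient.mk m (algebraMap R C r)
    rw [Ideal.Quotient.eq]
    have hrad : y ^ p ^ a - algebraMap R C r ∈ m.radical := by
      rw [Ideal.radical_eq_sInf]
      refine Submodule.mem_sInf.2 fun 𝔠 h𝔠 => ?_
      haveI := h𝔠.2
      obtain ⟨𝔰, -, h𝔰, h𝔰c⟩ := Ideal.exists_ideal_over_prime_of_isIntegral (R := C) (S := S) 𝔠 ⊥ (by
        rw [← RingHom.ker_eq_comap_bot, (RingHom.injective_iff_ker_eq_bot (algebraMap C S)).1 hτ]; exact bot_le)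
      rw [← h𝔰c]
      have hle : (maximalIdeal R).map (algebraMap R S) ≤ 𝔰 := by
        rw [IsScalarTower.algebraMap_eq R C S, ← Ideal.map_map, Ideal.map_le_iff_le_comap, h𝔰c]
        exact h𝔠.1
      show τ (y ^ p ^ a - algebraMap R C r) ∈ 𝔰
      rw [map_sub, map_pow, AlgHom.commutes]
      exact hle hr
    obtain ⟨N, hN⟩ := hrad
    exact Ideal.Quotient.eq_zero_iff_mem.1 (IsReduced.eq_zero _ ⟨N, by
      rw [← map_pow]; exact Ideal.Quotient.eq_zero_iff_mem.2 hN⟩)
  rcases subsingleton_or_nontrivial D with hD | hD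
  · haveI : m = ⊤ := Ideal.Quotient.subsingleton_iff.1 hD
    have h := Submodule.eq_bot_of_le_smul_of_le_jacobson_bot (maximalIdeal R) (⊤ : Submodule R C)
      Module.Finite.fg_top (by rw [Ideal.smul_top_eq_map]; intro x _; show x ∈ m; rw [this]; trivial)
      (maximalIdeal_le_jacobson ⊥)
    exact absurd ((Submodule.mem_bot R).1 (h ▸ Submodule.mem_top : (1 : C) ∈ (⊥ : Submodule R C))) one_ne_zero
  have hunit : ∀ d : D, d ≠ 0 → IsUnit d := fun d hd => by
    obtain ⟨c, hc⟩ := hpow d
    have hc0 : c ≠ 0 := fun h => hd (IsReduced.eq_zero _ ⟨p ^ a, by rw [hc, h, map_zero]⟩)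
    exact (isUnit_pow_iff (pow_ne_zero a (Fact.out : p.Prime).ne_zero)).1 (hc ▸ (isUnit_iff_ne_zero.2 hc0).map _)
  letI : Field D :=
    (⟨⟨0, 1, zero_ne_one⟩, mul_comm, fun {d} hd => (hunit d hd).exists_right_inv⟩ : IsField D).toField
  haveI : Algebra.IsSeparable k D := Algebra.FormallyUnramified.isSeparable k D
  haveI : ExpChar k p := ExpChar.prime Fact.out
  haveI : IsPurelyInseparable k D := (isPurelyInseparable_iff_pow_mem k p).2 fun d =>
    ⟨a, by obtain ⟨c, hc⟩ := hpow d; exact ⟨c, hc.symm⟩⟩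
  have hsurj := IsPurelyInseparable.surjective_algebraMap_of_isSeparable k D
  have htop : (⊤ : Submodule R C) ≤ LinearMap.range (Algebra.linearMap R C) ⊔ (maximalIdeal R) • ⊤ := by
    intro y _
    obtain ⟨c, hc⟩ := hsurj (Ideal.Quotient.mk m y)
    obtain ⟨r, rfl⟩ := residue_surjective c
    have hy : algebraMap R C r - y ∈ m := Ideal.Quotient.eq.1 hc
    refine Submodule.mem_sup.2 ⟨algebraMap R C r, ⟨r, rfl⟩, y - algebraMap R C r, ?_, add_sub_cancel _ _⟩
    rw [Ideal.smul_top_eq_map]
    exact neg_sub (algebraMap R C r) y ▸ m.neg_mem hy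
  have := Submodule.le_of_le_smul_of_le_jacobson_bot Module.Finite.fg_top (maximalIdeal_le_jacobson ⊥) htop
  exact fun y => this Submodule.mem_top

end Groth.Agent.H9Abh
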