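import Groth.Agent.H9Abh.AlgCover
import Groth.Agent.H9Abh.Rigid

/-!
# Points of a cover extending over a strictly henselian base
-/

set_option autoImplicit false
set_option linter.style.haveILetI false
set_option backward.isDefEq.respectTransparency false
set_option backward.isDefEq.respectTransparency.types false

universe u

open CategoryTheory CategoryTheory.Limits AlgebraicGeometry TensorProduct IsLocalRing

noncomputable section

namespace Groth.Agent.H9Abh

open Groth.Agent

theorem algEquiv_of_ofAlg_iso {R S S' : Type u} [CommRing R] [CommRing S] [CommRing S'] [Algebra R S] [Algebra R S']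
    {h1 : Module.Finite R S} {h2 : Algebra.Etale R S} {h1' : Module.Finite R S'} {h2' : Algebra.Etale R S'}
    (e : ofAlg R S h1 h2 ≅ ofAlg R S' h1' h2') : Nonempty (S ≃ₐ[R] S') := by
  let E : Spec (CommRingCat.of S') ≅ Spec (CommRingCat.of S) := ((MorphismProperty.Over.forget _ _ _ ⋙ Over.forget _).mapIso e).symm
  have hE : E.hom ≫ Spec.map (CommRingCat.ofHom (algebraMap R S)) = Spec.map (CommRingCat.ofHom (algebraMap R S')) :=
    Over.w e.inv.hom
  let r : CommRingCat.of S ≅ CommRingCat.of S' := (Spec.fullyFaithful.preimageIso E).unop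
  have hr : CommRingCat.ofHom (algebraMap R S) ≫ r.hom = CommRingCat.ofHom (algebraMap R S') := by
    refine Spec.map_injective ?_
    rw [Spec.map_comp, ← hE]
    congr 1
    exact Spec.fullyFaithful.map_preimage E.hom
  exact ⟨{ r.commRingCatIsoToRingEquiv with commutes' := fun x => congrArg (fun f => f.hom x) hr }⟩

/-- A finite étale cover of an affine scheme is given by an algebra. -/
theorem exists_ofAlg (R : Type u) [CommRing R] (W : FEt.Cat (Spec (CommRingCat.of R))) :
    ∃ (C : Type u) (_ : CommRing C) (_ : Algebra R C) (h1 : Module.Finite R C) (h2 : Algebra.Etale R C),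
      Nonempty (W ≅ ofAlg R C h1 h2) := by
  haveI : IsFinite W.hom := W.prop.1
  haveI : IsAffine ((Functor.fromPUnit (Spec (CommRingCat.of R))).obj W.right) :=
    inferInstanceAs (IsAffine (Spec (CommRingCat.of R)))
  haveI : IsAffine W.left := isAffine_of_isAffineHom W.hom
  letI : Algebra R Γ(W.left, ⊤) := (W.hom.appTop.hom.comp (Scheme.ΓSpecIso (CommRingCat.of R)).inv.hom).toAlgebra
  have hB : W.left.isoSpec.hom ≫ Spec.map (CommRingCat.ofHom (algebraMap R Γ(W.left, ⊤))) = W.hom := by
    rw [show CommRingCat.ofHom (algebraMap R Γ(W.left, ⊤)) =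
        (Scheme.ΓSpecIso (CommRingCat.of R)).inv ≫ W.hom.appTop from rfl, Spec.map_comp,
      Scheme.isoSpec_hom_naturality_assoc]
    simp [← Spec.map_comp]
  have hp : FEt.prop (Spec.map (CommRingCat.ofHom (algebraMap R Γ(W.left, ⊤)))) := by
    have e : Spec.map (CommRingCat.ofHom (algebraMap R Γ(W.left, ⊤))) = W.left.isoSpec.inv ≫ W.hom := by
      rw [← hB, Iso.inv_hom_id_assoc]
    rw [e, MorphismProperty.cancel_left_of_respectsIso FEt.prop]
    exact W.prop
  obtain ⟨h1, h2⟩ := (prop_spec_iff R _).1 hp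
  exact ⟨_, inferInstance, _, h1, h2, ⟨MorphismProperty.Over.isoMk W.left.isoSpec hB⟩⟩

/-- A point of a cover with values over a strictly henselian domain to which the cover extends is rational. -/
theorem range_of_extension {A A' S : Type u} [CommRing A] [CommRing A'] [CommRing S] [IsDomain S]
    [HenselianLocalRing S] [IsSepClosed (ResidueField S)] [Algebra A A'] [Algebra A' S] [Algebra A S]
    [IsScalarTower A A' S] {F : A} (V : FEt.Cat ((SGA1.specBasicOpen A F) : Scheme.{u}))
    (W : FEt.Cat (Spec (CommRingCat.of A')))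
    (e : (FEt.restrict ((Spec.map (CommRingCat.ofHom (algebraMap A A'))) ⁻¹ᵁ (SGA1.specBasicOpen A F)).ι).obj W ≅
      (FEt.restrict ((Spec.map (CommRingCat.ofHom (algebraMap A A'))) ∣_ (SGA1.specBasicOpen A F))).obj V)
    (K : Type u) [Field K] [Algebra S K] [IsFractionRing S K] [Algebra A K] [IsScalarTower A S K]
    (hF : algebraMap A K F ≠ 0) (M : Type u) [Field M] (j : K →+* M)
    (jB : letI : Algebra A Γ(V.left, ⊤) := (structHom V).toAlgebra; Γ(V.left, ⊤) →+* M)
    (hj : ∀ a, jB (structHom V a) = j (algebraMap A K a)) :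
    ∀ b, ∃ x : K, jB b = j x := by
  letI algB : Algebra A Γ(V.left, ⊤) := (structHom V).toAlgebra
  letI : Algebra A' K := ((algebraMap S K).comp (algebraMap A' S)).toAlgebra
  haveI : IsScalarTower A' S K := IsScalarTower.of_algebraMap_eq fun _ => rfl
  haveI : IsScalarTower A A' K := IsScalarTower.of_algebraMap_eq fun x => by
    rw [IsScalarTower.algebraMap_apply A' S K, ← IsScalarTower.algebraMap_apply A A' S,
      ← IsScalarTower.algebraMap_apply A S K]
  let p := Spec.map (CommRingCat.ofHom (algebraMap A A'))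
  let U := SGA1.specBasicOpen A F
  obtain ⟨jv, hjv⟩ := exists_lift_basic (R := K) F (isUnit_iff_ne_zero.2 hF)
  let q := Spec.map (CommRingCat.ofHom (algebraMap A' K))
  have hqp : q ≫ p = Spec.map (CommRingCat.ofHom (algebraMap A K)) := by
    show Spec.map _ ≫ Spec.map _ = _
    rw [← Spec.map_comp, ← CommRingCat.ofHom_comp, ← IsScalarTower.algebraMap_eq]
  have hmem : Set.range q.base ⊆ Set.range (p ⁻¹ᵁ U).ι.base := by
    rw [Scheme.Opens.range_ι]
    rintro _ ⟨x, rfl⟩
    show p.base (q.base x) ∈ U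
    rw [← Scheme.Hom.comp_apply, hqp, ← hjv, Scheme.Hom.comp_apply]
    exact (jv.base x).2
  let c := IsOpenImmersion.lift (p ⁻¹ᵁ U).ι q hmem
  have hc : c ≫ (p ⁻¹ᵁ U).ι = q := IsOpenImmersion.lift_fac _ _ _
  have hcj : c ≫ p ∣_ U = jv := by
    rw [← cancel_mono U.ι, Category.assoc, morphismRestrict_ι, reassoc_of% hc, hjv, hqp]
  obtain ⟨C, _, _, hC1, hC2, ⟨eW⟩⟩ := exists_ofAlg A' W
  haveI := hC1
  haveI := hC2
  obtain ⟨hB1, hB2, ⟨eV⟩⟩ := restrict_basic V jv hjv
  obtain ⟨e1⟩ := restrict_ofAlg A' C K hC1 hC2 inferInstance inferInstance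
  obtain ⟨θ⟩ := algEquiv_of_ofAlg_iso (e1.symm ≪≫ (FEt.restrict q).mapIso eW.symm ≪≫
    Pi1Ext.Spread.restrictComp c (p ⁻¹ᵁ U).ι q hc.symm W ≪≫ (FEt.restrict c).mapIso e ≪≫
    (Pi1Ext.Spread.restrictComp c (p ∣_ U) jv hcj.symm V).symm ≪≫ eV)
  letI : Algebra K M := j.toAlgebra
  letI : Algebra A M := (j.comp (algebraMap A K)).toAlgebra
  haveI : IsScalarTower A K M := IsScalarTower.of_algebraMap_eq fun _ => rfl
  let jB' : Γ(V.left, ⊤) →ₐ[A] M := { jB with commutes' := hj }
  let Φ : K ⊗[A] Γ(V.left, ⊤) →ₐ[K] M := Algebra.TensorProduct.lift (Algebra.ofId K M) jB' fun _ _ => .all _ _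
  let Ψ : K ⊗[A'] C →ₐ[K] M := Φ.comp θ.toAlgHom
  letI : Algebra A' M := (j.comp (algebraMap A' K)).toAlgebra
  haveI : IsScalarTower A' K M := IsScalarTower.of_algebraMap_eq fun _ => rfl
  letI : Algebra S M := (j.comp (algebraMap S K)).toAlgebra
  haveI : IsScalarTower A' S M := IsScalarTower.of_algebraMap_eq fun x => by
    show j (algebraMap A' K x) = j (algebraMap S K (algebraMap A' S x))
    rw [← IsScalarTower.algebraMap_apply A' S K]
  let g : C →ₐ[A'] M := (Ψ.restrictScalars A').comp Algebra.TensorProduct.includeRight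
  let g' : S ⊗[A'] C →ₐ[S] M := Algebra.TensorProduct.lift (Algebra.ofId S M) g fun _ _ => .all _ _
  have hinj : Function.Injective (algebraMap S M) := j.injective.comp (IsFractionRing.injective S K)
  have hrat : ∀ z : K ⊗[A'] C, ∃ x : K, Ψ z = j x := fun z => by
    induction z using TensorProduct.induction_on with
    | zero => exact ⟨0, by rw [map_zero, map_zero]⟩
    | add x y hx hy =>
      obtain ⟨a, ha⟩ := hx
      obtain ⟨b, hb⟩ := hy
      exact ⟨a + b, by rw [map_add, map_add, ha, hb]⟩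
    | tmul k c' =>
      obtain ⟨r, hr⟩ := exists_section_factor hinj g' ((1 : S) ⊗ₜ[A'] c')
      refine ⟨k * algebraMap S K r, ?_⟩
      have e1 : Ψ (k ⊗ₜ[A'] c') = j k * Ψ ((1 : K) ⊗ₜ[A'] c') := by
        rw [show k ⊗ₜ[A'] c' = k • ((1 : K) ⊗ₜ[A'] c') by rw [TensorProduct.smul_tmul', smul_eq_mul, mul_one],
          map_smul, Algebra.smul_def]
        rfl
      rw [Algebra.TensorProduct.lift_tmul, map_one, one_mul] at hr
      rw [e1, map_mul]
      exact congrArg (j k * ·) hr
  intro b
  obtain ⟨x, hx⟩ := hrat (θ.symm (1 ⊗ₜ b))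
  refine ⟨x, ?_⟩
  rw [← hx]
  show jB b = Φ (θ (θ.symm (1 ⊗ₜ b)))
  rw [AlgEquiv.apply_symm_apply, Algebra.TensorProduct.lift_tmul, map_one, one_mul]
  rfl

end Groth.Agent.H9Abh
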