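import Groth.Agent.H9Abh.LocalModel
import Groth.Agent.H9Abh.Split

/-!
# Covers of a basic open from algebras over the base
-/

set_option autoImplicit false
set_option linter.style.haveILetI false
set_option backward.isDefEq.respectTransparency false
set_option backward.isDefEq.respectTransparency.types false

universe u

open CategoryTheory CategoryTheory.Limits AlgebraicGeometry TensorProduct IsLocalRing

noncomputable section

namespace Groth.Agent.H9Abh

open Groth.Agent

attribute [local instance] Algebra.TensorProduct.rightAlgebra in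
/-- An algebra finite étale after inverting `F` gives a cover of the basic open, with coordinate ring the
localisation. -/
theorem exists_cover {A : Type u} [CommRing A] (F : A) (C : Type u) [CommRing C] [Algebra A C]
    (h1 : Module.Finite (Localization.Away F) (Localization.Away F ⊗[A] C))
    (h2 : Algebra.Etale (Localization.Away F) (Localization.Away F ⊗[A] C)) :
    ∃ (V : FEt.Cat ((SGA1.specBasicOpen A F) : Scheme.{u})) (g : C →+* Γ(V.left, ⊤)),
      g.comp (algebraMap A C) = structHom V ∧
      @IsLocalization.Away C _ (algebraMap A C F) Γ(V.left, ⊤) _ g.toAlgebra := by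
  let AF := Localization.Away F
  let U := SGA1.specBasicOpen A F
  let j : Spec (CommRingCat.of AF) ⟶ Spec (CommRingCat.of A) := Spec.map (CommRingCat.ofHom (algebraMap A AF))
  haveI : IsOpenImmersion j := IsOpenImmersion.of_isLocalization F
  have hr : Set.range j.base = Set.range U.ι.base := by
    rw [Scheme.Opens.range_ι]
    exact PrimeSpectrum.localization_away_comap_range AF F
  let e : Spec (CommRingCat.of AF) ≅ (U : Scheme.{u}) := IsOpenImmersion.isoOfRangeEq j U.ι hr
  have he : e.hom ≫ U.ι = j := IsOpenImmersion.isoOfRangeEq_hom_fac _ _ hr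
  let V := (FEt.restrict e.inv).obj (ofAlg AF (AF ⊗[A] C) h1 h2)
  letI algB : Algebra A Γ(V.left, ⊤) := (structHom V).toAlgebra
  obtain ⟨k1, k2, ⟨iV⟩⟩ := restrict_basic V e.hom he
  obtain ⟨θ⟩ := algEquiv_of_ofAlg_iso (iV.symm ≪≫
    (Pi1Ext.Spread.restrictComp e.hom e.inv (𝟙 _) e.hom_inv_id.symm (ofAlg AF (AF ⊗[A] C) h1 h2)).symm ≪≫
    Pi1Ext.Spread.restrictId _)
  -- `F` is invertible on the cover
  haveI : IsLocalization (Algebra.algebraMapSubmonoid Γ(V.left, ⊤) (Submonoid.powers F)) (AF ⊗[A] Γ(V.left, ⊤)) :=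
    inferInstance
  have hFu : IsUnit (structHom V F) := by
    have hu : IsUnit (U.ι.appTop ((Scheme.ΓSpecIso (CommRingCat.of A)).inv F)) := by
      have hb : (Spec (CommRingCat.of A)).basicOpen ((Scheme.ΓSpecIso (CommRingCat.of A)).inv F) = U :=
        basicOpen_eq_of_affine (R := CommRingCat.of A) F
      have h0 := RingedSpace.isUnit_res_basicOpen (Spec (CommRingCat.of A)).toRingedSpace
        ((Scheme.ΓSpecIso (CommRingCat.of A)).inv F)
      rw [Scheme.Opens.ι_appTop]
      have h1 : IsUnit ((Spec (CommRingCat.of A)).presheaf.map (homOfLE (le_top : U ≤ ⊤)).op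
          ((Scheme.ΓSpecIso (CommRingCat.of A)).inv F)) := by
        have key : ∀ W : (Spec (CommRingCat.of A)).Opens, ∀ h : (Spec (CommRingCat.of A)).basicOpen ((Scheme.ΓSpecIso (CommRingCat.of A)).inv F) = W,
            IsUnit ((Spec (CommRingCat.of A)).presheaf.map (homOfLE (le_top : W ≤ ⊤)).op
              ((Scheme.ΓSpecIso (CommRingCat.of A)).inv F)) := fun W h => by subst h; exact h0
        exact key U hb
      have key2 : ∀ W : (Spec (CommRingCat.of A)).Opens, ∀ h : W = U,
          IsUnit ((Spec (CommRingCat.of A)).presheaf.map (homOfLE (le_top : W ≤ ⊤)).op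
              ((Scheme.ΓSpecIso (CommRingCat.of A)).inv F)) := fun W h => by subst h; exact h1
      exact key2 _ (by simp)
    exact hu.map V.hom.appTop.hom
  let ε : Γ(V.left, ⊤) ≃ₐ[Γ(V.left, ⊤)] AF ⊗[A] Γ(V.left, ⊤) :=
    IsLocalization.atUnits _ (Algebra.algebraMapSubmonoid Γ(V.left, ⊤) (Submonoid.powers F)) (by
      rintro _ ⟨_, ⟨k, rfl⟩, rfl⟩
      rw [map_pow]
      exact hFu.pow k)
  let ψ : AF ⊗[A] C ≃+* Γ(V.left, ⊤) := θ.symm.toRingEquiv.trans ε.symm.toRingEquiv
  let g : C →+* Γ(V.left, ⊤) := ψ.toRingHom.comp (algebraMap C (AF ⊗[A] C))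
  have hg : g.comp (algebraMap A C) = structHom V := RingHom.ext fun a => by
    show ε.symm (θ.symm ((1 : AF) ⊗ₜ[A] algebraMap A C a)) = _
    rw [← Algebra.TensorProduct.includeRight_apply, AlgHom.commutes, IsScalarTower.algebraMap_apply A AF (AF ⊗[A] C),
      AlgEquiv.commutes, ← IsScalarTower.algebraMap_apply]
    exact ε.symm_apply_eq.2 ((Algebra.TensorProduct.includeRight : Γ(V.left, ⊤) →ₐ[A] AF ⊗[A] Γ(V.left, ⊤)).commutes a).symm
  refine ⟨V, g, hg, ?_⟩
  haveI : IsLocalization (Algebra.algebraMapSubmonoid C (Submonoid.powers F)) (AF ⊗[A] C) := inferInstance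
  letI : Algebra C Γ(V.left, ⊤) := g.toAlgebra
  have : IsLocalization (Algebra.algebraMapSubmonoid C (Submonoid.powers F)) Γ(V.left, ⊤) :=
    IsLocalization.isLocalization_of_algEquiv _ (AlgEquiv.ofRingEquiv (f := ψ) (fun _ => rfl) : AF ⊗[A] C ≃ₐ[C] Γ(V.left, ⊤))
  rwa [Algebra.algebraMapSubmonoid_powers] at this

/-- Generic points of such a cover embed into any field receiving the algebra. -/
theorem exists_residue_embedding {A : Type u} [CommRing A] [IsDomain A] {C B : Type u} [CommRing C] [IsDomain C]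
    [Algebra A C] [Algebra.IsIntegral A C] [CommRing B] [Algebra C B] [Algebra A B] [IsScalarTower A C B] {F : A}
    [IsLocalization.Away (algebraMap A C F) B] (hF : algebraMap A C F ≠ 0) {L : Type u} [Field L] (h : B →+* L)
    (hinj : Function.Injective (h.comp (algebraMap C B))) (q : Ideal B) [q.IsPrime]
    (hq : Ideal.comap (algebraMap A B) q = ⊥) :
    ∃ ι : q.ResidueField →+* L, ι.comp (algebraMap B q.ResidueField) = h := by
  have hq0 : q.comap (algebraMap C B) = ⊥ := by
    refine Ideal.eq_bot_of_comap_eq_bot (R := A) ?_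
    rw [Ideal.comap_comap, ← IsScalarTower.algebraMap_eq, hq]
  have hqbot : ∀ b ∈ q, b = 0 := fun b hb => by
    obtain ⟨⟨c, ⟨_, k, rfl⟩⟩, hc⟩ := IsLocalization.surj (Submonoid.powers (algebraMap A C F)) b
    have hcq : c ∈ q.comap (algebraMap C B) := by
      rw [Ideal.mem_comap, ← hc]; exact q.mul_mem_right _ hb
    rw [hq0, Ideal.mem_bot] at hcq
    dsimp only at hc
    rw [hcq, map_zero] at hc
    exact (IsUnit.mul_left_eq_zero (IsLocalization.map_units B
      (⟨_, k, rfl⟩ : Submonoid.powers (algebraMap A C F)))).1 hc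
  suffices hu : q.primeCompl ≤ Submonoid.comap h (IsUnit.submonoid L) from
    ⟨Ideal.ResidueField.lift q h (fun b hb => by rw [hqbot b hb]; exact Ideal.zero_mem _) hu,
      RingHom.ext fun b => Ideal.ResidueField.lift_algebraMap q h _ hu b⟩
  intro b hb
  obtain ⟨⟨c, ⟨_, k, rfl⟩⟩, hc⟩ := IsLocalization.surj (Submonoid.powers (algebraMap A C F)) b
  refine isUnit_iff_ne_zero.2 fun h0 => ?_
  have h1 : h (algebraMap C B c) = 0 := by rw [← hc, map_mul, h0, zero_mul]
  have hc0 : c = 0 := hinj (h1.trans (map_zero (h.comp (algebraMap C B))).symm)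
  dsimp only at hc
  rw [hc0, map_zero] at hc
  exact hb ((IsUnit.mul_left_eq_zero (IsLocalization.map_units B
    (⟨_, k, rfl⟩ : Submonoid.powers (algebraMap A C F)))).1 hc ▸ q.zero_mem)

/-- `Good` descends to subfields. -/
theorem good_subextension {A K : Type u} [CommRing A] [IsDomain A] [IsDiscreteValuationRing A] [Field K] [Algebra A K]
    [IsFractionRing A K] {L M : Type u} [Field L] [Field M] [Algebra K L] [Algebra K M] [Algebra L M]
    [IsScalarTower K L M] [FiniteDimensional K M] [Algebra.IsSeparable K M] {n : ℕ}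
    (h : Good A ((algebraMap K M).comp (algebraMap A K)) n) : Good A ((algebraMap K L).comp (algebraMap A K)) n := by
  intro V hV
  letI : Algebra A V := (RingHom.codRestrict _ V hV.1).toAlgebra
  intro _
  obtain ⟨W, hW, hWV⟩ := EtRamLib.exists_above (M := M) _ V hV
  rw [← EtRamLib.comp_eq (L := L)] at hW
  obtain ⟨i1, i2, i3, i4, i5, i6, i7, i8⟩ := EtRamLib.tame_iff_aux W hW V hV hWV
  letI : Algebra A W := (RingHom.codRestrict _ W hW.1).toAlgebra
  letI : Algebra V W := (RingHom.codRestrict ((algebraMap L M).comp V.subtype) W (fun x => hWV.ge x.2)).toAlgebra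
  obtain ⟨hsep, hd⟩ := @h W hW i2
  refine ⟨EtRamLib.isSeparable_residue_bot A V W, dvd_trans ?_ hd⟩
  rw [EtRamLib.ramificationIdx'_mul A V W i7 i8]
  exact dvd_mul_right _ _

end Groth.Agent.H9Abh
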