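import Groth.Agent.H9Abh.Rigid

/-!
# Finite unramified algebras inside a purely inseparable cover
-/

set_option autoImplicit false
set_option linter.style.haveILetI false
universe u

open IsLocalRing

namespace Groth.Agent.H9Abh

/-- A finite unramified algebra over `S_Q` embedded in the fraction field of an integral extension which is
radicial modulo `p ∈ Q` has values in the fraction field of `S`. -/
theorem range_of_inseparable {S S' : Type u} [CommRing S] [IsDomain S] [CommRing S'] [IsDomain S']
    [IsIntegrallyClosed S'] [Algebra S S'] [Algebra.IsIntegral S S'] {p a : ℕ} [Fact p.Prime]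
    (hP : ∀ x : S', ∃ c : S, x ^ p ^ a - algebraMap S S' c ∈ Ideal.span {(p : S')})
    (Q : Ideal S) [Q.IsPrime] (hpQ : (p : S) ∈ Q)
    {K K' : Type u} [Field K] [Field K'] [Algebra S K] [IsFractionRing S K] [Algebra S' K'] [IsFractionRing S' K']
    [Algebra K K'] [Algebra S K'] [IsScalarTower S K K'] [IsScalarTower S S' K']
    {E : Type u} [Field E] [Algebra K E] (σ : E →ₐ[K] K')
    (R : Type u) [CommRing R] [IsLocalRing R] [Algebra S R] [IsLocalization.AtPrime R Q] [Algebra R K]
    [IsScalarTower S R K]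
    {C : Type u} [CommRing C] [IsDomain C] [Algebra R C] [Module.Finite R C]
    [Algebra.FormallyUnramified R C]
    (i : C →+* E) (hi : Function.Injective i)
    (hic : ∀ r, i (algebraMap R C r) = algebraMap K E (algebraMap R K r)) :
    ∀ y : C, ∃ x : K, i y = algebraMap K E x := by
  letI : Algebra R K' := ((algebraMap K K').comp (algebraMap R K)).toAlgebra
  haveI : IsScalarTower R K K' := IsScalarTower.of_algebraMap_eq fun _ => rfl
  haveI : IsScalarTower S R K' := IsScalarTower.of_algebraMap_eq fun x => by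
    rw [IsScalarTower.algebraMap_apply R K K', ← IsScalarTower.algebraMap_apply S R K,
      ← IsScalarTower.algebraMap_apply S K K']
  haveI : Algebra.IsIntegral R C := Algebra.IsIntegral.of_finite R C
  let I := integralClosure R K'
  let τ₀ : C →ₐ[R] K' :=
    { σ.toRingHom.comp i with
      commutes' := fun r => by
        show σ (i (algebraMap R C r)) = _
        rw [hic, AlgHom.commutes, ← IsScalarTower.algebraMap_apply] }
  let τ : C →ₐ[R] I := τ₀.codRestrict I fun y => (Algebra.IsIntegral.isIntegral y).map τ₀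
  haveI : Algebra.IsIntegral R I := ⟨fun x => (isIntegral_algHom_iff I.val Subtype.val_injective).1 x.2⟩
  have hpm : algebraMap S R (p : S) ∈ maximalIdeal R := (IsLocalization.AtPrime.to_map_mem_maximal_iff R Q _).2 hpQ
  haveI : CharP (ResidueField R) p := by
    refine (CharP.charP_iff_prime_eq_zero Fact.out).2 ?_
    rw [← map_natCast (residue R), residue_eq_zero_iff, ← map_natCast (algebraMap S R)]
    exact hpm
  have hS : ∀ s : I, ∃ r : R, s ^ p ^ a - algebraMap R I r ∈ (maximalIdeal R).map (algebraMap R I) := by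
    rintro ⟨s, hs⟩
    obtain ⟨⟨u, hu⟩, hus⟩ := IsIntegral.exists_multiple_integral_of_isLocalization Q.primeCompl s hs
    have hus' : IsIntegral S' (algebraMap S K' u * s) := by
      rw [← Algebra.smul_def]
      exact hus.tower_top
    obtain ⟨x, hx⟩ := IsIntegrallyClosed.isIntegral_iff.1 hus'
    obtain ⟨c, hc⟩ := hP x
    obtain ⟨z, hz⟩ := Ideal.mem_span_singleton'.1 hc
    obtain ⟨v, hv⟩ := IsLocalization.map_units R (⟨u, hu⟩ : Q.primeCompl)
    have hv' : algebraMap R K' (v⁻¹ : Rˣ) * algebraMap S K' u = 1 := by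
      rw [IsScalarTower.algebraMap_apply S R K', ← hv, ← map_mul, Units.inv_mul, map_one]
    refine ⟨(v⁻¹ : Rˣ) ^ p ^ a * algebraMap S R c, ?_⟩
    have hzI : IsIntegral R (algebraMap R K' ((v⁻¹ : Rˣ) ^ p ^ a) * algebraMap S' K' z) :=
      isIntegral_algebraMap.mul (((Algebra.IsIntegral.isIntegral (R := S) z).map (IsScalarTower.toAlgHom S S' K')).tower_top)
    have e : (⟨s, hs⟩ : I) ^ p ^ a - algebraMap R I ((v⁻¹ : Rˣ) ^ p ^ a * algebraMap S R c) =
        algebraMap R I (algebraMap S R (p : S)) * (⟨_, hzI⟩ : I) := Subtype.ext (by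
      show s ^ p ^ a - algebraMap R K' _ = algebraMap R K' _ * _
      rw [← IsScalarTower.algebraMap_apply S R K', map_mul, ← IsScalarTower.algebraMap_apply S R K']
      have hs' : s = algebraMap R K' (v⁻¹ : Rˣ) * algebraMap S' K' x := by rw [hx, ← mul_assoc, hv', one_mul]
      have hz' : algebraMap S' K' z * algebraMap S K' (p : S) =
          algebraMap S' K' x ^ p ^ a - algebraMap S K' c := by
        rw [IsScalarTower.algebraMap_apply S S' K' c, IsScalarTower.algebraMap_apply S S' K' (p : S), ← map_mul,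
          ← map_pow, ← map_sub, map_natCast, hz]
      rw [hs', mul_pow, ← map_pow, ← mul_sub, ← hz']
      ring)
    rw [e]
    exact Ideal.mul_mem_right _ _ (Ideal.mem_map_of_mem _ hpm)
  have hτ : Function.Injective τ := fun x y h => hi (σ.injective (congrArg Subtype.val h))
  intro y
  obtain ⟨r, rfl⟩ := surjective_of_inseparable (p := p) (a := a) τ hτ hS y
  exact ⟨algebraMap R K r, hic r⟩

/-- An algebra generated by `p ^ a`-th roots is radicial modulo `p`. -/
theorem pow_sub_mem_of_adjoin {S S' : Type u} [CommRing S] [CommRing S'] [Algebra S S'] {p a : ℕ} [Fact p.Prime]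
    (G : Set S') (hG : Algebra.adjoin S G = ⊤) (hGp : ∀ g ∈ G, ∃ c : S, g ^ p ^ a = algebraMap S S' c)
    (hS : ∀ c : S, ∃ d : S, algebraMap S S' c ^ p ^ a = algebraMap S S' d) (x : S') :
    ∃ c : S, x ^ p ^ a - algebraMap S S' c ∈ Ideal.span {(p : S')} := by
  have hx : x ∈ Algebra.adjoin S G := hG ▸ Algebra.mem_top
  induction hx using Algebra.adjoin_induction with
  | mem g hg =>
    obtain ⟨c, hc⟩ := hGp g hg
    exact ⟨c, by rw [hc, sub_self]; exact zero_mem _⟩
  | algebraMap c =>
    obtain ⟨d, hd⟩ := hS c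
    exact ⟨d, by rw [hd, sub_self]; exact zero_mem _⟩
  | add y z _ _ hy hz =>
    obtain ⟨c, hc⟩ := hy
    obtain ⟨d, hd⟩ := hz
    obtain ⟨w, hw⟩ := exists_add_pow_prime_pow_eq (Fact.out : p.Prime) y z a
    refine ⟨c + d, ?_⟩
    have e : (y + z) ^ p ^ a - algebraMap S S' (c + d) =
        (y ^ p ^ a - algebraMap S S' c) + (z ^ p ^ a - algebraMap S S' d) + (p : S') * y * z * w := by
      rw [hw, map_add]; ring
    rw [e]
    exact add_mem (add_mem hc hd)
      (Ideal.mul_mem_right _ _ (Ideal.mul_mem_right _ _ (Ideal.mul_mem_right _ _ (Ideal.mem_span_singleton_self _))))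
  | mul y z _ _ hy hz =>
    obtain ⟨c, hc⟩ := hy
    obtain ⟨d, hd⟩ := hz
    refine ⟨c * d, ?_⟩
    have e : (y * z) ^ p ^ a - algebraMap S S' (c * d) =
        (y ^ p ^ a - algebraMap S S' c) * z ^ p ^ a + algebraMap S S' c * (z ^ p ^ a - algebraMap S S' d) := by
      rw [map_mul]; ring
    rw [e]
    exact add_mem (Ideal.mul_mem_right _ _ hc) (Ideal.mul_mem_left _ _ hd)

end Groth.Agent.H9Abh
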