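import Groth.Agent.RegLoc6.Basic
import Groth.Agent.RegLoc6.Normal
import Mathlib

/-!
# Parameters of regular local rings
-/

set_option autoImplicit false
set_option linter.style.haveILetI false
universe u

open IsLocalRing

namespace Groth.Agent.H9Abh

open Groth.Agent

variable {R : Type u} [CommRing R] [IsRegularLocalRing R]

/-- Injectively indexed members of a minimal generating set have independent differentials. -/
theorem linearIndependent_of_gens {ι : Type*} (x : ι → R) (hx : Function.Injective x) (S : Set R) (hS : S.Finite)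
    (hxS : Set.range x ⊆ S) (hspan : maximalIdeal R = Ideal.span S) (hcard : (S.ncard : WithBot ℕ∞) ≤ ringKrullDim R)
    (hm : ∀ i, x i ∈ maximalIdeal R) :
    LinearIndependent (ResidueField R) (fun i => (maximalIdeal R).toCotangent ⟨x i, hm i⟩) := by
  classical
  haveI := hS.fintype
  have hSm : ∀ s : S, (s : R) ∈ maximalIdeal R := fun s => hspan ▸ Ideal.subset_span s.2
  let g : S → maximalIdeal R := fun s => ⟨s, hSm s⟩
  have hG : Submodule.span R (Set.range g) = ⊤ := by
    refine eq_top_iff.2 fun y _ => ?_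
    have hy : (y : R) ∈ Submodule.span R S := hspan.le y.2
    have : Submodule.span R S ≤ (Submodule.span R (Set.range g)).map (maximalIdeal R).subtype := by
      rw [Submodule.map_span]
      exact Submodule.span_mono fun s hs => ⟨g ⟨s, hs⟩, ⟨_, rfl⟩, rfl⟩
    obtain ⟨z, hz, hzy⟩ := this hy
    have hzy' : z = y := Subtype.ext hzy
    exact hzy' ▸ hz
  have hspan' := CotangentSpace.span_image_eq_top_iff.2 hG
  rw [← Set.range_comp] at hspan'
  have hc : Fintype.card S ≤ Module.finrank (ResidueField R) (CotangentSpace R) := by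
    rw [← (IsRegularLocalRing.iff_finrank_cotangentSpace R).1 ‹_›, Nat.cast_le] at hcard
    rwa [← Nat.card_eq_fintype_card, Nat.card_coe_set_eq]
  have hli := linearIndependent_of_top_le_span_of_card_le_finrank hspan'.ge hc
  exact hli.comp (fun i => (⟨x i, hxS ⟨i, rfl⟩⟩ : S)) fun i j h => hx (congrArg Subtype.val h)

theorem notMem_sq_of_linearIndependent {ι : Type*} {x : ι → R} (hm : ∀ i, x i ∈ maximalIdeal R)
    (hli : LinearIndependent (ResidueField R) (fun i => (maximalIdeal R).toCotangent ⟨x i, hm i⟩)) (i : ι) :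
    x i ∉ maximalIdeal R ^ 2 := fun h => hli.ne_zero i ((Ideal.toCotangent_eq_zero _ _).2 h)

theorem prime_span_of_notMem_sq {x : R} (hx : x ∈ maximalIdeal R) (hx2 : x ∉ maximalIdeal R ^ 2) :
    (Ideal.span {x}).IsPrime ∧ x ≠ 0 := by
  haveI := (RegLoc6.isRegularLocalRing_quot_and hx hx2).1
  haveI := RegLoc6.isDomain_of_isRegularLocalRing (R ⧸ Ideal.span {x})
  exact ⟨(Ideal.Quotient.isDomain_iff_prime _).1 inferInstance, fun h => hx2 (h ▸ Submodule.zero_mem _)⟩

omit [IsRegularLocalRing R] in
/-- A prime of height at most one containing a nonzero prime element is generated by it. -/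
theorem eq_span_of_height_le_one [IsDomain R] {x : R} (hxp : (Ideal.span {x}).IsPrime) (hx : x ≠ 0) {P : Ideal R}
    [P.IsPrime] (hP : P.height ≤ 1) (hxP : x ∈ P) : P = Ideal.span {x} := by
  haveI := hxp
  refine (eq_of_le_of_not_lt ((Ideal.span_singleton_le_iff_mem _).2 hxP) fun hlt => ?_).symm
  have h1 := Ideal.height_add_one_le_of_lt_of_isPrime hlt
  have h2 : (⊥ : Ideal R) < Ideal.span {x} := bot_lt_iff_ne_bot.2 (mt Ideal.span_singleton_eq_bot.1 hx)
  have h3 := Ideal.height_add_one_le_of_lt_of_isPrime h2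
  have : (1 : ℕ∞) + 1 ≤ 1 := calc
    (1 : ℕ∞) + 1 ≤ (⊥ : Ideal R).height + 1 + 1 := by gcongr; exact le_add_self
    _ ≤ (Ideal.span {x}).height + 1 := by gcongr
    _ ≤ P.height := h1
    _ ≤ 1 := hP
  norm_num at this

end Groth.Agent.H9Abh
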