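import Groth.Agent.H9Abh.Extend
import Groth.Agent.H9Abh.Insep
import Groth.Agent.H9Abh.Params
import Groth.Agent.H9Abh.Split
import Groth.Agent.Hensel.IntegralStrict

/-!
# Covers extending after extracting `p`-power roots are split over strictly henselian bases
-/

set_option autoImplicit false
set_option linter.style.haveILetI false
set_option backward.isDefEq.respectTransparency false
set_option backward.isDefEq.respectTransparency.types false

universe u

open CategoryTheory CategoryTheory.Limits AlgebraicGeometry TensorProduct IsLocalRing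

noncomputable section

namespace Groth.Agent.H9Abh

open Groth.Agent

/-- A finite unramified model at a prime containing `p` is rational. -/
theorem exists_finite_unramified {R K E : Type u} [CommRing R] [IsDomain R] [IsDiscreteValuationRing R] [Field K]
    [Algebra R K] [IsFractionRing R K] [Field E] [Algebra K E] [FiniteDimensional K E] [Algebra.IsSeparable K E]
    (h : EtRam.IsUnramifiedExt R ((algebraMap K E).comp (algebraMap R K))) (x : E) :
    ∃ (C : Type u) (_ : CommRing C) (_ : IsDomain C) (_ : Algebra R C) (i : C →+* E),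
      Module.Finite R C ∧ Algebra.FormallyUnramified R C ∧ Function.Injective i ∧
      (∀ r, i (algebraMap R C r) = algebraMap K E (algebraMap R K r)) ∧
      ∃ (c : C) (d : K), x = i c * algebraMap K E d := by
  letI : Algebra R E := ((algebraMap K E).comp (algebraMap R K)).toAlgebra
  haveI : IsScalarTower R K E := IsScalarTower.of_algebraMap_eq fun _ => rfl
  obtain ⟨h1, h2⟩ := etale_integralClosure h
  haveI := h1
  haveI := h2
  haveI := IsIntegralClosure.isLocalization R K E (integralClosure R E)
  obtain ⟨⟨c, ⟨_, r, hr, rfl⟩⟩, hc⟩ :=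
    IsLocalization.surj (Algebra.algebraMapSubmonoid (integralClosure R E) (nonZeroDivisors R)) x
  refine ⟨integralClosure R E, inferInstance, inferInstance, inferInstance, (integralClosure R E).val.toRingHom,
    h1, inferInstance, Subtype.val_injective, fun r => rfl, c, (algebraMap R K r)⁻¹, ?_⟩
  have hr0 : algebraMap K E (algebraMap R K r) ≠ 0 :=
    (map_ne_zero _).2 ((map_ne_zero_iff _ (IsFractionRing.injective R K)).2 (nonZeroDivisors.ne_zero hr))
  have hc' : x * algebraMap K E (algebraMap R K r) = (c : E) := hc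
  rw [map_inv₀]
  exact (eq_mul_inv_iff_mul_eq₀ hr0).2 hc'

set_option maxHeartbeats 2000000 in
/-- The splitting, in terms of an abstract radicial extension. -/
theorem rational_core {A : Type u} [CommRing A] [IsRegularLocalRing A] [IsDomain A] {r : ℕ} {f : Fin r → A}
    (hm : ∀ i, f i ∈ maximalIdeal A)
    (hf : LinearIndependent (ResidueField A) (fun i => (maximalIdeal A).toCotangent ⟨f i, hm i⟩))
    [∀ i, (Ideal.span {f i}).IsPrime] (V : FEt.Cat ((SGA1.specBasicOpen A (∏ i, f i)) : Scheme.{u}))
    (n : Fin r → ℕ) (hu : ∀ i, IsUnit (n i : Localization.AtPrime (Ideal.span {f i})))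
    (hgood : letI : Algebra A Γ(V.left, ⊤) := (structHom V).toAlgebra
      ∀ (i : Fin r) (q : Ideal Γ(V.left, ⊤)) [q.IsPrime] (hq : Ideal.comap (algebraMap A Γ(V.left, ⊤)) q = ⊥),
        Good (Localization.AtPrime (Ideal.span {f i}))
          (SGA1.genericResidueMap (algebraMap A Γ(V.left, ⊤)) (Ideal.span {f i}) q hq) (n i))
    (p : ℕ) [Fact p.Prime] (n' : Fin r → ℕ)
    (hJ : ∀ i, (p : A) ∈ Ideal.span {f i} → n i = n' i)
    (S : Type u) [CommRing S] [IsRegularLocalRing S] [IsDomain S] [Algebra A S] (hinj : Function.Injective (algebraMap A S))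
    (t : Fin r → S) (htm : ∀ i, t i ∈ maximalIdeal S)
    (htli : LinearIndependent (ResidueField S) (fun i => (maximalIdeal S).toCotangent ⟨t i, htm i⟩))
    (ht : ∀ i, t i ^ n' i = algebraMap A S (f i))
    (hcomap : ∀ i, (Ideal.span {t i}).comap (algebraMap A S) = Ideal.span {f i})
    (hpS : (p : S) ∈ maximalIdeal S)
    (A' : Type u) [CommRing A'] [Algebra A A'] (W : FEt.Cat (Spec (CommRingCat.of A')))
    (e : (FEt.restrict ((Spec.map (CommRingCat.ofHom (algebraMap A A'))) ⁻¹ᵁ (SGA1.specBasicOpen A (∏ i, f i))).ι).obj W ≅ (FEt.restrict ((Spec.map (CommRingCat.ofHom (algebraMap A A'))) ∣_ (SGA1.specBasicOpen A (∏ i, f i)))).obj V)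
    (S' : Type u) [CommRing S'] [IsDomain S'] [IsIntegrallyClosed S'] [HenselianLocalRing S']
    [IsSepClosed (ResidueField S')] [Algebra S S'] [Algebra.IsIntegral S S']
    (hinj' : Function.Injective (algebraMap S S')) [Algebra A S'] [IsScalarTower A S S'] [Algebra A' S']
    [IsScalarTower A A' S'] {N : ℕ}
    (hP : ∀ x : S', ∃ c : S, x ^ p ^ N - algebraMap S S' c ∈ Ideal.span {(p : S')})
    (M : Type u) [Field M] (j : FractionRing S →+* M)
    (jB : letI : Algebra A Γ(V.left, ⊤) := (structHom V).toAlgebra; Γ(V.left, ⊤) →+* M)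
    (hj : ∀ a, jB (structHom V a) = j (algebraMap A (FractionRing S) a)) :
    ∀ b, ∃ x : FractionRing S, jB b = j x := by
  classical
  letI algB : Algebra A Γ(V.left, ⊤) := (structHom V).toAlgebra
  let B := Γ(V.left, ⊤)
  let F₀ := ∏ i, f i
  have hF₀ : F₀ ≠ 0 := Finset.prod_ne_zero_iff.2 fun i _ => f_ne_zero hm hf i
  let K := FractionRing S
  haveI : IsScalarTower A S K := IsScalarTower.of_algebraMap_eq fun _ => rfl
  have hinjK : Function.Injective (algebraMap A K) := by
    rw [IsScalarTower.algebraMap_eq A S K]; exact (IsFractionRing.injective S K).comp hinj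
  obtain ⟨jv, hjv⟩ := exists_lift_basic (R := K) F₀ (isUnit_iff_ne_zero.2 ((map_ne_zero_iff _ hinjK).2 hF₀))
  obtain ⟨hKB1, hKB2, -⟩ := restrict_basic V jv hjv
  haveI := hKB1
  haveI := hKB2
  -- the field generated by the point
  letI : Algebra K M := j.toAlgebra
  letI : Algebra A M := (j.comp (algebraMap A K)).toAlgebra
  haveI : IsScalarTower A K M := IsScalarTower.of_algebraMap_eq fun _ => rfl
  let jB' : B →ₐ[A] M := { jB with commutes' := hj }
  let Φ : K ⊗[A] B →ₐ[K] M := Algebra.TensorProduct.lift (Algebra.ofId K M) jB' fun _ _ => .all _ _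
  haveI : Module.Finite K Φ.range := Module.Finite.of_surjective Φ.rangeRestrict.toLinearMap Φ.rangeRestrict_surjective
  let E : IntermediateField K M :=
    Subalgebra.toIntermediateField' Φ.range (isField_of_isIntegral_of_isField' (Field.toIsField K))
  let φ : K ⊗[A] B →ₐ[K] E := Φ.codRestrict E.toSubalgebra fun z => ⟨z, rfl⟩
  have hφ : Function.Surjective φ := by
    rintro ⟨x, z, rfl⟩; exact ⟨z, Subtype.ext rfl⟩
  haveI : FiniteDimensional K E := Module.Finite.of_surjective φ.toLinearMap hφ
  haveI : Algebra.IsSeparable K E := by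
    haveI : Algebra.FormallyUnramified K E := Algebra.FormallyUnramified.of_surjective φ hφ
    exact Algebra.FormallyUnramified.isSeparable K E
  have hΦb : ∀ b, Φ (1 ⊗ₜ b) = jB b := fun b => by
    rw [Algebra.TensorProduct.lift_tmul, map_one, one_mul]; rfl
  suffices hE : ∀ x : E, ∃ y : K, x = algebraMap K E y by
    intro b
    obtain ⟨y, hy⟩ := hE (φ (1 ⊗ₜ b))
    exact ⟨y, (hΦb b).symm.trans (congrArg Subtype.val hy)⟩
  let K' := FractionRing S'
  haveI : IsScalarTower A S' K' := IsScalarTower.of_algebraMap_eq fun _ => rfl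
  have hSK' : Function.Injective ((algebraMap S' K').comp (algebraMap S S')) := (IsFractionRing.injective S' K').comp hinj'
  letI : Algebra K K' := (IsFractionRing.lift (A := S) (K := K) hSK').toAlgebra
  haveI : IsScalarTower S S' K' := IsScalarTower.of_algebraMap_eq fun _ => rfl
  haveI : IsScalarTower S K K' := IsScalarTower.of_algebraMap_eq fun x => by
    rw [RingHom.algebraMap_toAlgebra, IsFractionRing.lift_algebraMap]; rfl
  haveI : IsScalarTower A K K' := IsScalarTower.of_algebraMap_eq fun x => by
    rw [IsScalarTower.algebraMap_apply A S' K', IsScalarTower.algebraMap_apply A S S',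
      ← IsScalarTower.algebraMap_apply S S' K', IsScalarTower.algebraMap_apply S K K',
      ← IsScalarTower.algebraMap_apply A S K]
  -- the point becomes rational over the radicial extension
  let M₂ := AlgebraicClosure K'
  haveI : Algebra.IsAlgebraic K E := Algebra.IsAlgebraic.of_finite K E
  let jE : E →ₐ[K] M₂ := IsAlgClosed.lift
  have hF' : algebraMap A K' F₀ ≠ 0 := by
    rw [IsScalarTower.algebraMap_apply A K K', map_ne_zero]
    exact (map_ne_zero_iff _ hinjK).2 hF₀
  have hrat : ∀ x : E, ∃ y : K', jE x = algebraMap K' M₂ y := by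
    have hb := range_of_extension (S := S') V W e K' hF' M₂ (algebraMap K' M₂)
      (jE.toRingHom.comp ((φ.toRingHom).comp (Algebra.TensorProduct.includeRight : B →ₐ[A] K ⊗[A] B).toRingHom))
      (fun a => by
        show jE (φ ((1 : K) ⊗ₜ[A] algebraMap A B a)) = _
        rw [← Algebra.TensorProduct.includeRight_apply, AlgHom.commutes, IsScalarTower.algebraMap_apply A K (K ⊗[A] B),
          AlgHom.commutes, AlgHom.commutes, IsScalarTower.algebraMap_apply A K K', ← IsScalarTower.algebraMap_apply K K' M₂])
    intro x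
    obtain ⟨z, rfl⟩ := hφ x
    induction z using TensorProduct.induction_on with
    | zero => exact ⟨0, by rw [map_zero, map_zero, map_zero]⟩
    | add x y hx hy =>
      obtain ⟨c, hc⟩ := hx
      obtain ⟨d, hd⟩ := hy
      exact ⟨c + d, by rw [map_add, map_add, map_add, hc, hd]⟩
    | tmul k b =>
      obtain ⟨c, hc⟩ := hb b
      refine ⟨algebraMap K K' k * c, ?_⟩
      rw [show k ⊗ₜ[A] b = algebraMap K (K ⊗[A] B) k * ((1 : K) ⊗ₜ[A] b) by
        rw [Algebra.TensorProduct.algebraMap_apply, Algebra.algebraMap_self, RingHom.id_apply,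
          Algebra.TensorProduct.tmul_mul_tmul, mul_one, one_mul]]
      rw [map_mul, map_mul, AlgHom.commutes, AlgHom.commutes, map_mul, ← IsScalarTower.algebraMap_apply K K' M₂]
      exact congrArg (algebraMap K M₂ k * ·) hc
  let ιM : K' →ₐ[K] M₂ := IsScalarTower.toAlgHom K K' M₂
  let σ : E →ₐ[K] K' := (AlgEquiv.ofInjective ιM (algebraMap K' M₂).injective).symm.toAlgHom.comp
    (jE.codRestrict ιM.range fun x => by obtain ⟨y, hy⟩ := hrat x; exact ⟨y, hy.symm⟩)
  -- a height one prime over `p`
  have hne : (Ideal.span {(p : S)}) ≠ ⊤ := fun h => (mem_maximalIdeal _).1 hpS (Ideal.span_singleton_eq_top.1 h)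
  obtain ⟨Q, hQmin⟩ := Ideal.nonempty_minimalPrimes hne
  haveI : Q.IsPrime := hQmin.1.1
  have hpQ : (p : S) ∈ Q := hQmin.1.2 (Ideal.mem_span_singleton_self _)
  have hQh : Q.height ≤ 1 := Ideal.height_le_one_of_isPrincipal_of_mem_minimalPrimes (Ideal.span {(p : S)}) Q hQmin
  haveI hQreg := RegLoc6.isRegularLocalRing_localization S Q
  let R := Localization.AtPrime Q
  haveI : IsDomain R := IsLocalization.isDomain_localization Q.primeCompl_le_nonZeroDivisors
  haveI : IsIntegrallyClosed R := RegLoc6.isIntegrallyClosed_of_isRegularLocalRing R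
  haveI : IsFractionRing R K := IsFractionRing.isFractionRing_of_isDomain_of_isLocalization Q.primeCompl R K
  haveI : IsScalarTower A R K := IsScalarTower.of_algebraMap_eq fun x => by
    rw [IsScalarTower.algebraMap_apply A S R, ← IsScalarTower.algebraMap_apply S R K,
      ← IsScalarTower.algebraMap_apply A S K]
  intro x
  by_cases hFQ : algebraMap A S F₀ ∈ Q
  · -- a branch of residue characteristic `p`
    rw [map_prod] at hFQ
    obtain ⟨i, -, hi⟩ := (Ideal.IsPrime.prod_mem_iff).1 hFQ
    have hti : t i ∈ Q := Ideal.IsPrime.mem_of_pow_mem inferInstance (n' i) (by rw [ht]; exact hi)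
    obtain ⟨htp, ht0⟩ := prime_span_of_notMem_sq (htm i) (notMem_sq_of_linearIndependent htm htli i)
    have hQeq : Q = Ideal.span {t i} := eq_span_of_height_le_one htp ht0 hQh hti
    have hpf : (p : A) ∈ Ideal.span {f i} := by
      rw [← hcomap i, ← hQeq, Ideal.mem_comap, map_natCast]; exact hpQ
    have hni : n i = n' i := hJ i hpf
    haveI : IsDiscreteValuationRing R := isDVR_atPrime (t i) ht0 Q hQeq
    haveI : IsDiscreteValuationRing (Localization.AtPrime (Ideal.span {f i})) :=
      isDVR_atPrime (f i) (f_ne_zero hm hf i) _ rfl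
    have hAR : Ideal.comap (algebraMap A R) (maximalIdeal R) = Ideal.span {f i} := by
      rw [IsScalarTower.algebraMap_eq A S R, ← Ideal.comap_comap,
        show Ideal.comap (algebraMap S R) (maximalIdeal R) = Q from IsLocalization.AtPrime.under_maximalIdeal R Q,
        hQeq, hcomap]
    obtain ⟨hfinK, hetK⟩ := generic_finite_etale hF₀ V
    haveI := hfinK
    haveI := hetK
    have hunr := unramified_factor (B := B) (Ideal.span {f i}) (irreducible_of_span (f i) (f_ne_zero hm hf i) _ rfl)
      K hAR hinjK (hu i) (algebraMap S R (t i))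
      (by rw [hni, ← map_pow, ht, ← IsScalarTower.algebraMap_apply]) (fun q _ hq => hgood i q hq) E φ.toRingHom hφ
    rw [show φ.toRingHom.comp (algebraMap K (K ⊗[A] B)) = algebraMap K E from φ.comp_algebraMap] at hunr
    obtain ⟨C, _, _, _, ι, hC1, hC2, hι, hιR, c, d, hcd⟩ := exists_finite_unramified hunr x
    haveI := hC1
    haveI := hC2
    obtain ⟨y, hy⟩ := range_of_inseparable (S' := S') (p := p) (a := N) hP Q hpQ σ R ι hι hιR c
    exact ⟨y * d, by rw [hcd, hy, map_mul]⟩
  · -- the cover is étale there
    have hFR : IsUnit (algebraMap A R F₀) := by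
      rw [IsScalarTower.algebraMap_apply A S R]
      exact (IsLocalization.AtPrime.isUnit_to_map_iff R Q _).2 hFQ
    obtain ⟨jR, hjR⟩ := exists_lift_basic (R := R) F₀ hFR
    obtain ⟨hRB1, hRB2, -⟩ := restrict_basic V jR hjR
    haveI := hRB1
    haveI := hRB2
    letI : Algebra R E := ((algebraMap K E).comp (algebraMap R K)).toAlgebra
    haveI : IsScalarTower R K E := IsScalarTower.of_algebraMap_eq fun _ => rfl
    haveI : IsScalarTower A R E := IsScalarTower.of_algebraMap_eq fun x => by
      show algebraMap A E x = algebraMap K E (algebraMap R K (algebraMap A R x))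
      rw [← IsScalarTower.algebraMap_apply A R K, ← IsScalarTower.algebraMap_apply A K E]
    let χ : R ⊗[A] B →ₐ[R] E := Algebra.TensorProduct.lift (Algebra.ofId R E)
      ((φ.restrictScalars A).comp Algebra.TensorProduct.includeRight) fun _ _ => .all _ _
    haveI : Module.Finite R χ.range := Module.Finite.of_surjective χ.rangeRestrict.toLinearMap χ.rangeRestrict_surjective
    haveI : Algebra.FormallyUnramified R χ.range :=
      Algebra.FormallyUnramified.of_surjective χ.rangeRestrict χ.rangeRestrict_surjective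
    obtain ⟨z, rfl⟩ := hφ x
    induction z using TensorProduct.induction_on with
    | zero => exact ⟨0, by rw [map_zero, map_zero]⟩
    | add x y hx hy =>
      obtain ⟨c, hc⟩ := hx
      obtain ⟨d, hd⟩ := hy
      exact ⟨c + d, by rw [map_add, map_add, hc, hd]⟩
    | tmul k b =>
      obtain ⟨y, hy⟩ := range_of_inseparable (S' := S') (p := p) (a := N) hP Q hpQ σ R
        (χ.range.val.toRingHom) Subtype.val_injective (fun _ => rfl) (χ.rangeRestrict (1 ⊗ₜ b))
      refine ⟨k * y, ?_⟩
      rw [show k ⊗ₜ[A] b = algebraMap K (K ⊗[A] B) k * ((1 : K) ⊗ₜ[A] b) by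
        rw [Algebra.TensorProduct.algebraMap_apply, Algebra.algebraMap_self, RingHom.id_apply,
          Algebra.TensorProduct.tmul_mul_tmul, mul_one, one_mul], map_mul, map_mul, AlgHom.commutes]
      refine congrArg (algebraMap K E k * ·) ?_
      refine Eq.trans ?_ hy
      show φ (1 ⊗ₜ b) = χ (1 ⊗ₜ b)
      rw [Algebra.TensorProduct.lift_tmul, map_one, one_mul]
      rfl


end Groth.Agent.H9Abh
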