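import Groth.Agent.H9Abh.LocalModel

/-!
# Bounding ramification indices through rational points over a dominating ring
-/

set_option autoImplicit false
set_option linter.style.haveILetI false
universe u

open IsLocalRing TensorProduct

namespace Groth.Agent.H9Abh

/-- Two valuation rings over `A` are seen by a common valued field. -/
theorem exists_common_valued {A V R : Type u} [CommRing A] [IsDomain A] [IsDiscreteValuationRing A] [CommRing V]
    [IsDomain V] [IsLocalRing V] [CommRing R] [IsDomain R] [IsDiscreteValuationRing R] [Algebra A V] [Algebra A R]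
    [IsLocalHom (algebraMap A V)] [IsLocalHom (algebraMap A R)]
    [Algebra.IsSeparable (ResidueField A) (ResidueField V)]
    (hAV : Function.Injective (algebraMap A V)) (hAR : Function.Injective (algebraMap A R)) :
    ∃ (Ω : Type u) (_ : Field Ω) (gV : V →+* Ω) (gR : R →+* Ω) (W : ValuationSubring Ω),
      Function.Injective gV ∧ Function.Injective gR ∧ gV.comp (algebraMap A V) = gR.comp (algebraMap A R) ∧
      (∀ v, gV v ∈ W) ∧ (∀ v ∈ maximalIdeal V, W.valuation (gV v) < 1) ∧
      (∀ r, gR r ∈ W) ∧ (∀ r ∈ maximalIdeal R, W.valuation (gR r) < 1) := by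
  let C := AlgebraicClosure (ResidueField R)
  haveI : Algebra.IsAlgebraic (ResidueField A) (ResidueField V) := inferInstance
  let ρ : ResidueField V →ₐ[ResidueField A] C := IsAlgClosed.lift
  let θV : V →ₐ[A] C := (ρ.restrictScalars A).comp (IsScalarTower.toAlgHom A V (ResidueField V))
  let θR : R →ₐ[A] C := IsScalarTower.toAlgHom A R C
  let θ : V ⊗[A] R →ₐ[A] C := Algebra.TensorProduct.lift θV θR fun _ _ => .all _ _
  let 𝔐 : Ideal (V ⊗[A] R) := RingHom.ker θ.toRingHom
  haveI : 𝔐.IsPrime := RingHom.ker_isPrime _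
  obtain ⟨𝔭, h𝔭, h𝔭le⟩ := Ideal.exists_minimalPrimes_le (I := (⊥ : Ideal (V ⊗[A] R))) (J := 𝔐) bot_le
  haveI : 𝔭.IsPrime := h𝔭.1.1
  haveI : Module.IsTorsionFree A R := Module.isTorsionFree_iff_algebraMap_injective.2 hAR
  haveI : Module.Flat A R := inferInstance
  haveI : Module.Flat V (V ⊗[A] R) := inferInstance
  have hbot : 𝔭.comap (algebraMap V (V ⊗[A] R)) = ⊥ := by
    by_contra hne
    haveI : 𝔭.LiesOver (𝔭.comap (algebraMap V (V ⊗[A] R))) := ⟨rfl⟩
    obtain ⟨𝔮, h𝔮, h𝔮p, -⟩ := Ideal.exists_ideal_lt_liesOver_of_lt (R := V) (S := V ⊗[A] R) (p := ⊥) 𝔭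
      (q := 𝔭.comap (algebraMap V (V ⊗[A] R))) (bot_lt_iff_ne_bot.2 hne)
    exact h𝔮.not_ge (h𝔭.2 ⟨h𝔮p, bot_le⟩ h𝔮.le)
  let Ω := 𝔭.ResidueField
  let q : V ⊗[A] R →+* Ω := algebraMap _ Ω
  have hq : ∀ x, q x = 0 ↔ x ∈ 𝔭 := fun x => by
    rw [← RingHom.mem_ker, Ideal.ker_algebraMap_residueField]
  let gV : V →+* Ω := q.comp (algebraMap V (V ⊗[A] R))
  let gR : R →+* Ω := q.comp (Algebra.TensorProduct.includeRight : R →ₐ[A] V ⊗[A] R).toRingHom
  have hcomm : gV.comp (algebraMap A V) = gR.comp (algebraMap A R) := RingHom.ext fun a =>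
    congrArg q (((Algebra.TensorProduct.includeRight : R →ₐ[A] V ⊗[A] R).commutes a).trans
      (IsScalarTower.algebraMap_apply A V (V ⊗[A] R) a)).symm
  have hgV : Function.Injective gV := (injective_iff_map_eq_zero _).2 fun v hv => by
    have h : v ∈ 𝔭.comap (algebraMap V (V ⊗[A] R)) := (hq _).1 hv
    rwa [hbot, Ideal.mem_bot] at h
  have hgR : Function.Injective gR := by
    rw [RingHom.injective_iff_ker_eq_bot]
    by_contra hne
    haveI := RingHom.ker_isPrime gR
    have hmax : RingHom.ker gR = maximalIdeal R := IsLocalRing.eq_maximalIdeal (‹(RingHom.ker gR).IsPrime›.isMaximal hne)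
    obtain ⟨π, hπ⟩ := IsDiscreteValuationRing.exists_irreducible A
    have h1 : algebraMap A R π ∈ RingHom.ker gR := hmax.ge (map_nonunit _ π ((mem_maximalIdeal _).2 hπ.not_isUnit))
    have h2 : gV (algebraMap A V π) = 0 := (RingHom.congr_fun hcomm π).trans h1
    exact hπ.ne_zero (hAV ((hgV (h2.trans (map_zero gV).symm)).trans (map_zero _).symm))
  let Loc := Localization.AtPrime 𝔐
  have hunit : ∀ s : 𝔐.primeCompl, IsUnit (q s) := fun s =>
    isUnit_iff_ne_zero.2 fun h => s.2 (h𝔭le ((hq _).1 h))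
  obtain ⟨W, hW, hloc⟩ := IsLocalRing.exists_factor_valuationRing (IsLocalization.lift hunit : Loc →+* Ω)
  haveI : IsLocalHom ((IsLocalization.lift hunit : Loc →+* Ω).codRestrict W hW) := hloc
  have hmem : ∀ x, q x ∈ W := fun x => by
    have := hW (algebraMap _ Loc x)
    rwa [IsLocalization.lift_eq] at this
  have hlt : ∀ x ∈ 𝔐, W.valuation (q x) < 1 := fun x hx => by
    have h1 : algebraMap _ Loc x ∈ maximalIdeal Loc := (IsLocalization.AtPrime.to_map_mem_maximal_iff Loc 𝔐 x).2 hx
    have h2 := (W.valuation_lt_one_iff _).1 (map_nonunit ((IsLocalization.lift hunit).codRestrict W hW) _ h1)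
    simpa using h2
  refine ⟨Ω, inferInstance, gV, gR, W, hgV, hgR, hcomm, fun v => hmem _, fun v hv => hlt _ ?_, fun r => hmem _,
    fun r hr => hlt _ ?_⟩
  · show θ (v ⊗ₜ 1) = 0
    rw [Algebra.TensorProduct.lift_tmul, map_one, mul_one]
    show ρ (residue V v) = 0
    rw [(residue_eq_zero_iff v).2 hv, map_zero]
  · show θ (1 ⊗ₜ r) = 0
    rw [Algebra.TensorProduct.lift_tmul, map_one, one_mul]
    show algebraMap (ResidueField R) C (residue R r) = 0
    rw [(residue_eq_zero_iff r).2 hr, map_zero]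

/-- If the points of the generic fibre are rational over a ring containing an `n'`-th root of the uniformizer
as a uniformizer, the ramification indices divide `n'`. -/
theorem ramificationIdx'_dvd_of_rational {A : Type u} [CommRing A] [IsDomain A] {B : Type u} [CommRing B] [Algebra A B]
    [Module.Finite (FractionRing A) (FractionRing A ⊗[A] B)]
    [Algebra.Etale (FractionRing A) (FractionRing A ⊗[A] B)]
    (P : Ideal A) [P.IsPrime] [IsDiscreteValuationRing (Localization.AtPrime P)] {π : A}
    (hπ : Irreducible (algebraMap A (Localization.AtPrime P) π))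
    {R : Type u} [CommRing R] [IsDomain R] [IsDiscreteValuationRing R] [Algebra A R]
    (hinj : Function.Injective (algebraMap A R)) (hAR : Ideal.comap (algebraMap A R) (maximalIdeal R) = P)
    {t : R} (ht : Irreducible t) {n' : ℕ} (htn : t ^ n' = algebraMap A R π)
    (K : Type u) [Field K] [Algebra R K] [IsFractionRing R K]
    (hrat : ∀ (M : Type u) [Field M] (j : K →+* M) (jB : B →+* M),
      (∀ a, jB (algebraMap A B a) = j (algebraMap R K (algebraMap A R a))) → ∀ b, ∃ x : K, jB b = j x)
    (q : Ideal B) [q.IsPrime] (hq : Ideal.comap (algebraMap A B) q = ⊥)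
    (V : ValuationSubring q.ResidueField)
    (hV : EtRam.Dominates (Localization.AtPrime P) (SGA1.genericResidueMap (algebraMap A B) P q hq) V)
    (hsep : letI : Algebra (Localization.AtPrime P) V := (RingHom.codRestrict _ V hV.1).toAlgebra
      ∀ [IsLocalHom (algebraMap (Localization.AtPrime P) V)],
        Algebra.IsSeparable (ResidueField (Localization.AtPrime P)) (ResidueField V)) :
    letI : Algebra (Localization.AtPrime P) V := (RingHom.codRestrict _ V hV.1).toAlgebra
    Ideal.ramificationIdx' (maximalIdeal (Localization.AtPrime P)) (maximalIdeal V) ∣ n' := by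
  let AP := Localization.AtPrime P
  letI : Algebra AP V := (RingHom.codRestrict _ V hV.1).toAlgebra
  haveI : IsLocalHom (algebraMap AP V) := EtRamLib.isLocalHom_of_dominates _ V hV
  haveI := @hsep _
  let F := FractionRing A
  letI := (genericHom q hq).toAlgebra
  obtain ⟨hfin, hsepL, -⟩ := finite_separable_generic q hq
  have hgm : (algebraMap F q.ResidueField).comp (algebraMap AP F) = SGA1.genericResidueMap (algebraMap A B) P q hq :=
    IsLocalization.ringHom_ext P.primeCompl (RingHom.ext fun a => by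
      rw [RingHom.comp_apply, RingHom.comp_apply, ← IsScalarTower.algebraMap_apply A AP F, RingHom.algebraMap_toAlgebra,
        genericHom_algebraMap]
      unfold SGA1.genericResidueMap
      rw [RingHom.comp_apply, IsLocalization.lift_eq, RingHom.comp_apply])
  haveI : IsDiscreteValuationRing V := EtRamLib.isDVR_of_dominates AP F V (by rw [hgm]; exact hV)
  have hunit : ∀ s : P.primeCompl, IsUnit (algebraMap A R (s : A)) := fun s =>
    notMem_maximalIdeal.1 fun h => s.2 (hAR.le h)
  letI : Algebra AP R := (IsLocalization.lift hunit).toAlgebra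
  have hAPR : ∀ a, algebraMap AP R (algebraMap A AP a) = algebraMap A R a := IsLocalization.lift_eq hunit
  haveI : IsLocalHom (algebraMap AP R) := ⟨fun x hx => by
    obtain ⟨c, s, rfl⟩ := IsLocalization.exists_mk'_eq P.primeCompl x
    refine (IsLocalization.AtPrime.isUnit_mk'_iff AP P c s).2 fun hc => ?_
    have e := congrArg (algebraMap AP R) (IsLocalization.mk'_spec AP c s)
    rw [map_mul, hAPR, hAPR] at e
    exact (mem_maximalIdeal _).1 (hAR.ge hc : algebraMap A R c ∈ maximalIdeal R) (e ▸ hx.mul (hunit s))⟩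
  have hπ0 : algebraMap AP V (algebraMap A AP π) ≠ 0 := fun h => by
    have h' : SGA1.genericResidueMap (algebraMap A B) P q hq (algebraMap A AP π) = 0 := congrArg Subtype.val h
    rw [← hgm] at h'
    exact hπ.ne_zero (IsFractionRing.injective AP F ((algebraMap F q.ResidueField).injective
      ((h'.trans (map_zero _).symm).trans (congrArg _ (map_zero (algebraMap AP F)).symm))))
  have hAV : Function.Injective (algebraMap AP V) := fun x y h => by
    have h' : SGA1.genericResidueMap (algebraMap A B) P q hq x = SGA1.genericResidueMap (algebraMap A B) P q hq y :=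
      congrArg Subtype.val h
    rw [← hgm] at h'
    exact IsFractionRing.injective AP F ((algebraMap F q.ResidueField).injective h')
  have hAR' : Function.Injective (algebraMap AP R) :=
    IsLocalization.injective_iff_map_algebraMap_eq (M := P.primeCompl) (S := AP) (algebraMap AP R) |>.2 fun x y => by
      rw [hAPR, hAPR]
      exact ⟨fun h => by rw [IsLocalization.injective AP P.primeCompl_le_nonZeroDivisors h],
        fun h => by rw [hinj h]⟩
  obtain ⟨Ω, _, gV, gR, W, hgV, hgR, hcomm, hVW, hVlt, hRW, hRlt⟩ := exists_common_valued (V := V) (R := R) hAV hAR'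
  let gL : q.ResidueField →+* Ω := IsFractionRing.lift (A := V) hgV
  let j : K →+* Ω := IsFractionRing.lift (A := R) hgR
  have hgL : ∀ v : V, gL (v : q.ResidueField) = gV v := fun v => IsFractionRing.lift_algebraMap hgV v
  have hj : ∀ r : R, j (algebraMap R K r) = gR r := fun r => IsFractionRing.lift_algebraMap hgR r
  have hb := hrat Ω j (gL.comp (algebraMap B q.ResidueField)) fun a => by
    rw [RingHom.comp_apply, hj, ← hAPR, ← RingHom.comp_apply gR, ← hcomm, RingHom.comp_apply, ← hgL]
    refine congrArg gL ?_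
    show _ = SGA1.genericResidueMap (algebraMap A B) P q hq (algebraMap A AP a)
    rw [← hgm, RingHom.comp_apply, ← IsScalarTower.algebraMap_apply A AP F, RingHom.algebraMap_toAlgebra,
      genericHom_algebraMap]
  have hall : ∀ z : q.ResidueField, ∃ x : K, gL z = j x := fun z => by
    obtain ⟨a, b, -, rfl⟩ := IsFractionRing.div_surjective (A := B ⧸ q) z
    obtain ⟨a, rfl⟩ := Ideal.Quotient.mk_surjective a
    obtain ⟨b, rfl⟩ := Ideal.Quotient.mk_surjective b
    obtain ⟨x, hx⟩ := hb a
    obtain ⟨y, hy⟩ := hb b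
    refine ⟨x / y, ?_⟩
    rw [map_div₀, map_div₀, ← hx, ← hy]
    rfl
  -- valuations
  let v := W.valuation
  let g := v (gR t)
  have hg1 : g < 1 := hRlt t ((mem_maximalIdeal _).2 ht.not_isUnit)
  have hg0 : g ≠ 0 := (Valuation.ne_zero_iff _).2 fun h => ht.ne_zero (hgR (h.trans (map_zero gR).symm))
  have hone : ∀ {T : Type u} [CommRing T] (φ : T →+* Ω), (∀ x, φ x ∈ W) → ∀ u : Tˣ, v (φ u) = 1 := by
    intro T _ φ hφ u
    refine le_antisymm ((W.valuation_le_one_iff _).2 (hφ _)) ?_
    have h1 : v (φ u) * v (φ (u⁻¹ : Tˣ)) = 1 := by rw [← map_mul, ← map_mul, Units.mul_inv, map_one, map_one]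
    calc (1 : W.ValueGroup) = v (φ u) * v (φ (u⁻¹ : Tˣ)) := h1.symm
      _ ≤ v (φ u) * 1 := mul_le_mul' le_rfl ((W.valuation_le_one_iff _).2 (hφ _))
      _ = v (φ u) := mul_one _
  have hR : ∀ r : R, r ≠ 0 → ∃ k : ℕ, v (gR r) = g ^ k := fun r hr => by
    obtain ⟨k, u, rfl⟩ := IsDiscreteValuationRing.eq_unit_mul_pow_irreducible hr ht
    exact ⟨k, by rw [map_mul, map_mul, map_pow, map_pow, hone gR hRW, one_mul]⟩
  obtain ⟨ϖ, w, hϖ, hw⟩ := exists_uniformizer_pow (V := V) hπ hπ0
  obtain ⟨x, hx⟩ := hall (ϖ : q.ResidueField)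
  rw [hgL] at hx
  have hx0 : x ≠ 0 := fun h => hϖ.ne_zero (hgV (by rw [hx, h, map_zero, map_zero]))
  obtain ⟨a, b, hb0, rfl⟩ := IsFractionRing.div_surjective (A := R) x
  have hb0' : b ≠ 0 := nonZeroDivisors.ne_zero hb0
  have ha0 : a ≠ 0 := fun h => hx0 (by rw [h, map_zero, zero_div])
  obtain ⟨ka, hka⟩ := hR a ha0
  obtain ⟨kb, hkb⟩ := hR b hb0'
  have hvϖ : v (gV ϖ) = g ^ ((ka : ℤ) - kb) := by
    rw [hx, map_div₀, hj, hj, map_div₀, hka, hkb, zpow_sub₀ hg0, zpow_natCast, zpow_natCast]
  have hpi := congrArg (fun z => v (gV z)) hw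
  simp only [map_mul, map_pow] at hpi
  rw [hone gV hVW, one_mul, hvϖ, ← RingHom.comp_apply gV, hcomm, RingHom.comp_apply, hAPR, ← htn, map_pow,
    map_pow] at hpi
  change g ^ n' = _ at hpi
  rw [← zpow_natCast, ← zpow_natCast (g ^ _), ← zpow_mul] at hpi
  have he := zpow_right_injective₀ (zero_lt_iff.2 hg0) hg1.ne hpi
  exact Int.natCast_dvd_natCast.1 (Dvd.intro_left _ he.symm)

end Groth.Agent.H9Abh
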