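import Mathlib

/-!
# Differentials of a local ring with principal maximal ideal and separable residue extension
-/

set_option autoImplicit false
set_option linter.style.haveILetI false
universe u

open IsLocalRing TensorProduct Polynomial

namespace Groth.Agent.H9Abh

/-- The differentials are generated by the differential of a generator of the maximal ideal. -/
theorem diff_mem_span {A V : Type u} [CommRing A] [IsLocalRing A] [CommRing V] [IsLocalRing V] [Algebra A V]
    [IsLocalHom (algebraMap A V)] [Algebra.EssFiniteType A V]
    [Algebra.IsSeparable (ResidueField A) (ResidueField V)] (ϖ : V) (hϖ : maximalIdeal V = Ideal.span {ϖ}) (v : V) :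
    KaehlerDifferential.D A V v ∈ Submodule.span V {KaehlerDifferential.D A V ϖ} := by
  let φ₀ : A[X] →ₐ[A] V := aeval ϖ
  let P : Ideal A[X] := (maximalIdeal V).comap φ₀.toRingHom
  let R := Localization.AtPrime P
  have hunit : ∀ s : P.primeCompl, IsUnit (φ₀.toRingHom (s : A[X])) := fun s => notMem_maximalIdeal.1 s.2
  letI : Algebra R V := (IsLocalization.lift hunit).toAlgebra
  have hR : ∀ p : A[X], algebraMap R V (algebraMap A[X] R p) = aeval ϖ p := IsLocalization.lift_eq hunit
  haveI : IsScalarTower A R V := IsScalarTower.of_algebraMap_eq fun a => by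
    rw [IsScalarTower.algebraMap_apply A A[X] R, hR, ← C_eq_algebraMap, aeval_C]
  haveI : IsLocalHom (algebraMap R V) := ⟨fun b hb => by
    obtain ⟨c, s, rfl⟩ := IsLocalization.exists_mk'_eq P.primeCompl b
    refine (IsLocalization.AtPrime.isUnit_mk'_iff R P c s).2 fun hc => (mem_maximalIdeal _).1 hc ?_
    have e := congrArg (algebraMap R V) (IsLocalization.mk'_spec R c s)
    rw [map_mul, hR, hR] at e
    show IsUnit (aeval ϖ c)
    exact e ▸ hb.mul (hunit s)⟩
  haveI : IsLocalHom (algebraMap A R) := ⟨fun a ha => by
    have := ha.map (algebraMap R V)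
    rw [← IsScalarTower.algebraMap_apply] at this
    exact isUnit_of_map_unit (algebraMap A V) a this⟩
  haveI : Algebra.EssFiniteType R V := Algebra.EssFiniteType.of_comp A R V
  haveI : IsScalarTower (ResidueField A) (ResidueField R) (ResidueField V) :=
    IsScalarTower.of_algebraMap_eq fun x => by
      obtain ⟨a, rfl⟩ := residue_surjective x
      show residue V (algebraMap A V a) = residue V (algebraMap R V (algebraMap A R a))
      rw [← IsScalarTower.algebraMap_apply]
  haveI : Algebra.IsSeparable (ResidueField R) (ResidueField V) :=
    Algebra.isSeparable_tower_top_of_isSeparable (ResidueField A) (ResidueField R) (ResidueField V)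
  have hmax : (maximalIdeal R).map (algebraMap R V) = maximalIdeal V := by
    refine le_antisymm (Ideal.map_le_iff_le_comap.2 fun x hx => map_nonunit _ x hx) ?_
    refine hϖ.le.trans ((Ideal.span_singleton_le_iff_mem _).2 ?_)
    have hX : algebraMap A[X] R X ∈ maximalIdeal R :=
      (IsLocalization.AtPrime.to_map_mem_maximal_iff R P X).2 (by
        show aeval ϖ X ∈ maximalIdeal V
        rw [aeval_X, hϖ]
        exact Ideal.mem_span_singleton_self ϖ)
    have h := Ideal.mem_map_of_mem (algebraMap R V) hX
    rwa [hR, aeval_X] at h
  haveI : Algebra.FormallyUnramified R V := Algebra.FormallyUnramified.of_map_maximalIdeal hmax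
  let N := Submodule.span V {KaehlerDifferential.D A V ϖ}
  have hp : ∀ p : A[X], KaehlerDifferential.D A V (aeval ϖ p) ∈ N := fun p => by
    rw [Derivation.map_aeval]
    exact N.smul_mem _ (Submodule.mem_span_singleton_self _)
  have hr : ∀ r : R, KaehlerDifferential.D A V (algebraMap R V r) ∈ N := fun r => by
    obtain ⟨c, s, rfl⟩ := IsLocalization.exists_mk'_eq P.primeCompl r
    obtain ⟨w, hw⟩ := hunit s
    have e : algebraMap R V (IsLocalization.mk' R c s) * (w : V) = aeval ϖ c := by
      rw [hw, ← hR c, ← IsLocalization.mk'_spec R c s, map_mul, hR]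
      rfl
    have e' := congrArg (KaehlerDifferential.D A V) e
    rw [Derivation.leibniz, add_comm] at e'
    have h1 : (w : V) • KaehlerDifferential.D A V (algebraMap R V (IsLocalization.mk' R c s)) ∈ N := by
      rw [eq_sub_of_add_eq e']
      refine N.sub_mem (hp c) (N.smul_mem _ ?_)
      rw [hw]
      exact hp _
    exact (Submodule.smul_mem_iff_of_isUnit N w.isUnit).1 h1
  have hall : ∀ y : Ω[R⁄A], KaehlerDifferential.map A A R V y ∈ N := fun y => by
    have : y ∈ Submodule.span R (Set.range (KaehlerDifferential.D A R)) :=
      (KaehlerDifferential.span_range_derivation A R).symm ▸ Submodule.mem_top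
    induction this using Submodule.span_induction with
    | mem x hx => obtain ⟨r, rfl⟩ := hx; rw [KaehlerDifferential.map_D]; exact hr r
    | zero => rw [map_zero]; exact N.zero_mem
    | add x y _ _ hx hy => rw [map_add]; exact N.add_mem hx hy
    | smul a x _ hx => rw [map_smul]; exact (algebraMap_smul V a (KaehlerDifferential.map A A R V x)) ▸ N.smul_mem (algebraMap R V a) hx
  obtain ⟨z, hz⟩ := (KaehlerDifferential.exact_mapBaseChange_map A R V (KaehlerDifferential.D A V v)).1
    (Subsingleton.elim _ _)
  rw [← hz]
  clear hz
  induction z using TensorProduct.induction_on with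
  | zero => rw [map_zero]; exact N.zero_mem
  | tmul x y => rw [KaehlerDifferential.mapBaseChange_tmul]; exact N.smul_mem _ (hall y)
  | add x y hx hy => rw [map_add]; exact N.add_mem hx hy

end Groth.Agent.H9Abh
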