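import Groth.Agent.H9Kummer.Basic
import Groth.Agent.RegLoc6.Normal

/-!
# Height one primes of Kummer algebras on the branch locus
-/

set_option autoImplicit false
set_option linter.style.haveILetI false
universe u

open IsLocalRing

namespace Groth.Agent.H9Abh

open Groth.Agent

variable {A : Type u} [CommRing A] [IsRegularLocalRing A] {r : ℕ} (f : Fin r → A) (n : Fin r → ℕ)
  (hm : ∀ i, f i ∈ maximalIdeal A)
  (hf : LinearIndependent (ResidueField A) (fun i => (maximalIdeal A).toCotangent ⟨f i, hm i⟩))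
  (hn : ∀ i, 1 ≤ n i)

include hm hf hn

theorem T_prime (i : Fin r) : (Ideal.span {H9Kummer.T f n i}).IsPrime ∧ H9Kummer.T f n i ≠ 0 := by
  haveI := H9Kummer.regular f n hm hf hn
  obtain ⟨h1, h2⟩ := H9Kummer.T_notMem_sq f n hm hf hn i
  haveI := (RegLoc6.isRegularLocalRing_quot_and h1 h2).1
  haveI := RegLoc6.isDomain_of_isRegularLocalRing (SGA1.kummerAlg A f n ⧸ Ideal.span {H9Kummer.T f n i})
  exact ⟨(Ideal.Quotient.isDomain_iff_prime _).1 inferInstance, fun h => h2 (h ▸ Submodule.zero_mem _)⟩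

theorem eq_span_T (P : Ideal (SGA1.kummerAlg A f n)) [P.IsPrime] (hP : P.height ≤ 1) (i : Fin r)
    (hi : H9Kummer.T f n i ∈ P) : P = Ideal.span {H9Kummer.T f n i} := by
  obtain ⟨hp, h0⟩ := T_prime f n hm hf hn i
  haveI := H9Kummer.regular f n hm hf hn
  haveI := RegLoc6.isDomain_of_isRegularLocalRing (SGA1.kummerAlg A f n)
  haveI := hp
  refine (eq_of_le_of_not_lt ((Ideal.span_singleton_le_iff_mem _).2 hi) fun hlt => ?_).symm
  have h1 := Ideal.height_add_one_le_of_lt_of_isPrime hlt
  have h2 : (⊥ : Ideal (SGA1.kummerAlg A f n)) < Ideal.span {H9Kummer.T f n i} :=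
    bot_lt_iff_ne_bot.2 (mt Ideal.span_singleton_eq_bot.1 h0)
  have h3 := Ideal.height_add_one_le_of_lt_of_isPrime h2
  have : (1 : ℕ∞) + 1 ≤ 1 := calc
    (1 : ℕ∞) + 1 ≤ (⊥ : Ideal (SGA1.kummerAlg A f n)).height + 1 + 1 := by gcongr; exact le_add_self
    _ ≤ (Ideal.span {H9Kummer.T f n i}).height + 1 := by gcongr
    _ ≤ P.height := h1
    _ ≤ 1 := hP
  norm_num at this

theorem comap_span_T [IsDomain A] [∀ i, (Ideal.span {f i}).IsPrime] (hf0 : ∀ i, f i ≠ 0) (i : Fin r) :
    (Ideal.span {H9Kummer.T f n i}).comap (algebraMap A (SGA1.kummerAlg A f n)) = Ideal.span {f i} := by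
  haveI := RegLoc6.isDomain_of_isRegularLocalRing A
  haveI := (T_prime f n hm hf hn i).1
  refine le_antisymm (fun a ha => ?_) ((Ideal.span_singleton_le_iff_mem _).2 ?_)
  · obtain ⟨c, hc⟩ := Ideal.mem_span_singleton'.1 (Ideal.mem_comap.1 ha)
    haveI := H9Kummer.isIntegral f n hn
    have hinj := H9Kummer.injective f n hn
    -- `a ^ n / f` is integral over `A`
    let K := FractionRing A
    haveI : IsIntegrallyClosed A := RegLoc6.isIntegrallyClosed_of_isRegularLocalRing A
    haveI := H9Kummer.regular f n hm hf hn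
    haveI := RegLoc6.isDomain_of_isRegularLocalRing (SGA1.kummerAlg A f n)
    let L := FractionRing (SGA1.kummerAlg A f n)
    have hAL : Function.Injective ((algebraMap (SGA1.kummerAlg A f n) L).comp (algebraMap A (SGA1.kummerAlg A f n))) :=
      (IsFractionRing.injective (SGA1.kummerAlg A f n) L).comp hinj
    letI : Algebra K L := (IsFractionRing.lift (A := A) (K := K) hAL).toAlgebra
    haveI : IsScalarTower A K L := IsScalarTower.of_algebraMap_eq fun x => by
      rw [RingHom.algebraMap_toAlgebra, IsFractionRing.lift_algebraMap, RingHom.comp_apply,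
        ← IsScalarTower.algebraMap_apply]
    let q : K := algebraMap A K (a ^ n i) / algebraMap A K (f i)
    have hq : algebraMap K L q = algebraMap (SGA1.kummerAlg A f n) L (c ^ n i) := by
      rw [map_div₀, ← IsScalarTower.algebraMap_apply, ← IsScalarTower.algebraMap_apply,
        IsScalarTower.algebraMap_apply A (SGA1.kummerAlg A f n) L (f i),
        IsScalarTower.algebraMap_apply A (SGA1.kummerAlg A f n) L (a ^ n i), map_pow, ← hc, mul_pow,
        H9Kummer.T_pow, map_mul, mul_div_cancel_right₀]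
      refine (map_ne_zero_iff _ (IsFractionRing.injective _ L)).2 ((map_ne_zero_iff _ hinj).2 (hf0 i))
    have hint : IsIntegral A q := by
      refine IsIntegral.tower_bot (algebraMap K L).injective (hq ▸ ?_)
      exact (Algebra.IsIntegral.isIntegral (R := A) (c ^ n i)).map (IsScalarTower.toAlgHom A _ L)
    obtain ⟨b, hb⟩ := IsIntegrallyClosed.isIntegral_iff.1 hint
    have hfb : a ^ n i = b * f i := IsFractionRing.injective A K (by
      rw [map_mul, hb]
      exact (div_mul_cancel₀ _ ((map_ne_zero_iff _ (IsFractionRing.injective A K)).2 (hf0 i))).symm)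
    exact Ideal.IsPrime.mem_of_pow_mem inferInstance (n i) (Ideal.mem_span_singleton'.2 ⟨b, hfb.symm⟩)
  · rw [Ideal.mem_comap, ← H9Kummer.T_pow f n i]
    exact Ideal.pow_mem_of_mem _ (Ideal.mem_span_singleton_self _) _ (hn i)

end Groth.Agent.H9Abh
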