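import Groth.Agent.EtRamLib.UnrBaseChange
import Mathlib

/-!
# Unramified algebras over the fraction field of a DVR have finite étale models
-/

set_option autoImplicit false
set_option linter.style.haveILetI false
universe u

open IsLocalRing TensorProduct

namespace Groth.Agent.H9Abh

variable {O F : Type u} [CommRing O] [IsDomain O] [IsDiscreteValuationRing O] [Field F] [Algebra O F]
  [IsFractionRing O F]

theorem etale_integralClosure {M : Type u} [Field M] [Algebra F M] [FiniteDimensional F M]
    [Algebra.IsSeparable F M] [Algebra O M] [IsScalarTower O F M]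
    (h : EtRam.IsUnramifiedExt O ((algebraMap F M).comp (algebraMap O F))) :
    Module.Finite O (integralClosure O M) ∧ Algebra.Etale O (integralClosure O M) := by
  let C := integralClosure O M
  haveI : IsDedekindDomain C := integralClosure.isDedekindDomain O F M
  haveI : Module.Finite O C := IsIntegralClosure.finite O F M C
  haveI : IsFractionRing C M := IsIntegralClosure.isFractionRing_of_finite_extension O F M C
  have hinj : Function.Injective (algebraMap O M) := by
    rw [IsScalarTower.algebraMap_eq O F M]
    exact (algebraMap F M).injective.comp (IsFractionRing.injective O F)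
  haveI : Module.IsTorsionFree O C := Module.isTorsionFree_iff_algebraMap_injective.2 fun a b e =>
    hinj (congrArg Subtype.val e)
  haveI : Algebra.FinitePresentation O C := Algebra.FinitePresentation.of_finiteType.1 inferInstance
  obtain ⟨π, hπ⟩ := IsDiscreteValuationRing.exists_irreducible O
  haveI : Algebra.FormallyUnramified O C := by
    rw [← Algebra.unramifiedLocus_eq_univ_iff]
    refine Set.eq_univ_of_forall fun p => ?_
    show Algebra.FormallyUnramified O (Localization.AtPrime p.asIdeal)
    let Loc := Localization.AtPrime p.asIdeal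
    haveI : IsDomain Loc := IsLocalization.isDomain_localization p.asIdeal.primeCompl_le_nonZeroDivisors
    have hunit : ∀ s : p.asIdeal.primeCompl, IsUnit (algebraMap C M (s : C)) := fun s =>
      isUnit_iff_ne_zero.2 fun h0 => s.2 ((IsFractionRing.injective C M (h0.trans (map_zero _).symm)).symm ▸ p.asIdeal.zero_mem)
    letI : Algebra Loc M := (IsLocalization.lift hunit).toAlgebra
    haveI : IsScalarTower C Loc M := IsScalarTower.of_algebraMap_eq fun c => (IsLocalization.lift_eq hunit c).symm
    haveI : IsFractionRing Loc M := IsFractionRing.isFractionRing_of_isDomain_of_isLocalization p.asIdeal.primeCompl Loc M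
    have hcomm : ∀ a : O, algebraMap Loc M (algebraMap O Loc a) = algebraMap O M a := fun a => by
      rw [IsScalarTower.algebraMap_apply O C Loc, ← IsScalarTower.algebraMap_apply C Loc M,
        ← IsScalarTower.algebraMap_apply O C M]
    by_cases hp : p.asIdeal = ⊥
    · -- the generic point
      haveI : Algebra.FormallyUnramified O F := .of_isLocalization (nonZeroDivisors O)
      haveI : Algebra.FormallyUnramified F M := (Algebra.FormallyUnramified.iff_isSeparable F M).2 inferInstance
      haveI : Algebra.FormallyUnramified O M := Algebra.FormallyUnramified.comp O F M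
      have hsurj : Function.Surjective (algebraMap Loc M) := fun z => by
        obtain ⟨a, b, hb, rfl⟩ := IsFractionRing.div_surjective (A := C) z
        refine ⟨IsLocalization.mk' Loc a (⟨b, fun hb' => nonZeroDivisors.ne_zero hb ((Submodule.mem_bot C).1 (hp ▸ hb'))⟩ :
          p.asIdeal.primeCompl), ?_⟩
        have e := congrArg (algebraMap Loc M) (IsLocalization.mk'_spec Loc a (⟨b, fun hb' =>
          nonZeroDivisors.ne_zero hb ((Submodule.mem_bot C).1 (hp ▸ hb'))⟩ : p.asIdeal.primeCompl))
        rw [map_mul, ← IsScalarTower.algebraMap_apply, ← IsScalarTower.algebraMap_apply] at e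
        exact eq_div_of_mul_eq ((map_ne_zero_iff _ (IsFractionRing.injective C M)).2 (nonZeroDivisors.ne_zero hb)) e
      let eq : Loc ≃ₐ[O] M := AlgEquiv.ofBijective (AlgHom.mk (algebraMap Loc M) hcomm)
        ⟨IsFractionRing.injective Loc M, hsurj⟩
      exact Algebra.FormallyUnramified.of_equiv eq.symm
    · obtain ⟨W, hW, hloc⟩ := IsLocalRing.exists_factor_valuationRing (algebraMap Loc M)
      haveI := hloc
      let Φ₀ : Loc →+* W := (algebraMap Loc M).codRestrict W hW
      haveI : IsLocalHom Φ₀ := hloc
      haveI : IsDiscreteValuationRing Loc :=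
        IsLocalization.AtPrime.isDiscreteValuationRing_of_dedekind_domain C hp Loc
      have hsurj : Function.Surjective Φ₀ := EtRamLib.surjective_of_valuationRing W Φ₀ fun _ => rfl
      have hπp : algebraMap O C π ∈ p.asIdeal := by
        haveI : (p.asIdeal).IsMaximal := p.isPrime.isMaximal hp
        haveI := Ideal.isMaximal_comap_of_isIntegral_of_isMaximal (R := O) p.asIdeal
        have e := IsLocalRing.eq_maximalIdeal (this : (p.asIdeal.comap (algebraMap O C)).IsMaximal)
        exact e.ge ((mem_maximalIdeal _).2 hπ.not_isUnit)
      have hdom : EtRam.Dominates O ((algebraMap F M).comp (algebraMap O F)) W := by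
        refine ⟨fun a => ?_, fun a ha => ?_⟩
        · rw [← IsScalarTower.algebraMap_eq, ← hcomm]; exact hW _
        · rw [← IsScalarTower.algebraMap_eq, ← hcomm]
          refine (W.valuation_lt_one_iff (Φ₀ (algebraMap O Loc a))).1 (map_nonunit Φ₀ _ ?_)
          rw [IsScalarTower.algebraMap_apply O C Loc]
          refine (IsLocalization.AtPrime.to_map_mem_maximal_iff Loc p.asIdeal _).2 ?_
          rw [hπ.maximalIdeal_eq, Ideal.mem_span_singleton] at ha
          obtain ⟨c, rfl⟩ := ha
          rw [map_mul]
          exact Ideal.mul_mem_right _ _ hπp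
      letI : Algebra O W := (RingHom.codRestrict _ W hdom.1).toAlgebra
      haveI : IsLocalHom (algebraMap O W) := EtRamLib.isLocalHom_of_dominates _ W hdom
      let Φ : Loc →ₐ[O] W := { Φ₀ with
        commutes' := fun a => Subtype.ext ((hcomm a).trans (IsScalarTower.algebraMap_apply O F M a)) }
      haveI : Algebra.EssFiniteType O C := inferInstance
      haveI : Algebra.EssFiniteType C Loc := Algebra.EssFiniteType.of_isLocalization Loc p.asIdeal.primeCompl
      haveI : Algebra.EssFiniteType O Loc := Algebra.EssFiniteType.comp O C Loc
      haveI : Algebra.EssFiniteType O W := Algebra.EssFiniteType.of_surjective Φ hsurj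
      obtain ⟨hw, hs⟩ := h W hdom
      haveI := hs
      haveI : Algebra.FormallyUnramified O W := Algebra.FormallyUnramified.of_map_maximalIdeal hw
      let eq : Loc ≃ₐ[O] W := AlgEquiv.ofBijective Φ ⟨fun a b e =>
        IsFractionRing.injective Loc M (congrArg Subtype.val e), hsurj⟩
      exact Algebra.FormallyUnramified.of_equiv eq.symm
  exact ⟨inferInstance, .of_formallyUnramified_of_flat⟩

/-- A finite étale algebra over the fraction field of a DVR with unramified factors has a finite étale model. -/
theorem exists_model {E : Type u} [CommRing E] [Algebra F E] [Module.Finite F E] [Algebra.Etale F E]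
    (h : ∀ (M : Type u) [Field M] (f : E →+* M), Function.Surjective f →
      EtRam.IsUnramifiedExt O ((f.comp (algebraMap F E)).comp (algebraMap O F))) :
    ∃ (C : Type u) (_ : CommRing C) (_ : Algebra O C),
      Module.Finite O C ∧ Algebra.Etale O C ∧ Nonempty (F ⊗[O] C ≃ₐ[F] E) := by
  classical
  haveI : IsArtinianRing E := IsArtinianRing.of_finite F E
  haveI : IsReduced E := Algebra.FormallyUnramified.isReduced_of_field F E
  haveI : Fintype (MaximalSpectrum E) := Fintype.ofFinite _
  letI : ∀ p : MaximalSpectrum E, Field (E ⧸ p.asIdeal) := fun p => Ideal.Quotient.field p.asIdeal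
  letI : Algebra O E := ((algebraMap F E).comp (algebraMap O F)).toAlgebra
  haveI : IsScalarTower O F E := IsScalarTower.of_algebraMap_eq fun _ => rfl
  have hsep : ∀ p : MaximalSpectrum E, Algebra.IsSeparable F (E ⧸ p.asIdeal) := fun p => by
    haveI : Algebra.FormallyUnramified F (E ⧸ p.asIdeal) :=
      Algebra.FormallyUnramified.of_surjective (Ideal.Quotient.mkₐ F p.asIdeal) Ideal.Quotient.mk_surjective
    exact Algebra.FormallyUnramified.isSeparable F _
  haveI : ∀ p : MaximalSpectrum E, IsScalarTower O F (E ⧸ p.asIdeal) := fun p =>
    IsScalarTower.of_algebraMap_eq fun _ => rfl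
  have hC : ∀ p : MaximalSpectrum E, Module.Finite O (integralClosure O (E ⧸ p.asIdeal)) ∧
      Algebra.Etale O (integralClosure O (E ⧸ p.asIdeal)) := fun p => by
    haveI := hsep p
    exact etale_integralClosure (h _ (Ideal.Quotient.mk p.asIdeal) Ideal.Quotient.mk_surjective)
  haveI := fun p => (hC p).1
  haveI := fun p => (hC p).2
  refine ⟨∀ p : MaximalSpectrum E, integralClosure O (E ⧸ p.asIdeal), inferInstance, inferInstance, inferInstance,
    inferInstance, ?_⟩
  have hM : ∀ p : MaximalSpectrum E, Nonempty (F ⊗[O] integralClosure O (E ⧸ p.asIdeal) ≃ₐ[F] E ⧸ p.asIdeal) :=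
    fun p => by
    haveI := hsep p
    haveI : IsLocalization (Algebra.algebraMapSubmonoid (integralClosure O (E ⧸ p.asIdeal)) (nonZeroDivisors O))
        (E ⧸ p.asIdeal) := IsIntegralClosure.isLocalization O F (E ⧸ p.asIdeal) _
    haveI : Algebra.IsPushout O F (integralClosure O (E ⧸ p.asIdeal)) (E ⧸ p.asIdeal) :=
      (Algebra.isPushout_of_isLocalization (nonZeroDivisors O) F (integralClosure O (E ⧸ p.asIdeal)) _).symm
    exact ⟨Algebra.IsPushout.equiv O F _ _⟩
  exact ⟨(Algebra.TensorProduct.piRight O F F _).trans ((AlgEquiv.piCongrRight fun p => (hM p).some).trans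
    (AlgEquiv.ofRingEquiv (f := (IsArtinianRing.equivPi E).symm.toRingEquiv) fun x => by
      apply (IsArtinianRing.equivPi E).injective
      exact ((IsArtinianRing.equivPi E).apply_symm_apply _).trans (funext fun p => rfl)))⟩

end Groth.Agent.H9Abh
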