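import Groth.Prelude.Def_SGA1
import Groth.Agent.H9Abh.Exp
import Groth.Agent.H9Abh.Model

/-!
# The generic points of a cover and unramifiedness after extracting a root
-/

set_option autoImplicit false
set_option linter.style.haveILetI false
universe u

open IsLocalRing TensorProduct

namespace Groth.Agent.H9Abh

variable {A : Type u} [CommRing A] [IsDomain A] {B : Type u} [CommRing B] [Algebra A B]

/-- The structure of `κ(q)` over the fraction field, for `q` in the generic fibre. -/
noncomputable def genericHom (q : Ideal B) [q.IsPrime] (hq : Ideal.comap (algebraMap A B) q = ⊥) :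
    FractionRing A →+* q.ResidueField :=
  IsFractionRing.lift (g := (algebraMap B q.ResidueField).comp (algebraMap A B)) fun a b h => by
    have h0 : algebraMap B q.ResidueField (algebraMap A B (a - b)) = 0 := by
      rw [map_sub, map_sub]; exact sub_eq_zero.2 h
    rw [← RingHom.mem_ker, Ideal.ker_algebraMap_residueField] at h0
    have : a - b ∈ Ideal.comap (algebraMap A B) q := h0
    rw [hq, Ideal.mem_bot, sub_eq_zero] at this
    exact this

theorem genericHom_algebraMap (q : Ideal B) [q.IsPrime] (hq : Ideal.comap (algebraMap A B) q = ⊥) (a : A) :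
    genericHom q hq (algebraMap A (FractionRing A) a) = algebraMap B q.ResidueField (algebraMap A B a) :=
  IsFractionRing.lift_algebraMap _ a

theorem finite_separable_generic [Module.Finite (FractionRing A) (FractionRing A ⊗[A] B)]
    [Algebra.Etale (FractionRing A) (FractionRing A ⊗[A] B)]
    (q : Ideal B) [q.IsPrime] (hq : Ideal.comap (algebraMap A B) q = ⊥) :
    letI := (genericHom q hq).toAlgebra
    FiniteDimensional (FractionRing A) q.ResidueField ∧ Algebra.IsSeparable (FractionRing A) q.ResidueField ∧
      Module.finrank (FractionRing A) q.ResidueField ≤ Module.finrank (FractionRing A) (FractionRing A ⊗[A] B) := by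
  let K := FractionRing A
  letI := (genericHom q hq).toAlgebra
  haveI : IsScalarTower A K q.ResidueField := IsScalarTower.of_algebraMap_eq fun a => by
    rw [RingHom.algebraMap_toAlgebra, genericHom_algebraMap, ← IsScalarTower.algebraMap_apply]
  let ψ : K ⊗[A] B →ₐ[K] q.ResidueField :=
    Algebra.TensorProduct.lift (Algebra.ofId K _) (IsScalarTower.toAlgHom A B q.ResidueField) fun _ _ => .all _ _
  haveI : Module.Finite K ψ.range := Module.Finite.of_surjective ψ.rangeRestrict.toLinearMap ψ.rangeRestrict_surjective
  have hfield : IsField ψ.range := isField_of_isIntegral_of_isField' (Field.toIsField K)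
  have hmem : ∀ b : B, algebraMap B q.ResidueField b ∈ ψ.range := fun b => ⟨1 ⊗ₜ b, by
    show ψ (1 ⊗ₜ b) = _
    rw [Algebra.TensorProduct.lift_tmul, map_one, one_mul]
    rfl⟩
  have hsurj : Function.Surjective ψ := fun z => by
    obtain ⟨a, b, hb, rfl⟩ := IsFractionRing.div_surjective (A := B ⧸ q) z
    obtain ⟨a, rfl⟩ := Ideal.Quotient.mk_surjective a
    obtain ⟨b, rfl⟩ := Ideal.Quotient.mk_surjective b
    have hb0 : (⟨algebraMap B q.ResidueField b, hmem b⟩ : ψ.range) ≠ 0 := fun h => by
      have h' : algebraMap B q.ResidueField b = 0 := congrArg Subtype.val h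
      rw [← RingHom.mem_ker, Ideal.ker_algebraMap_residueField] at h'
      exact nonZeroDivisors.ne_zero hb (Ideal.Quotient.eq_zero_iff_mem.2 h')
    obtain ⟨c, hc⟩ := hfield.mul_inv_cancel hb0
    have : algebraMap B q.ResidueField a / algebraMap B q.ResidueField b ∈ ψ.range := by
      have hc' : algebraMap B q.ResidueField b * (c : q.ResidueField) = 1 := congrArg Subtype.val hc
      rw [div_eq_mul_inv, inv_eq_of_mul_eq_one_right hc']
      exact mul_mem (hmem a) c.2
    exact this
  refine ⟨Module.Finite.of_surjective ψ.toLinearMap hsurj, ?_, LinearMap.finrank_le_finrank_of_surjective (f := ψ.toLinearMap) hsurj⟩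
  haveI : Algebra.FormallyUnramified K q.ResidueField := Algebra.FormallyUnramified.of_surjective ψ hsurj
  haveI : Module.Finite K q.ResidueField := Module.Finite.of_surjective ψ.toLinearMap hsurj
  exact Algebra.FormallyUnramified.isSeparable K _

/-- The unramifiedness at one generic point, in terms of the two maps to the field. -/
theorem unramified_factor_aux [Module.Finite (FractionRing A) (FractionRing A ⊗[A] B)]
    [Algebra.Etale (FractionRing A) (FractionRing A ⊗[A] B)]
    (P : Ideal A) [P.IsPrime] [IsDiscreteValuationRing (Localization.AtPrime P)] {π : A}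
    (hπ : Irreducible (algebraMap A (Localization.AtPrime P) π))
    {O : Type u} [CommRing O] [IsDomain O] [IsDiscreteValuationRing O]
    (F : Type u) [Field F] [Algebra O F] [IsFractionRing O F] [Algebra A O] [Algebra A F] [IsScalarTower A O F]
    (hAO : Ideal.comap (algebraMap A O) (maximalIdeal O) = P) (hinj : Function.Injective (algebraMap A F))
    {n : ℕ} (hn : IsUnit (n : Localization.AtPrime P)) (τ : O) (hτ : τ ^ n = algebraMap A O π)
    (hgood : ∀ (q : Ideal B) [q.IsPrime] (hq : Ideal.comap (algebraMap A B) q = ⊥),
      Good (Localization.AtPrime P) (SGA1.genericResidueMap (algebraMap A B) P q hq) n)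
    (M : Type u) [Field M] (jF : F →+* M) (jB : B →+* M)
    (hjA : ∀ a, jB (algebraMap A B a) = jF (algebraMap A F a))
    (hgen0 : Subfield.closure (Set.range jF ∪ Set.range jB) = ⊤) :
    EtRam.IsUnramifiedExt O (jF.comp (algebraMap O F)) := by
  let K := FractionRing A
  let AP := Localization.AtPrime P
  let q : Ideal B := RingHom.ker jB
  haveI : q.IsPrime := RingHom.ker_isPrime jB
  have hq : Ideal.comap (algebraMap A B) q = ⊥ := (Submodule.eq_bot_iff _).2 fun a ha => by
    have h : jF (algebraMap A F a) = 0 := (hjA a).symm.trans ha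
    exact hinj ((jF.injective (h.trans (map_zero jF).symm)).trans (map_zero (algebraMap A F)).symm)
  letI := (genericHom q hq).toAlgebra
  obtain ⟨hfin, hsep, -⟩ := finite_separable_generic q hq
  have hgm : (algebraMap K q.ResidueField).comp (algebraMap AP K) = SGA1.genericResidueMap (algebraMap A B) P q hq :=
    IsLocalization.ringHom_ext P.primeCompl (RingHom.ext fun a => by
      rw [RingHom.comp_apply, RingHom.comp_apply, ← IsScalarTower.algebraMap_apply A AP K, RingHom.algebraMap_toAlgebra,
        genericHom_algebraMap]
      unfold SGA1.genericResidueMap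
      rw [RingHom.comp_apply, IsLocalization.lift_eq, RingHom.comp_apply])
  let i : q.ResidueField →+* M := Ideal.ResidueField.lift q jB le_rfl fun x hx =>
    isUnit_iff_ne_zero.2 (fun h => hx h)
  have hi : ∀ b, i (algebraMap B q.ResidueField b) = jB b := fun b => Ideal.ResidueField.lift_algebraMap _ _ _ _ b
  have hunit : ∀ s : P.primeCompl, IsUnit (algebraMap A O (s : A)) := fun s =>
    notMem_maximalIdeal.1 fun h => s.2 (hAO.le h)
  letI : Algebra AP O := (IsLocalization.lift hunit).toAlgebra
  have hAPO : ∀ a, algebraMap AP O (algebraMap A AP a) = algebraMap A O a := IsLocalization.lift_eq hunit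
  haveI : IsLocalHom (algebraMap AP O) := ⟨fun x hx => by
    obtain ⟨c, s, rfl⟩ := IsLocalization.exists_mk'_eq P.primeCompl x
    refine (IsLocalization.AtPrime.isUnit_mk'_iff AP P c s).2 fun hc => ?_
    have e := congrArg (algebraMap AP O) (IsLocalization.mk'_spec AP c s)
    rw [map_mul, hAPO, hAPO] at e
    exact (mem_maximalIdeal _).1 (hAO.ge hc : algebraMap A O c ∈ maximalIdeal O) (e ▸ hx.mul (hunit s))⟩
  let g : O →+* M := jF.comp (algebraMap O F)
  have hcomm : i.comp ((algebraMap K q.ResidueField).comp (algebraMap AP K)) = g.comp (algebraMap AP O) :=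
    IsLocalization.ringHom_ext P.primeCompl (RingHom.ext fun a => by
      simp only [RingHom.comp_apply]
      rw [← IsScalarTower.algebraMap_apply A AP K, RingHom.algebraMap_toAlgebra, genericHom_algebraMap, hi, hjA, hAPO]
      show _ = jF (algebraMap O F (algebraMap A O a))
      rw [← IsScalarTower.algebraMap_apply A O F])
  have hgen : Subfield.closure (Set.range i ∪ Set.range g) = ⊤ := eq_top_iff.2 fun z _ => by
    refine (Subfield.closure_le (t := Subfield.closure (Set.range i ∪ Set.range g))).2 ?_
      (hgen0 ▸ Subfield.mem_top z)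
    rintro _ (⟨x, rfl⟩ | ⟨b, rfl⟩)
    · obtain ⟨a, c, -, rfl⟩ := IsFractionRing.div_surjective (A := O) x
      rw [map_div₀]
      exact div_mem (Subfield.subset_closure (Or.inr ⟨a, rfl⟩)) (Subfield.subset_closure (Or.inr ⟨c, rfl⟩))
    · exact Subfield.subset_closure (Or.inl ⟨_, hi b⟩)
  refine isUnramifiedExt_of_root (A := AP) K i g (jF.injective.comp (IsFractionRing.injective O F)) hcomm hgen n hn hπ τ
    (by rw [hτ, hAPO]) ?_
  rw [hgm]
  exact hgood q hq


/-- After extracting a root of the uniformizer every generic point of the cover is unramified. -/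
theorem unramified_factor [Module.Finite (FractionRing A) (FractionRing A ⊗[A] B)]
    [Algebra.Etale (FractionRing A) (FractionRing A ⊗[A] B)]
    (P : Ideal A) [P.IsPrime] [IsDiscreteValuationRing (Localization.AtPrime P)] {π : A}
    (hπ : Irreducible (algebraMap A (Localization.AtPrime P) π))
    {O : Type u} [CommRing O] [IsDomain O] [IsDiscreteValuationRing O]
    (F : Type u) [Field F] [Algebra O F] [IsFractionRing O F] [Algebra A O] [Algebra A F] [IsScalarTower A O F]
    (hAO : Ideal.comap (algebraMap A O) (maximalIdeal O) = P) (hinj : Function.Injective (algebraMap A F))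
    {n : ℕ} (hn : IsUnit (n : Localization.AtPrime P)) (τ : O) (hτ : τ ^ n = algebraMap A O π)
    (hgood : ∀ (q : Ideal B) [q.IsPrime] (hq : Ideal.comap (algebraMap A B) q = ⊥),
      Good (Localization.AtPrime P) (SGA1.genericResidueMap (algebraMap A B) P q hq) n)
    (M : Type u) [Field M] (φ : F ⊗[A] B →+* M) (hφ : Function.Surjective φ) :
    EtRam.IsUnramifiedExt O ((φ.comp (algebraMap F (F ⊗[A] B))).comp (algebraMap O F)) := by
  refine unramified_factor_aux P hπ F hAO hinj hn τ hτ hgood M (φ.comp (algebraMap F (F ⊗[A] B)))
    (φ.comp (Algebra.TensorProduct.includeRight : B →ₐ[A] F ⊗[A] B).toRingHom) (fun a => ?_) ?_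
  · exact congrArg φ (((Algebra.TensorProduct.includeRight : B →ₐ[A] F ⊗[A] B).commutes a).trans
      (IsScalarTower.algebraMap_apply A F (F ⊗[A] B) a))
  · refine eq_top_iff.2 fun z _ => ?_
    obtain ⟨w, rfl⟩ := hφ z
    induction w using TensorProduct.induction_on with
    | zero => rw [map_zero]; exact zero_mem _
    | add x y hx hy => rw [map_add]; exact add_mem (hx trivial) (hy trivial)
    | tmul x b =>
      have e : x ⊗ₜ[A] b = algebraMap F (F ⊗[A] B) x * (1 : F) ⊗ₜ[A] b := by
        rw [Algebra.TensorProduct.algebraMap_apply, Algebra.algebraMap_self, RingHom.id_apply,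
          Algebra.TensorProduct.tmul_mul_tmul, mul_one, one_mul]
      rw [e, map_mul]
      exact mul_mem (Subfield.subset_closure (Or.inl ⟨x, rfl⟩)) (Subfield.subset_closure (Or.inr ⟨b, rfl⟩))

end Groth.Agent.H9Abh
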