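import Groth.Agent.H9Abh.AlgCover
import Groth.Agent.H9Abh.HeightOne
import Groth.Agent.H9Abh.LocalModel
import Groth.Agent.H9PiOne.RegGlue
import Groth.Agent.RegLoc6.Serre

/-!
# Extension of tame covers over Kummer algebras
-/

set_option autoImplicit false
set_option linter.style.haveILetI false
set_option backward.isDefEq.respectTransparency false
set_option backward.isDefEq.respectTransparency.types false

universe u

open CategoryTheory CategoryTheory.Limits AlgebraicGeometry TensorProduct IsLocalRing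

noncomputable section

namespace Groth.Agent.H9Abh

open Groth.Agent

theorem isDVR_atPrime {R : Type u} [CommRing R] [IsDomain R] [IsNoetherianRing R] (x : R) (hx : x ≠ 0)
    (P : Ideal R) [P.IsPrime] (hP : P = Ideal.span {x}) : IsDiscreteValuationRing (Localization.AtPrime P) := by
  haveI : IsDomain (Localization.AtPrime P) := IsLocalization.isDomain_localization P.primeCompl_le_nonZeroDivisors
  have hm : maximalIdeal (Localization.AtPrime P) = Ideal.span {algebraMap R _ x} := by
    rw [← IsLocalization.AtPrime.map_eq_maximalIdeal P (Localization.AtPrime P)]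
    conv_lhs => arg 2; rw [hP]
    rw [Ideal.map_span, Set.image_singleton]
  have hf : ¬ IsField (Localization.AtPrime P) := fun h => hx (by
    have h0 := IsLocalRing.isField_iff_maximalIdeal_eq.1 h
    rw [hm, Ideal.span_singleton_eq_bot, IsLocalization.to_map_eq_zero_iff _ P.primeCompl_le_nonZeroDivisors] at h0
    exact h0)
  have h40 : (maximalIdeal (Localization.AtPrime P)).IsPrincipal ↔ IsDiscreteValuationRing (Localization.AtPrime P) :=
    (IsDiscreteValuationRing.TFAE _ hf).out 4 0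
  exact h40.1 ⟨⟨_, hm⟩⟩

theorem irreducible_of_span {R : Type u} [CommRing R] [IsDomain R] (x : R) (hx : x ≠ 0) (P : Ideal R) [P.IsPrime]
    (hP : P = Ideal.span {x}) [IsDiscreteValuationRing (Localization.AtPrime P)] :
    Irreducible (algebraMap R (Localization.AtPrime P) x) := by
  rw [IsDiscreteValuationRing.irreducible_iff_uniformizer,
    ← IsLocalization.AtPrime.map_eq_maximalIdeal P (Localization.AtPrime P)]
  conv_lhs => arg 2; rw [hP]
  rw [Ideal.map_span, Set.image_singleton]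

variable {A : Type u} [CommRing A] [IsRegularLocalRing A] [IsDomain A] {r : ℕ} {f : Fin r → A}

theorem f_ne_zero (hm : ∀ i, f i ∈ maximalIdeal A)
    (hf : LinearIndependent (ResidueField A) (fun i => (maximalIdeal A).toCotangent ⟨f i, hm i⟩)) (i : Fin r) :
    f i ≠ 0 := fun h => hf.ne_zero i (by
  show (maximalIdeal A).toCotangent ⟨f i, hm i⟩ = 0
  rw [show (⟨f i, hm i⟩ : maximalIdeal A) = 0 from Subtype.ext h, map_zero])

theorem generic_finite_etale {F : A} (hF : F ≠ 0) (V : FEt.Cat ((SGA1.specBasicOpen A F) : Scheme.{u})) :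
    letI : Algebra A Γ(V.left, ⊤) := (structHom V).toAlgebra
    Module.Finite (FractionRing A) (FractionRing A ⊗[A] Γ(V.left, ⊤)) ∧
      Algebra.Etale (FractionRing A) (FractionRing A ⊗[A] Γ(V.left, ⊤)) := by
  letI : Algebra A Γ(V.left, ⊤) := (structHom V).toAlgebra
  obtain ⟨j, hj⟩ := exists_lift_basic (R := FractionRing A) F
    (isUnit_iff_ne_zero.2 ((map_ne_zero_iff _ (IsFractionRing.injective A _)).2 hF))
  obtain ⟨h1, h2, -⟩ := restrict_basic V j hj
  exact ⟨h1, h2⟩

/-- The extension at a height one point of a scheme over `A` on one of the branches. -/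
theorem local_extension {F₀ : A} (V : FEt.Cat ((SGA1.specBasicOpen A F₀) : Scheme.{u}))
    {A' : Type u} [CommRing A'] [Algebra A A'] (hF₀ : F₀ ≠ 0)
    {S : Scheme.{u}} {O : Type u} [CommRing O] [IsDomain O] [IsDiscreteValuationRing O] [Algebra A O] [Algebra A' O]
    [IsScalarTower A A' O] (hinjO : Function.Injective (algebraMap A O))
    (hFm : algebraMap A O F₀ ∈ maximalIdeal O)
    (ε : S ⟶ Spec (CommRingCat.of O)) [IsIso ε] (s : S ⟶ Spec (CommRingCat.of A'))
    (hs : ε ≫ Spec.map (CommRingCat.ofHom (algebraMap A' O)) = s)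
    (P : Ideal A) [P.IsPrime] [IsDiscreteValuationRing (Localization.AtPrime P)] {π : A}
    (hπ : Irreducible (algebraMap A (Localization.AtPrime P) π))
    (hAO : Ideal.comap (algebraMap A O) (maximalIdeal O) = P)
    {n : ℕ} (hn : IsUnit (n : Localization.AtPrime P)) (τ : O) (hτ : τ ^ n = algebraMap A O π)
    (hgood : letI : Algebra A Γ(V.left, ⊤) := (structHom V).toAlgebra
      ∀ (q : Ideal Γ(V.left, ⊤)) [q.IsPrime] (hq : Ideal.comap (algebraMap A Γ(V.left, ⊤)) q = ⊥),
        Good (Localization.AtPrime P) (SGA1.genericResidueMap (algebraMap A Γ(V.left, ⊤)) P q hq) n) :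
    let p := Spec.map (CommRingCat.ofHom (algebraMap A A'))
    let U' := p ⁻¹ᵁ SGA1.specBasicOpen A F₀
    ∃ Y : FEt.Cat S, Nonempty ((FEt.restrict (pullback.snd U'.ι s)).obj Y ≅
      (FEt.restrict (pullback.fst U'.ι s)).obj ((FEt.restrict (p ∣_ SGA1.specBasicOpen A F₀)).obj V)) := by
  intro p U'
  letI algB : Algebra A Γ(V.left, ⊤) := (structHom V).toAlgebra
  obtain ⟨hfinK, hetK⟩ := generic_finite_etale hF₀ V
  haveI := hfinK
  haveI := hetK
  let U := SGA1.specBasicOpen A F₀
  let F := FractionRing O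
  haveI : IsScalarTower A O F := IsScalarTower.of_algebraMap_eq fun x => rfl
  have hinjF : Function.Injective (algebraMap A F) := by
    rw [IsScalarTower.algebraMap_eq A O F]
    exact (IsFractionRing.injective O F).comp hinjO
  have hFu : IsUnit (algebraMap A F F₀) := isUnit_iff_ne_zero.2 ((map_ne_zero_iff _ hinjF).2 hF₀)
  let s₀ : Spec (CommRingCat.of O) ⟶ Spec (CommRingCat.of A') := Spec.map (CommRingCat.ofHom (algebraMap A' O))
  let η : Spec (CommRingCat.of F) ⟶ Spec (CommRingCat.of O) := Spec.map (CommRingCat.ofHom (algebraMap O F))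
  obtain ⟨j, hj⟩ := exists_lift_basic (R := F) F₀ hFu
  have hηπ : (η ≫ s₀) ≫ p = Spec.map (CommRingCat.ofHom (algebraMap A F)) := by
    show (Spec.map _ ≫ Spec.map _) ≫ Spec.map _ = _
    rw [← Spec.map_comp, ← Spec.map_comp, ← CommRingCat.ofHom_comp, ← CommRingCat.ofHom_comp]
    refine congrArg (fun g => Spec.map (CommRingCat.ofHom g)) (RingHom.ext fun x => ?_)
    rw [RingHom.comp_apply, RingHom.comp_apply, ← IsScalarTower.algebraMap_apply A A' O,
      ← IsScalarTower.algebraMap_apply A O F]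
  have hjmem : Set.range (η ≫ s₀).base ⊆ Set.range U'.ι.base := by
    rw [Scheme.Opens.range_ι]
    rintro _ ⟨x, rfl⟩
    show (p.base ((η ≫ s₀).base x)) ∈ U
    rw [← Scheme.Hom.comp_apply, hηπ, ← hj, Scheme.Hom.comp_apply]
    exact (j.base x).2
  let c₀ := IsOpenImmersion.lift U'.ι (η ≫ s₀) hjmem
  have hc₀ : c₀ ≫ U'.ι = η ≫ s₀ := IsOpenImmersion.lift_fac _ _ _
  have hc₀j : c₀ ≫ p ∣_ U = j := by
    rw [← cancel_mono U.ι, Category.assoc, morphismRestrict_ι, reassoc_of% hc₀, hj, ← hηπ, Category.assoc]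
  have hr : Set.range (pullback.snd U'.ι s).base = Set.range (η ≫ inv ε).base := by
    rw [Scheme.Pullback.range_snd, Scheme.Opens.range_ι]
    refine Set.Subset.antisymm (fun x hx => ?_) ?_
    · obtain ⟨x₀, rfl⟩ := (inferInstance : Surjective (inv ε)).surj x
      refine ⟨(⟨⊥, Ideal.isPrime_bot⟩ : PrimeSpectrum F), ?_⟩
      rw [Scheme.Hom.comp_apply]
      refine congrArg (inv ε).base (PrimeSpectrum.ext ?_)
      show Ideal.comap (algebraMap O F) ⊥ = x₀.asIdeal
      rw [← RingHom.ker_eq_comap_bot, (RingHom.injective_iff_ker_eq_bot _).1 (IsFractionRing.injective O F)]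
      haveI := x₀.isPrime
      by_contra h0
      have hpm : x₀.asIdeal = maximalIdeal O :=
        IsLocalRing.eq_maximalIdeal (x₀.isPrime.isMaximal (Ne.symm h0))
      have hx' : s.base ((inv ε).base x₀) ∈ U' := hx
      rw [← hs, ← Scheme.Hom.comp_apply, IsIso.inv_hom_id_assoc] at hx'
      refine (hx' : algebraMap A A' F₀ ∉ (Ideal.comap (algebraMap A' O) x₀.asIdeal)) ?_
      show algebraMap A' O (algebraMap A A' F₀) ∈ x₀.asIdeal
      rw [hpm, ← IsScalarTower.algebraMap_apply]
      exact hFm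
    · rintro _ ⟨x, rfl⟩
      show s.base ((η ≫ inv ε).base x) ∈ (U' : Set _)
      have e : (η ≫ inv ε) ≫ s = η ≫ s₀ := by rw [← hs, Category.assoc, IsIso.inv_hom_id_assoc]
      rw [← Scheme.Hom.comp_apply, e, ← hc₀, Scheme.Hom.comp_apply]
      exact (c₀.base x).2
  haveI hηo : IsOpenImmersion η := by
    obtain ⟨ϖ, hϖ⟩ := IsDiscreteValuationRing.exists_irreducible O
    haveI : IsLocalization.Away ϖ F :=
      (IsLocalization.iff_of_le_of_exists_dvd (M := Submonoid.powers ϖ) (S := F) (nonZeroDivisors O)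
        (Submonoid.powers_le.2 (mem_nonZeroDivisors_of_ne_zero hϖ.ne_zero)) fun x hx => by
          obtain ⟨k, u, rfl⟩ := IsDiscreteValuationRing.eq_unit_mul_pow_irreducible (nonZeroDivisors.ne_zero hx) hϖ
          exact ⟨ϖ ^ k, ⟨k, rfl⟩, (Units.mul_left_dvd).2 dvd_rfl⟩).2 inferInstance
    exact IsOpenImmersion.of_isLocalization (R := O) ϖ
  let κ : pullback U'.ι s ≅ Spec (CommRingCat.of F) :=
    IsOpenImmersion.isoOfRangeEq (pullback.snd U'.ι s) (η ≫ inv ε) hr
  have hκ : κ.hom ≫ η ≫ inv ε = pullback.snd U'.ι s := IsOpenImmersion.isoOfRangeEq_hom_fac _ _ hr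
  have hκε : pullback.snd U'.ι s ≫ ε = κ.hom ≫ η := by rw [← hκ]; simp
  have hfst : pullback.fst U'.ι s = κ.hom ≫ c₀ := by
    rw [← cancel_mono U'.ι, pullback.condition, Category.assoc, hc₀]
    exact ((pullback.snd U'.ι s) ≫= hs.symm).trans ((Category.assoc _ _ _).symm.trans ((congrArg (· ≫ s₀) hκε).trans (Category.assoc _ _ _)))
  obtain ⟨h1B, h2B, ⟨eB⟩⟩ := restrict_basic V j hj
  haveI := h1B
  haveI := h2B
  obtain ⟨C, _, _, hC1, hC2, ⟨eC⟩⟩ := exists_model (O := O) (F := F) (E := F ⊗[A] Γ(V.left, ⊤)) fun M _ φ hφ =>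
    unramified_factor (B := Γ(V.left, ⊤)) P hπ F hAO hinjF hn τ hτ hgood M φ hφ
  haveI := hC1
  haveI := hC2
  obtain ⟨e1⟩ := restrict_ofAlg O C F hC1 hC2 inferInstance inferInstance
  obtain ⟨e2⟩ := ofAlg_iso eC inferInstance inferInstance h1B h2B
  refine ⟨(FEt.restrict ε).obj (ofAlg O C hC1 hC2), ⟨?_⟩⟩
  exact (Pi1Ext.Spread.restrictComp (pullback.snd U'.ι s) ε _ rfl _).symm ≪≫
    Pi1Ext.Spread.restrictComp κ.hom η _ hκε _ ≪≫
    (FEt.restrict κ.hom).mapIso (e1 ≪≫ e2 ≪≫ eB.symm) ≪≫
    (FEt.restrict κ.hom).mapIso (Pi1Ext.Spread.restrictComp c₀ (p ∣_ U) j hc₀j.symm V) ≪≫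
    (Pi1Ext.Spread.restrictComp κ.hom c₀ _ hfst ((FEt.restrict (p ∣_ U)).obj V)).symm

set_option maxHeartbeats 1000000 in
/-- A cover good along each branch with respect to `n` extends over the Kummer algebra of exponent `n`. -/
theorem exists_extension (hm : ∀ i, f i ∈ maximalIdeal A)
    (hf : LinearIndependent (ResidueField A) (fun i => (maximalIdeal A).toCotangent ⟨f i, hm i⟩))
    [∀ i, (Ideal.span {f i}).IsPrime] (V : FEt.Cat ((SGA1.specBasicOpen A (∏ i, f i)) : Scheme.{u}))
    (n : Fin r → ℕ) (hn : ∀ i, 1 ≤ n i) (hu : ∀ i, IsUnit (n i : Localization.AtPrime (Ideal.span {f i})))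
    (hgood : letI : Algebra A Γ(V.left, ⊤) := (structHom V).toAlgebra
      ∀ (i : Fin r) (q : Ideal Γ(V.left, ⊤)) [q.IsPrime] (hq : Ideal.comap (algebraMap A Γ(V.left, ⊤)) q = ⊥),
        Good (Localization.AtPrime (Ideal.span {f i}))
          (SGA1.genericResidueMap (algebraMap A Γ(V.left, ⊤)) (Ideal.span {f i}) q hq) (n i)) :
    ∃ W : FEt.Cat (Spec (CommRingCat.of (SGA1.kummerAlg A f n))),
      Nonempty ((FEt.restrict ((Spec.map (CommRingCat.ofHom (algebraMap A (SGA1.kummerAlg A f n)))) ⁻¹ᵁ (SGA1.specBasicOpen A (∏ i, f i))).ι).obj W ≅ (FEt.restrict ((Spec.map (CommRingCat.ofHom (algebraMap A (SGA1.kummerAlg A f n)))) ∣_ (SGA1.specBasicOpen A (∏ i, f i)))).obj V) := by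
  letI algB : Algebra A Γ(V.left, ⊤) := (structHom V).toAlgebra
  haveI := H9Kummer.regular f n hm hf hn
  haveI := RegLoc6.isDomain_of_isRegularLocalRing (SGA1.kummerAlg A f n)
  have hinjA := H9Kummer.injective f n hn
  have hF : (∏ i, f i) ≠ 0 := Finset.prod_ne_zero_iff.2 fun i _ => f_ne_zero hm hf i
  obtain ⟨hfinK, hetK⟩ := generic_finite_etale hF V
  haveI := hfinK
  haveI := hetK
  let A' := SGA1.kummerAlg A f n
  let π := Spec.map (CommRingCat.ofHom (algebraMap A A'))
  let U := SGA1.specBasicOpen A (∏ i, f i)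
  let U' := π ⁻¹ᵁ U
  have hmemU' : ∀ p : PrimeSpectrum A', (p : Spec (CommRingCat.of A')) ∈ U' ↔ algebraMap A A' (∏ i, f i) ∉ p.asIdeal := fun p => Iff.rfl
  haveI : IrreducibleSpace (Spec (CommRingCat.of A')) := inferInstanceAs (IrreducibleSpace (PrimeSpectrum A'))
  have hdense : Dense (U' : Set (Spec (CommRingCat.of A'))) := U'.isOpen.dense
    ⟨(⟨⊥, Ideal.isPrime_bot⟩ : PrimeSpectrum A'), (hmemU' _).2 fun h => hF (hinjA ((Ideal.mem_bot.1 h).trans (map_zero _).symm))⟩
  haveI : IsNoetherianRing A' := inferInstance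
  refine H9PiOne.RegGlue.main U' hdense _ (fun x _ => ?_) fun ξ hξ hdim => ?_
  · haveI := RegLoc6.isRegularLocalRing_localization A' x.asIdeal
    exact IsRegularLocalRing.of_ringEquiv (Spec.stalkIso (CommRingCat.of A') x).symm.commRingCatIsoToRingEquiv
  -- the height one prime and the branch it lies on
  let P' : Ideal A' := ξ.asIdeal
  haveI hP' : P'.IsPrime := ξ.isPrime
  let O := Localization.AtPrime P'
  have hht : P'.height ≤ 1 := by
    have h : ringKrullDim O = 1 :=
      (ringKrullDim_eq_of_ringEquiv (Spec.stalkIso (CommRingCat.of A') ξ).commRingCatIsoToRingEquiv).symm.trans hdim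
    rw [IsLocalization.AtPrime.ringKrullDim_eq_height P' O] at h
    exact (WithBot.coe_eq_coe.1 h).le
  have hFP : algebraMap A A' (∏ i, f i) ∈ P' := not_not.1 fun h => hξ ((hmemU' ξ).2 h)
  obtain ⟨i, hi⟩ : ∃ i, H9Kummer.T f n i ∈ P' := by
    rw [map_prod] at hFP
    obtain ⟨i, -, hi⟩ := (Ideal.IsPrime.prod_mem_iff).1 hFP
    exact ⟨i, Ideal.IsPrime.mem_of_pow_mem hP' (n i) (by rw [H9Kummer.T_pow]; exact hi)⟩
  have hP'eq : P' = Ideal.span {H9Kummer.T f n i} := eq_span_T f n hm hf hn P' hht i hi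
  have hT0 := (T_prime f n hm hf hn i).2
  haveI : IsDiscreteValuationRing O := isDVR_atPrime _ hT0 P' hP'eq
  haveI : IsDiscreteValuationRing (Localization.AtPrime (Ideal.span {f i})) :=
    isDVR_atPrime (f i) (f_ne_zero hm hf i) _ rfl
  haveI : IsDomain O := IsLocalization.isDomain_localization P'.primeCompl_le_nonZeroDivisors
  have hAO : Ideal.comap (algebraMap A O) (maximalIdeal O) = Ideal.span {f i} := by
    rw [IsScalarTower.algebraMap_eq A A' O, ← Ideal.comap_comap,
      show Ideal.comap (algebraMap A' O) (maximalIdeal O) = P' from IsLocalization.AtPrime.under_maximalIdeal O P', hP'eq]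
    exact comap_span_T f n hm hf hn (f_ne_zero hm hf) i
  have hAinj : Function.Injective (algebraMap A O) := by
    rw [IsScalarTower.algebraMap_eq A A' O]
    exact (IsLocalization.injective O P'.primeCompl_le_nonZeroDivisors).comp hinjA
  have hFm : algebraMap A O (∏ i, f i) ∈ maximalIdeal O := by
    rw [IsScalarTower.algebraMap_apply A A' O, IsLocalization.AtPrime.to_map_mem_maximal_iff O P']
    exact hFP
  refine local_extension (A' := A') (O := O) V hF hAinj hFm
    (Spec.map (Spec.stalkIso (CommRingCat.of A') ξ).inv) ((Spec (CommRingCat.of A')).fromSpecStalk ξ) ?_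
    (Ideal.span {f i}) (irreducible_of_span (f i) (f_ne_zero hm hf i) _ rfl) hAO (hu i)
    (algebraMap A' O (H9Kummer.T f n i))
    (by rw [← map_pow, H9Kummer.T_pow, ← IsScalarTower.algebraMap_apply]) (fun q _ hq => hgood i q hq)
  rw [Spec.fromSpecStalk_eq, ← Spec.map_comp]
  refine congrArg Spec.map ?_
  exact Spec.algebraMap_stalkIso_inv ξ

end Groth.Agent.H9Abh
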