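import Groth.Agent.H9Abh.KummerField
import Groth.Agent.H9Abh.AwayEtale
import Groth.Agent.CDiv6.Normal

/-!
# Purity over a regular finite cover
-/

set_option autoImplicit false
set_option linter.style.haveILetI false
set_option backward.isDefEq.respectTransparency false
set_option backward.isDefEq.respectTransparency.types false

universe u

open CategoryTheory CategoryTheory.Limits AlgebraicGeometry TensorProduct IsLocalRing

noncomputable section

namespace Groth.Agent.H9Abh

open Groth.Agent

/-- An intermediate DVR carrying all the ramification leaves an unramified top. -/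
theorem good_one_of_ramification {R : Type u} [CommRing R] [IsDomain R] [IsDiscreteValuationRing R]
    {K : Type u} [Field K] [Algebra R K] [IsFractionRing R K]
    {L M : Type u} [Field L] [Field M] [Algebra K L] [Algebra K M] [Algebra L M] [IsScalarTower K L M]
    [FiniteDimensional K M] [Algebra.IsSeparable K M]
    {O : Type u} [CommRing O] [IsDomain O] [IsDiscreteValuationRing O] [Algebra O L] [IsFractionRing O L]
    (ψ : R →+* O) [IsLocalHom ψ] (hψ : ∀ a, algebraMap O L (ψ a) = algebraMap K L (algebraMap R K a))
    {m : ℕ} (hm : m ≠ 0) (hM : Good R ((algebraMap K M).comp (algebraMap R K)) m)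
    (hL : ∀ (V : ValuationSubring L) (h : EtRam.Dominates R ((algebraMap K L).comp (algebraMap R K)) V),
      letI : Algebra R V := (RingHom.codRestrict _ V h.1).toAlgebra
      Ideal.ramificationIdx' (maximalIdeal R) (maximalIdeal V) = m) :
    Good O ((algebraMap L M).comp (algebraMap O L)) 1 := by
  intro W hW
  letI algOW : Algebra O W := (RingHom.codRestrict _ W hW.1).toAlgebra
  intro hlocOW
  have hRM : ∀ a, algebraMap K M (algebraMap R K a) = algebraMap L M (algebraMap O L (ψ a)) := fun a => by
    rw [hψ]; exact IsScalarTower.algebraMap_apply K L M _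
  have hWR : EtRam.Dominates R ((algebraMap K M).comp (algebraMap R K)) W :=
    ⟨fun a => by rw [RingHom.comp_apply, hRM]; exact hW.1 (ψ a), fun a ha => by
      rw [RingHom.comp_apply, hRM]; exact hW.2 (ψ a) (map_nonunit ψ a ha)⟩
  let V : ValuationSubring L := W.comap (algebraMap L M)
  have hV : EtRam.Dominates R ((algebraMap K L).comp (algebraMap R K)) V := by
    refine EtRamLib.dominates_comap _ ?_
    rw [← EtRamLib.comp_eq (L := L)]
    exact hWR
  obtain ⟨i1, i2, i3, i4, i5, i6, i7, i8⟩ := EtRamLib.tame_iff_aux W hWR V hV rfl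
  letI : Algebra R V := (RingHom.codRestrict _ V hV.1).toAlgebra
  letI : Algebra R W := (RingHom.codRestrict _ W hWR.1).toAlgebra
  letI : Algebra R O := ψ.toAlgebra
  haveI : IsScalarTower R O W := IsScalarTower.of_algebraMap_eq fun a => Subtype.ext (hRM a)
  -- the map onto `V`
  let Φ : O →+* V := RingHom.codRestrict (algebraMap O L) V fun o => hW.1 o
  letI : Algebra O V := Φ.toAlgebra
  haveI : IsScalarTower R O V := IsScalarTower.of_algebraMap_eq fun a => Subtype.ext (hψ a).symm
  haveI hΦloc : IsLocalHom Φ := ⟨fun o ho => by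
    by_contra hno
    exact (mem_maximalIdeal _).1 ((W.valuation_lt_one_iff
      ⟨algebraMap L M (algebraMap O L o), hW.1 o⟩).2 (hW.2 o hno)) (ho.map (EtRam.inclOfComap W (algebraMap L M)))⟩
  have hΦs : Function.Surjective Φ := EtRamLib.surjective_of_valuationRing V Φ fun _ => rfl
  have hinjψ : Function.Injective ψ := fun x y h => (IsFractionRing.injective R K)
    ((algebraMap K L).injective (by rw [← hψ, ← hψ, h]))
  have hinjΦ : Function.Injective Φ := fun x y h => IsFractionRing.injective O L (congrArg Subtype.val h)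
  have hOV : Ideal.ramificationIdx' (maximalIdeal O) (maximalIdeal V) = 1 := by
    have e : (maximalIdeal O).map Φ = maximalIdeal V := by
      refine le_antisymm (Ideal.map_le_iff_le_comap.2 fun o ho => ?_) fun v hv => ?_
      · exact (mem_maximalIdeal _).2 fun hu => (mem_maximalIdeal _).1 ho (hΦloc.map_nonunit o hu)
      · obtain ⟨o, rfl⟩ := hΦs v
        exact Ideal.mem_map_of_mem _ ((mem_maximalIdeal _).2 fun hu => (mem_maximalIdeal _).1 hv (hu.map Φ))
    refine Ideal.ramificationIdx'_spec ?_ ?_
    · rw [pow_one]; exact e.le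
    · intro h
      obtain ⟨ϖ, hϖ⟩ := IsDiscreteValuationRing.exists_irreducible V
      have h2 := e.ge.trans h
      rw [hϖ.maximalIdeal_eq, Ideal.span_singleton_pow, Ideal.span_singleton_le_span_singleton] at h2
      have := (pow_dvd_pow_iff hϖ.ne_zero hϖ.not_isUnit).1 (show ϖ ^ 2 ∣ ϖ ^ 1 by rwa [pow_one])
      omega
  have hRO : Ideal.ramificationIdx' (maximalIdeal R) (maximalIdeal O) = m := by
    have h := EtRamLib.ramificationIdx'_mul R O V hinjψ hinjΦ
    rw [hOV, mul_one] at h
    exact h.symm.trans (hL V hV)
  have hinjW : Function.Injective (algebraMap O W) := fun x y h =>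
    IsFractionRing.injective O L ((algebraMap L M).injective (congrArg Subtype.val h))
  obtain ⟨hsep, hd⟩ := @hM W hWR i2
  haveI := hsep
  haveI : IsLocalHom (algebraMap R O) := inferInstanceAs (IsLocalHom ψ)
  refine ⟨?_, ?_⟩
  · haveI : IsScalarTower (ResidueField R) (ResidueField O) (ResidueField W) :=
      IsScalarTower.of_algebraMap_eq fun x => by
        obtain ⟨a, rfl⟩ := residue_surjective x
        show residue W (algebraMap R W a) = residue W (algebraMap O W (algebraMap R O a))
        rw [← IsScalarTower.algebraMap_apply]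
    exact Algebra.isSeparable_tower_top_of_isSeparable (ResidueField R) (ResidueField O) (ResidueField W)
  · rw [EtRamLib.ramificationIdx'_mul R O W hinjψ hinjW, hRO] at hd
    exact (Nat.mul_dvd_mul_iff_left (Nat.pos_of_ne_zero hm)).1 (by rwa [mul_one])

/-- A height one prime of a flat algebra containing the product of the branches lies over one of them. -/
theorem exists_branch {A B : Type u} [CommRing A] [IsDomain A] [IsNoetherianRing A] [CommRing B] [IsNoetherianRing B]
    [Algebra A B] [Module.Flat A B] {r : ℕ} (f : Fin r → A) (hf0 : ∀ i, f i ≠ 0) [∀ i, (Ideal.span {f i}).IsPrime]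
    (P : Ideal B) [P.IsPrime] (hP : P.height ≤ 1) (hFP : algebraMap A B (∏ i, f i) ∈ P) :
    ∃ i, P.comap (algebraMap A B) = Ideal.span {f i} := by
  let p := P.comap (algebraMap A B)
  haveI : P.LiesOver p := ⟨rfl⟩
  obtain ⟨i, -, hi⟩ := (Ideal.IsPrime.prod_mem_iff (p := p)).1 hFP
  refine ⟨i, ((Ideal.span {f i}).eq_of_le_of_height_le (J := p) ((Ideal.span_singleton_le_iff_mem _).2 hi) ?_).symm⟩
  have h1 : p.height ≤ 1 := by
    refine le_trans ?_ hP
    rw [Ideal.height_eq_height_add_of_liesOver_of_hasGoingDown p P]
    exact le_self_add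
  have h2 : (⊥ : Ideal A) < Ideal.span {f i} :=
    bot_lt_iff_ne_bot.2 (mt Ideal.span_singleton_eq_bot.1 (hf0 i))
  exact h1.trans (le_add_self.trans (Ideal.height_add_one_le_of_lt_of_isPrime h2))

theorem dvr_of_height_one {B : Type u} [CommRing B] [IsDomain B] [IsNoetherianRing B] [IsIntegrallyClosed B]
    (P : Ideal B) [P.IsPrime] (hP : P.height = 1) : IsDiscreteValuationRing (Localization.AtPrime P) := by
  haveI : IsIntegrallyClosed (Localization.AtPrime P) :=
    isIntegrallyClosed_of_isLocalization _ P.primeCompl P.primeCompl_le_nonZeroDivisors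
  exact CDiv6.isDVR_of_dim_eq_one _ (by rw [IsLocalization.AtPrime.ringKrullDim_eq_height P, hP]; rfl)

theorem exists_uniformizer_atPrime {B : Type u} [CommRing B] (P : Ideal B) [P.IsPrime]
    [IsDomain (Localization.AtPrime P)] [IsDiscreteValuationRing (Localization.AtPrime P)] :
    ∃ π : B, Irreducible (algebraMap B (Localization.AtPrime P) π) := by
  obtain ⟨ϖ, hϖ⟩ := IsDiscreteValuationRing.exists_irreducible (Localization.AtPrime P)
  obtain ⟨⟨b, s⟩, hb⟩ := IsLocalization.surj P.primeCompl ϖ
  exact ⟨b, hb ▸ (irreducible_mul_isUnit (IsLocalization.map_units _ s)).2 hϖ⟩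

set_option maxHeartbeats 1000000 in
/-- If the ramification of a regular finite subcover exhausts that of a finite cover, both have the same
field: purity of the branch locus over the subcover. -/
theorem rational_of_purity {A : Type u} [CommRing A] [IsRegularLocalRing A] [IsDomain A] {r : ℕ} {f : Fin r → A}
    (hm : ∀ i, f i ∈ maximalIdeal A)
    (hf : LinearIndependent (ResidueField A) (fun i => (maximalIdeal A).toCotangent ⟨f i, hm i⟩))
    [∀ i, (Ideal.span {f i}).IsPrime]
    {B : Type u} [CommRing B] [IsDomain B] [Algebra A B] [Module.Finite A B] [Module.Free A B]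
    [IsRegularLocalRing B] [HenselianLocalRing B] [IsSepClosed (ResidueField B)] [IsIntegrallyClosed B]
    (hreg : ∀ (q : Ideal B) [q.IsPrime], IsRegularLocalRing (Localization.AtPrime q))
    (hetB : Algebra.Etale (Localization.Away (∏ i, f i)) (Localization.Away (∏ i, f i) ⊗[A] B))
    {C : Type u} [CommRing C] [IsDomain C] [Algebra A C] [Module.Finite A C]
    (hetC : letI := (Localization.awayMap (algebraMap A C) (∏ i, f i)).toAlgebra
      Algebra.Etale (Localization.Away (∏ i, f i)) (Localization.Away (algebraMap A C (∏ i, f i))))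
    (n : Fin r → ℕ) (hn : ∀ i, 1 ≤ n i)
    {M : Type u} [Field M] [Algebra C M] [IsFractionRing C M] [Algebra (FractionRing A) M]
    [FiniteDimensional (FractionRing A) M] [Algebra.IsSeparable (FractionRing A) M]
    {L : Type u} [Field L] [Algebra B L] [IsFractionRing B L] [Algebra (FractionRing A) L]
    (hKL : ∀ a, algebraMap (FractionRing A) L (algebraMap A _ a) = algebraMap B L (algebraMap A B a))
    (σ : L →ₐ[FractionRing A] M) (φ : B →ₐ[A] C) (hφ : ∀ b, algebraMap C M (φ b) = σ (algebraMap B L b))
    (hgood : ∀ i, Good (Localization.AtPrime (Ideal.span {f i}))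
      ((algebraMap (FractionRing A) M).comp (algebraMap (Localization.AtPrime (Ideal.span {f i})) (FractionRing A))) (n i))
    (hram : ∀ i (V : ValuationSubring L) (h : EtRam.Dominates (Localization.AtPrime (Ideal.span {f i}))
        ((algebraMap (FractionRing A) L).comp (algebraMap (Localization.AtPrime (Ideal.span {f i})) (FractionRing A))) V),
      letI : Algebra (Localization.AtPrime (Ideal.span {f i})) V := (RingHom.codRestrict _ V h.1).toAlgebra
      Ideal.ramificationIdx' (maximalIdeal (Localization.AtPrime (Ideal.span {f i}))) (maximalIdeal V) = n i) :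
    ∀ c : C, ∃ z : L, algebraMap C M c = σ z := by
  classical
  let F := algebraMap A B (∏ i, f i)
  have hinjB : Function.Injective (algebraMap A B) := FaithfulSMul.algebraMap_injective A B
  have hF : F ≠ 0 := (map_ne_zero_iff _ hinjB).2 (Finset.prod_ne_zero_iff.2 fun i _ => f_ne_zero hm hf i)
  letI : Algebra B C := φ.toRingHom.toAlgebra
  haveI : IsScalarTower A B C := IsScalarTower.of_algebraMap_eq fun a => (φ.commutes a).symm
  haveI : Module.Finite B C := Module.Finite.of_restrictScalars_finite A B C
  haveI : Algebra.IsIntegral B C := Algebra.IsIntegral.of_finite B C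
  haveI : IsNoetherianRing B := IsNoetherianRing.of_finite A B
  have hinjφ : Function.Injective φ := fun x y h => IsFractionRing.injective B L (σ.injective (by
    show σ (algebraMap B L x) = σ (algebraMap B L y)
    rw [← hφ x, ← hφ y, h]))
  have hFC : algebraMap B C F ≠ 0 := (map_ne_zero_iff _ hinjφ).2 hF
  -- the cover over `B`
  obtain ⟨V, g, hg, hloc⟩ := exists_cover F C inferInstance (etale_tensor_away_of_tower (∏ i, f i) hetB hetC)
  letI algV : Algebra B Γ(V.left, ⊤) := (structHom V).toAlgebra
  letI : Algebra C Γ(V.left, ⊤) := g.toAlgebra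
  haveI : IsScalarTower B C Γ(V.left, ⊤) := IsScalarTower.of_algebraMap_eq fun b => (RingHom.congr_fun hg b).symm
  haveI := hloc
  let h₀ : Γ(V.left, ⊤) →+* M := IsLocalization.Away.lift (algebraMap B C F)
    (isUnit_iff_ne_zero.2 ((map_ne_zero_iff _ (IsFractionRing.injective C M)).2 hFC))
  have hh₀ : ∀ c, h₀ (algebraMap C Γ(V.left, ⊤) c) = algebraMap C M c := IsLocalization.Away.lift_eq (algebraMap B C F) _
  -- the fraction field of `B` inside `M`
  let KB := FractionRing B
  let e : KB ≃ₐ[B] L := FractionRing.algEquiv B L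
  letI : Algebra KB M := (σ.toRingHom.comp e.toRingEquiv.toRingHom).toAlgebra
  have hKB : ∀ b, algebraMap KB M (algebraMap B KB b) = algebraMap C M (algebraMap B C b) := fun b => by
    show σ (e (algebraMap B KB b)) = algebraMap C M (φ b)
    rw [e.commutes, hφ]
  obtain ⟨hfinKB, hsepKB⟩ : FiniteDimensional KB M ∧ Algebra.IsSeparable KB M := by
    letI : Algebra L M := σ.toRingHom.toAlgebra
    haveI : IsScalarTower (FractionRing A) L M := IsScalarTower.of_algebraMap_eq fun x => (σ.commutes x).symm
    haveI : FiniteDimensional L M := FiniteDimensional.right (FractionRing A) L M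
    haveI : Algebra.IsSeparable L M := Algebra.isSeparable_tower_top_of_isSeparable (FractionRing A) L M
    have he : (algebraMap KB M).comp e.symm.toRingEquiv.toRingHom =
        (RingEquiv.refl M).toRingHom.comp (algebraMap L M) :=
      RingHom.ext fun z => congrArg σ (e.apply_symm_apply z)
    exact ⟨Module.Finite.of_equiv_equiv e.symm.toRingEquiv (RingEquiv.refl M) he,
      Algebra.IsSeparable.of_equiv_equiv e.symm.toRingEquiv (RingEquiv.refl M) he⟩
  haveI := hfinKB
  haveI := hsepKB
  -- the extension
  let U := SGA1.specBasicOpen B F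
  let p := Spec.map (CommRingCat.ofHom (algebraMap B B))
  let U' := p ⁻¹ᵁ U
  have hmemU' : ∀ q : PrimeSpectrum B, (q : Spec (CommRingCat.of B)) ∈ U' ↔ algebraMap B B F ∉ q.asIdeal := fun q => Iff.rfl
  haveI : IrreducibleSpace (Spec (CommRingCat.of B)) := inferInstanceAs (IrreducibleSpace (PrimeSpectrum B))
  have hdense : Dense (U' : Set (Spec (CommRingCat.of B))) := U'.isOpen.dense
    ⟨(⟨⊥, Ideal.isPrime_bot⟩ : PrimeSpectrum B), (hmemU' _).2 fun h => hF (Ideal.mem_bot.1 h)⟩
  obtain ⟨W, ⟨eW⟩⟩ : ∃ W : FEt.Cat (Spec (CommRingCat.of B)),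
      Nonempty ((FEt.restrict U'.ι).obj W ≅ (FEt.restrict (p ∣_ U)).obj V) := by
    refine H9PiOne.RegGlue.main U' hdense _ (fun x _ => ?_) fun ξ hξ hdim => ?_
    · haveI := hreg x.asIdeal
      exact IsRegularLocalRing.of_ringEquiv (Spec.stalkIso (CommRingCat.of B) x).symm.commRingCatIsoToRingEquiv
    let P : Ideal B := ξ.asIdeal
    haveI hP : P.IsPrime := ξ.isPrime
    let O := Localization.AtPrime P
    have hht : P.height = 1 := by
      have h : ringKrullDim O = 1 :=
        (ringKrullDim_eq_of_ringEquiv (Spec.stalkIso (CommRingCat.of B) ξ).commRingCatIsoToRingEquiv).symm.trans hdim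
      rw [IsLocalization.AtPrime.ringKrullDim_eq_height P O] at h
      exact WithBot.coe_eq_coe.1 h
    have hFP : F ∈ P := not_not.1 fun h => hξ ((hmemU' ξ).2 h)
    haveI : IsDomain O := IsLocalization.isDomain_localization P.primeCompl_le_nonZeroDivisors
    haveI : IsDiscreteValuationRing O := dvr_of_height_one P hht
    obtain ⟨π, hπ⟩ := exists_uniformizer_atPrime P
    obtain ⟨i, hi⟩ := exists_branch f (f_ne_zero hm hf) P hht.le hFP
    let AP := Localization.AtPrime (Ideal.span {f i})
    haveI : IsDiscreteValuationRing AP := isDVR_atPrime (f i) (f_ne_zero hm hf i) _ rfl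
    refine local_extension (A' := B) (O := O) V hF (IsLocalization.injective O P.primeCompl_le_nonZeroDivisors)
      ((IsLocalization.AtPrime.to_map_mem_maximal_iff O P F).2 hFP)
      (Spec.map (Spec.stalkIso (CommRingCat.of B) ξ).inv) ((Spec (CommRingCat.of B)).fromSpecStalk ξ) ?_
      P hπ (IsLocalization.AtPrime.under_maximalIdeal O P) (n := 1) (by rw [Nat.cast_one]; exact isUnit_one)
      (algebraMap B O π) (pow_one _) fun q _ hq => ?_
    · rw [Spec.fromSpecStalk_eq, ← Spec.map_comp]
      exact congrArg Spec.map (Spec.algebraMap_stalkIso_inv ξ)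
    obtain ⟨ι, hι⟩ := exists_residue_embedding (A := B) (C := C) (F := F) hFC h₀
      (fun x y h => IsFractionRing.injective C M (by rw [← hh₀ x, ← hh₀ y]; exact h)) q hq
    refine (good_point (B := Γ(V.left, ⊤)) P q hq ι fun b => ?_).1 1 ?_
    · rw [hKB, ← hh₀]
      exact (RingHom.congr_fun hι _).trans (congrArg h₀ (IsScalarTower.algebraMap_apply B C Γ(V.left, ⊤) b))
    letI : Algebra L M := σ.toRingHom.toAlgebra
    haveI : IsScalarTower (FractionRing A) L M := IsScalarTower.of_algebraMap_eq fun x => (σ.commutes x).symm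
    have hO : ∀ s : P.primeCompl, IsUnit (algebraMap B L (s : B)) := fun s => isUnit_iff_ne_zero.2
      ((map_ne_zero_iff _ (IsFractionRing.injective B L)).2 fun h => s.2 (by rw [h]; exact P.zero_mem))
    letI : Algebra O L := (IsLocalization.lift (M := P.primeCompl) (S := O) hO).toAlgebra
    haveI : IsScalarTower B O L := IsScalarTower.of_algebraMap_eq fun b => (IsLocalization.lift_eq hO b).symm
    haveI : IsFractionRing O L := IsFractionRing.isFractionRing_of_isDomain_of_isLocalization P.primeCompl O L
    have hg1 : (algebraMap KB M).comp (algebraMap O KB) = (algebraMap L M).comp (algebraMap O L) := by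
      refine IsLocalization.ringHom_ext P.primeCompl (RingHom.ext fun b => ?_)
      rw [RingHom.comp_apply, RingHom.comp_apply, RingHom.comp_apply, RingHom.comp_apply,
        ← IsScalarTower.algebraMap_apply B O KB, ← IsScalarTower.algebraMap_apply B O L, hKB]
      exact hφ b
    rw [hg1]
    let ψ : AP →+* O := Localization.localRingHom (Ideal.span {f i}) P (algebraMap A B) hi.symm
    haveI : IsLocalHom ψ := Localization.isLocalHom_localRingHom _ _ _ _
    refine good_one_of_ramification ψ (fun a => ?_) (Nat.one_le_iff_ne_zero.1 (hn i)) (hgood i) (hram i)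
    have : (algebraMap O L).comp ψ = (algebraMap (FractionRing A) L).comp (algebraMap AP (FractionRing A)) := by
      refine IsLocalization.ringHom_ext (Ideal.span {f i}).primeCompl (RingHom.ext fun a => ?_)
      rw [RingHom.comp_apply, RingHom.comp_apply, RingHom.comp_apply, RingHom.comp_apply,
        Localization.localRingHom_to_map, ← IsScalarTower.algebraMap_apply B O L,
        ← IsScalarTower.algebraMap_apply A AP (FractionRing A), hKL]
    exact RingHom.congr_fun this a
  -- the field is unchanged
  have hFK : algebraMap B KB F ≠ 0 := (map_ne_zero_iff _ (IsFractionRing.injective B KB)).2 hF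
  intro c
  obtain ⟨x, hx⟩ := range_of_extension (A := B) (A' := B) (S := B) V W eW KB hFK M (algebraMap KB M) h₀
    (fun b => by rw [← RingHom.congr_fun hg b, hKB]; exact hh₀ _) (algebraMap C Γ(V.left, ⊤) c)
  exact ⟨e x, (hh₀ c).symm.trans hx⟩

end Groth.Agent.H9Abh
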