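import Groth.Agent.H9Abh.KummerField
import Groth.Agent.H9Abh.AwayEtale
import Groth.Agent.H9Abh.Purity
import Groth.Agent.Hensel.IntegralStrict

/-!
# Regular tame covers of strictly henselian regular local rings are Kummer algebras
-/

set_option autoImplicit false
set_option linter.style.haveILetI false

universe u

open CategoryTheory CategoryTheory.Limits AlgebraicGeometry TensorProduct IsLocalRing

noncomputable section

namespace Groth.Agent.H9Abh

open Groth.Agent

theorem strictHenselian_of_finite {A B : Type u} [CommRing A] [HenselianLocalRing A] [IsSepClosed (ResidueField A)]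
    [CommRing B] [IsLocalRing B] [Algebra A B] [Algebra.IsIntegral A B] :
    ∃ _ : HenselianLocalRing B, IsSepClosed (ResidueField B) := by
  haveI : HenselianLocalRing B := Hensel.henselianLocalRing_of_isIntegral_local A B
  haveI : IsLocalHom (algebraMap A B) := Hensel.isLocalHom_of_isIntegral_local (A := A) (B := B)
  haveI : Algebra.IsAlgebraic (ResidueField A) (ResidueField B) := ⟨fun x => by
    obtain ⟨y, rfl⟩ := residue_surjective x
    have h := (Algebra.IsIntegral.isIntegral (R := A) y).map (IsScalarTower.toAlgHom A B (ResidueField B))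
    exact IsIntegral.isAlgebraic (IsIntegral.tower_top (A := ResidueField A) h)⟩
  exact ⟨inferInstance, Algebra.IsAlgebraic.isSepClosed (F := ResidueField A) (E := ResidueField B)⟩

/-- A finite étale model after inverting an element has a finite étale generic fibre. -/
theorem generic_etale_of_away {A B : Type u} [CommRing A] [IsDomain A] [CommRing B] [Algebra A B] {c : A} (hc : c ≠ 0)
    (h : Algebra.Etale (Localization.Away c) (Localization.Away c ⊗[A] B)) :
    Algebra.Etale (FractionRing A) (FractionRing A ⊗[A] B) := by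
  have hu : ∀ s : Submonoid.powers c, IsUnit (algebraMap A (FractionRing A) (s : A)) := by
    rintro ⟨_, k, rfl⟩
    rw [map_pow]
    exact (isUnit_iff_ne_zero.2 ((map_ne_zero_iff _ (IsFractionRing.injective A _)).2 hc)).pow k
  letI : Algebra (Localization.Away c) (FractionRing A) := (IsLocalization.lift hu).toAlgebra
  haveI : IsScalarTower A (Localization.Away c) (FractionRing A) :=
    IsScalarTower.of_algebraMap_eq fun a => (IsLocalization.lift_eq hu a).symm
  exact Algebra.Etale.of_equiv
    (Algebra.TensorProduct.cancelBaseChange A (Localization.Away c) (FractionRing A) (FractionRing A) B)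

set_option maxHeartbeats 1000000 in
/-- A regular finite cover étale outside the branches and tame along them is a Kummer algebra. -/
theorem exists_kummer_algEquiv (A : Type u) [CommRing A] [IsRegularLocalRing A] [IsDomain A] [HenselianLocalRing A]
    [IsSepClosed (ResidueField A)] {r : ℕ} (f : Fin r → A)
    (hm : ∀ i, f i ∈ maximalIdeal A)
    (hf : LinearIndependent (ResidueField A) (fun i => (maximalIdeal A).toCotangent ⟨f i, hm i⟩))
    [∀ i, (Ideal.span {f i}).IsPrime]
    (B : Type u) [CommRing B] [IsDomain B] [Algebra A B] [Module.Finite A B] [Module.Free A B]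
    (hreg : ∀ (q : Ideal B) [q.IsPrime], IsRegularLocalRing (Localization.AtPrime q))
    (hetB : Algebra.Etale (Localization.Away (∏ i, f i)) (Localization.Away (∏ i, f i) ⊗[A] B))
    (htame : SGA1.IsTameAlong f (algebraMap A B)) :
    ∃ n : Fin r → ℕ, (∀ i, 1 ≤ n i) ∧ (∀ i, IsUnit (n i : A)) ∧ Nonempty (B ≃ₐ[A] SGA1.kummerAlg A f n) := by
  classical
  -- the ring `B`
  let F := ∏ i, f i
  have hF0 : F ≠ 0 := Finset.prod_ne_zero_iff.2 fun i _ => f_ne_zero hm hf i
  have hinjB : Function.Injective (algebraMap A B) := FaithfulSMul.algebraMap_injective A B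
  have hFB : algebraMap A B F ≠ 0 := (map_ne_zero_iff _ hinjB).2 hF0
  haveI : IsNoetherianRing B := IsNoetherianRing.of_finite A B
  haveI : Algebra.IsIntegral A B := Algebra.IsIntegral.of_finite A B
  haveI : IsLocalRing B := Hensel.isLocalRing_of_isIntegral_domain A B
  obtain ⟨hhB, hsB⟩ := strictHenselian_of_finite (A := A) (B := B)
  haveI : IsRegularLocalRing B := by
    haveI := hreg (maximalIdeal B)
    exact IsRegularLocalRing.of_ringEquiv
      (IsLocalization.atUnits B (maximalIdeal B).primeCompl (S := Localization.AtPrime (maximalIdeal B))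
        (fun x hx => notMem_maximalIdeal.1 hx)).symm.toRingEquiv
  haveI : IsIntegrallyClosed B := RegLoc6.isIntegrallyClosed_of_isRegularLocalRing B
  haveI : IsIntegrallyClosed A := RegLoc6.isIntegrallyClosed_of_isRegularLocalRing A
  -- its field
  let K := FractionRing A
  have hq0 : Ideal.comap (algebraMap A B) (⊥ : Ideal B) = ⊥ := by
    rw [← RingHom.ker_eq_comap_bot, (RingHom.injective_iff_ker_eq_bot _).1 hinjB]
  let L := (⊥ : Ideal B).ResidueField
  letI : Algebra K L := (genericHom (⊥ : Ideal B) hq0).toAlgebra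
  haveI : Algebra.Etale K (K ⊗[A] B) := generic_etale_of_away hF0 hetB
  obtain ⟨hLfin, hLsep, -⟩ := finite_separable_generic (⊥ : Ideal B) hq0
  haveI := hLfin
  haveI := hLsep
  have hBL : Function.Injective (algebraMap B L) := by
    rw [RingHom.injective_iff_ker_eq_bot, Ideal.ker_algebraMap_residueField]
  have hKL : ∀ a, algebraMap K L (algebraMap A K a) = algebraMap B L (algebraMap A B a) := fun a =>
    genericHom_algebraMap (⊥ : Ideal B) hq0 a
  have hLgen : ∀ z : L, ∃ (b : B) (k : K), z = algebraMap B L b * algebraMap K L k := fun z => by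
    obtain ⟨a, b, hb, rfl⟩ := IsFractionRing.div_surjective (A := B ⧸ (⊥ : Ideal B)) z
    obtain ⟨a, rfl⟩ := Ideal.Quotient.mk_surjective a
    obtain ⟨b, rfl⟩ := Ideal.Quotient.mk_surjective b
    have hb0 : b ≠ 0 := fun h => nonZeroDivisors.ne_zero hb (by rw [h, map_zero])
    obtain ⟨c, hc, d, hd⟩ : ∃ (c : A), c ≠ 0 ∧ ∃ d : B, b * d = algebraMap A B c := by
      obtain ⟨p, hp, hpb⟩ := Algebra.IsIntegral.isIntegral (R := A) b
      have hne : (Ideal.span {b}).comap (algebraMap A B) ≠ ⊥ := fun h => hb0 (by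
        have := Ideal.eq_bot_of_comap_eq_bot (R := A) h
        rwa [Ideal.span_singleton_eq_bot] at this)
      obtain ⟨c, hc, hc0⟩ := Submodule.exists_mem_ne_zero_of_ne_bot hne
      obtain ⟨d, hd⟩ := Ideal.mem_span_singleton'.1 (Ideal.mem_comap.1 hc)
      exact ⟨c, hc0, d, by rw [mul_comm]; exact hd⟩
    refine ⟨a * d, (algebraMap A K c)⁻¹, ?_⟩
    show algebraMap B L a / algebraMap B L b = _
    have hcL : algebraMap K L (algebraMap A K c) ≠ 0 :=
      (map_ne_zero _).2 ((map_ne_zero_iff _ (IsFractionRing.injective A K)).2 hc)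
    rw [map_inv₀, div_eq_iff ((map_ne_zero_iff _ hBL).2 hb0), mul_right_comm, ← map_mul,
      show a * d * b = a * algebraMap A B c by rw [mul_assoc, mul_comm d b, hd], map_mul, ← hKL,
      mul_inv_cancel_right₀ hcL]
  -- the cover
  obtain ⟨V, g, hg, hloc⟩ := exists_cover F B inferInstance hetB
  letI algV : Algebra A Γ(V.left, ⊤) := (structHom V).toAlgebra
  letI algBV : Algebra B Γ(V.left, ⊤) := g.toAlgebra
  haveI : IsScalarTower A B Γ(V.left, ⊤) := IsScalarTower.of_algebraMap_eq fun a => (RingHom.congr_fun hg a).symm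
  haveI := hloc
  have hFL : IsUnit (algebraMap B L (algebraMap A B F)) := isUnit_iff_ne_zero.2 ((map_ne_zero_iff _ hBL).2 hFB)
  let h₀ : Γ(V.left, ⊤) →+* L := IsLocalization.Away.lift (algebraMap A B F) hFL
  have hh₀ : ∀ b, h₀ (algebraMap B Γ(V.left, ⊤) b) = algebraMap B L b :=
    IsLocalization.Away.lift_eq (algebraMap A B F) hFL
  have hhA : ∀ a, h₀ (structHom V a) = algebraMap K L (algebraMap A K a) := fun a => by
    rw [← RingHom.congr_fun hg a, hKL]
    exact hh₀ _
  have hgenV : ∀ z : L, ∃ (γ : Γ(V.left, ⊤)) (k : K), z = h₀ γ * algebraMap K L k := fun z => by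
    obtain ⟨b, k, rfl⟩ := hLgen z
    exact ⟨algebraMap B _ b, k, by rw [hh₀]⟩
  haveI : ∀ i, IsDiscreteValuationRing (Localization.AtPrime (Ideal.span {f i})) := fun i =>
    isDVR_atPrime (f i) (f_ne_zero hm hf i) _ rfl
  have hpoint : ∀ (q : Ideal Γ(V.left, ⊤)) [q.IsPrime] (_ : Ideal.comap (algebraMap A Γ(V.left, ⊤)) q = ⊥),
      ∃ ι : q.ResidueField →+* L, ∀ a, ι (algebraMap _ q.ResidueField (algebraMap A Γ(V.left, ⊤) a)) =
        algebraMap K L (algebraMap A K a) := fun q _ hq => by
    have hinjh : Function.Injective (h₀.comp (algebraMap B Γ(V.left, ⊤))) := fun x y h => hBL (by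
      rw [← hh₀ x, ← hh₀ y]; exact h)
    obtain ⟨ι, hι⟩ := exists_residue_embedding (A := A) (C := B) (F := F) hFB h₀ hinjh q hq
    exact ⟨ι, fun a => (RingHom.congr_fun hι _).trans (hhA a)⟩
  have htameV : SGA1.IsTameAlong f (structHom V) := fun i q _ hq => by
    obtain ⟨ι, hι⟩ := hpoint q hq
    refine (good_point (B := Γ(V.left, ⊤)) (Ideal.span {f i}) q hq ι hι).2 ?_
    rw [genericResidueMap_eq]
    exact htame i ⊥ hq0
  -- a first Kummer extension containing the field
  obtain ⟨N, hN1, hNu, hgoodN⟩ := exists_good_exponent hm hf V htameV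
  have hNP : ∀ i, IsUnit (N : Localization.AtPrime (Ideal.span {f i})) := fun i => by
    have h := hNu.map (algebraMap A (Localization.AtPrime (Ideal.span {f i})))
    rwa [map_natCast] at h
  have embed : ∀ (n : Fin r → ℕ) (_ : ∀ i, 1 ≤ n i) (_ : ∀ i, IsUnit (n i : Localization.AtPrime (Ideal.span {f i})))
      (_ : ∀ (i : Fin r) (q : Ideal Γ(V.left, ⊤)) [q.IsPrime] (hq : Ideal.comap (algebraMap A Γ(V.left, ⊤)) q = ⊥),
        Good (Localization.AtPrime (Ideal.span {f i}))
          (SGA1.genericResidueMap (algebraMap A Γ(V.left, ⊤)) (Ideal.span {f i}) q hq) (n i)),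
      ∃ (F' : Type u) (_ : Field F') (_ : Algebra (SGA1.kummerAlg A f n) F') (_ : IsFractionRing (SGA1.kummerAlg A f n) F')
        (_ : Algebra K F'), (∀ a, algebraMap K F' (algebraMap A K a) = algebraMap (SGA1.kummerAlg A f n) F' (algebraMap A _ a)) ∧
        Nonempty (L →ₐ[K] F') := by
    intro n hn hu hgood
    obtain ⟨W, ⟨e⟩⟩ := exists_extension hm hf V n hn hu hgood
    haveI := H9Kummer.regular f n hm hf hn
    haveI := RegLoc6.isDomain_of_isRegularLocalRing (SGA1.kummerAlg A f n)
    haveI := H9Kummer.isIntegral f n hn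
    obtain ⟨hh, hs⟩ := strictHenselian_of_finite (A := A) (B := SGA1.kummerAlg A f n)
    have hinjn := H9Kummer.injective f n hn
    obtain ⟨F', i1, i2, i3, i4, i5, t1, t2, hKF⟩ := exists_fractionField (SGA1.kummerAlg A f n) hinjn
    refine ⟨F', i1, i2, i3, i4, hKF, exists_embedding_of_extension V W e F' ?_ h₀ hhA hgenV⟩
    rw [IsScalarTower.algebraMap_apply A (SGA1.kummerAlg A f n) F']
    exact (map_ne_zero_iff _ (IsFractionRing.injective _ F')).2 ((map_ne_zero_iff _ hinjn).2 hF0)
  obtain ⟨FN, i1, i2, i3, i4, hKN, ⟨σN⟩⟩ := embed (fun _ => N) (fun _ => hN1) hNP hgoodN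
  obtain ⟨hNfin, hNsep, hNi⟩ := kummer_subfield hm hf (fun _ => N) (fun _ => hN1) (fun _ => hNu) hKN
  haveI := hNfin
  haveI := hNsep
  -- the indices
  let gL : ∀ i, Localization.AtPrime (Ideal.span {f i}) →+* L := fun i =>
    (algebraMap K L).comp (algebraMap (Localization.AtPrime (Ideal.span {f i})) K)
  have hexV : ∀ i, ∃ V₀ : ValuationSubring L, EtRam.Dominates (Localization.AtPrime (Ideal.span {f i})) (gL i) V₀ :=
    fun i => by
    obtain ⟨W, hW, hWloc⟩ := IsLocalRing.exists_factor_valuationRing (gL i)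
    haveI : IsLocalHom ((gL i).codRestrict W hW) := hWloc
    exact ⟨W, hW, fun a ha => (W.valuation_lt_one_iff _).1 (map_nonunit ((gL i).codRestrict W hW) a ha)⟩
  choose V₀ hV₀ using hexV
  let n : Fin r → ℕ := fun i =>
    letI : Algebra (Localization.AtPrime (Ideal.span {f i})) (V₀ i) := (RingHom.codRestrict _ _ (hV₀ i).1).toAlgebra
    Ideal.ramificationIdx' (maximalIdeal (Localization.AtPrime (Ideal.span {f i}))) (maximalIdeal (V₀ i))
  have hgoodLN : ∀ i, Good (Localization.AtPrime (Ideal.span {f i})) (gL i) N := fun i => by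
    letI : Algebra L FN := σN.toRingHom.toAlgebra
    haveI : IsScalarTower K L FN := IsScalarTower.of_algebraMap_eq fun x => (σN.commutes x).symm
    exact good_subextension (hNi i).1
  have hnN : ∀ i, n i ∣ N := fun i => by
    letI : Algebra (Localization.AtPrime (Ideal.span {f i})) (V₀ i) := (RingHom.codRestrict _ _ (hV₀ i).1).toAlgebra
    haveI : IsLocalHom (algebraMap (Localization.AtPrime (Ideal.span {f i})) (V₀ i)) :=
      EtRamLib.isLocalHom_of_dominates _ _ (hV₀ i)
    exact (hgoodLN i (V₀ i) (hV₀ i)).2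
  have hn1 : ∀ i, 1 ≤ n i := fun i => Nat.pos_of_dvd_of_pos (hnN i) hN1
  have hnu : ∀ i, IsUnit (n i : A) := fun i => isUnit_of_dvd_unit (map_dvd (Nat.castRingHom A) (hnN i)) hNu
  have hnP : ∀ i, IsUnit (n i : Localization.AtPrime (Ideal.span {f i})) := fun i => by
    have h := (hnu i).map (algebraMap A (Localization.AtPrime (Ideal.span {f i})))
    rwa [map_natCast] at h
  refine ⟨n, hn1, hnu, ?_⟩
  have huniq : ∀ i (V₁ : ValuationSubring L), EtRam.Dominates (Localization.AtPrime (Ideal.span {f i})) (gL i) V₁ →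
      V₁ = V₀ i := fun i V₁ h => (hNi i).2 σN V₁ (V₀ i) h (hV₀ i)
  have hgoodL : ∀ i, Good (Localization.AtPrime (Ideal.span {f i})) (gL i) (n i) := fun i W hW => by
    obtain rfl := huniq i W hW
    intro
    exact ⟨(hgoodLN i (V₀ i) hW).1, dvd_refl _⟩
  have hgoodV : ∀ (i : Fin r) (q : Ideal Γ(V.left, ⊤)) [q.IsPrime] (hq : Ideal.comap (algebraMap A Γ(V.left, ⊤)) q = ⊥),
      Good (Localization.AtPrime (Ideal.span {f i}))
        (SGA1.genericResidueMap (algebraMap A Γ(V.left, ⊤)) (Ideal.span {f i}) q hq) (n i) := fun i q _ hq => by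
    obtain ⟨ι, hι⟩ := hpoint q hq
    exact (good_point (B := Γ(V.left, ⊤)) (Ideal.span {f i}) q hq ι hι).1 (n i) (hgoodL i)
  obtain ⟨Fn, j1, j2, j3, j4, hKn, ⟨σ⟩⟩ := embed n hn1 hnP hgoodV
  obtain ⟨hnfin, hnsep, hni⟩ := kummer_subfield hm hf n hn1 hnu hKn
  haveI := hnfin
  haveI := hnsep
  let C := SGA1.kummerAlg A f n
  haveI := H9Kummer.regular f n hm hf hn1
  haveI := RegLoc6.isDomain_of_isRegularLocalRing C
  haveI := RegLoc6.isIntegrallyClosed_of_isRegularLocalRing C
  haveI := H9Kummer.isIntegral f n hn1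
  haveI := H9Kummer.finite f n hn1
  have hCinj : Function.Injective (algebraMap C Fn) := IsFractionRing.injective C Fn
  have hσA : ∀ a, σ (algebraMap B L (algebraMap A B a)) = algebraMap C Fn (algebraMap A C a) := fun a => by
    rw [← hKL, σ.commutes, hKn]
  -- the map to the Kummer algebra
  have hex : ∀ b : B, ∃ c : C, algebraMap C Fn c = σ (algebraMap B L b) := fun b => by
    obtain ⟨p, hp, hpb⟩ := Algebra.IsIntegral.isIntegral (R := A) b
    have hi : IsIntegral C (σ (algebraMap B L b)) := ⟨p.map (algebraMap A C), hp.map _, by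
      rw [Polynomial.eval₂_map]
      have h2 := congrArg (σ.toRingHom.comp (algebraMap B L)) hpb
      rw [Polynomial.hom_eval₂, map_zero] at h2
      rwa [show (σ.toRingHom.comp (algebraMap B L)).comp (algebraMap A B) = (algebraMap C Fn).comp (algebraMap A C) from
        RingHom.ext hσA] at h2⟩
    exact IsIntegrallyClosed.isIntegral_iff.1 hi
  choose φ₀ hφ₀ using hex
  let φ : B →ₐ[A] C :=
    { toFun := φ₀
      map_one' := hCinj (by rw [hφ₀, map_one, map_one, map_one])
      map_mul' := fun x y => hCinj (by rw [hφ₀, map_mul, map_mul, map_mul, hφ₀, hφ₀])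
      map_zero' := hCinj (by rw [hφ₀, map_zero, map_zero, map_zero])
      map_add' := fun x y => hCinj (by rw [hφ₀, map_add, map_add, map_add, hφ₀, hφ₀])
      commutes' := fun a => hCinj (by rw [hφ₀, hσA]) }
  have hφinj : Function.Injective φ := fun x y h => hBL (σ.injective (by
    show σ (algebraMap B L x) = σ (algebraMap B L y)
    rw [← hφ₀ x, ← hφ₀ y]; exact congrArg (algebraMap C Fn) h))
  -- surjectivity by purity over `B`
  suffices hrat : ∀ c : C, ∃ z : L, algebraMap C Fn c = σ z by
    refine ⟨AlgEquiv.ofBijective φ ⟨hφinj, fun c => ?_⟩⟩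
    obtain ⟨z, hz⟩ := hrat c
    obtain ⟨p, hp, hpc⟩ := Algebra.IsIntegral.isIntegral (R := A) c
    haveI : IsFractionRing (B ⧸ (⊥ : Ideal B)) L := inferInstance
    haveI : IsFractionRing B L :=
      IsFractionRing.of_field B L fun z => by
        obtain ⟨a, b, -, rfl⟩ := IsFractionRing.div_surjective (A := B ⧸ (⊥ : Ideal B)) z
        obtain ⟨a, rfl⟩ := Ideal.Quotient.mk_surjective a
        obtain ⟨b, rfl⟩ := Ideal.Quotient.mk_surjective b
        exact ⟨a, b, rfl⟩
    have hzi : IsIntegral B z := ⟨p.map (algebraMap A B), hp.map _, σ.injective (by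
      rw [Polynomial.eval₂_map]
      show σ.toRingHom (Polynomial.eval₂ _ z p) = σ 0
      rw [Polynomial.hom_eval₂, map_zero]
      show Polynomial.eval₂ _ (σ z) p = 0
      rw [← hz, show σ.toRingHom.comp ((algebraMap B L).comp (algebraMap A B)) = (algebraMap C Fn).comp (algebraMap A C)
        from RingHom.ext hσA, ← Polynomial.hom_eval₂, hpc, map_zero])⟩
    obtain ⟨b, hb⟩ := IsIntegrallyClosed.isIntegral_iff.1 hzi
    exact ⟨b, hCinj (by rw [show φ b = φ₀ b from rfl, hφ₀, hb, hz])⟩
  haveI : IsFractionRing B L := IsFractionRing.of_field B L fun z => by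
    obtain ⟨a, b, -, rfl⟩ := IsFractionRing.div_surjective (A := B ⧸ (⊥ : Ideal B)) z
    obtain ⟨a, rfl⟩ := Ideal.Quotient.mk_surjective a
    obtain ⟨b, rfl⟩ := Ideal.Quotient.mk_surjective b
    exact ⟨a, b, rfl⟩
  refine rational_of_purity hm hf hreg hetB (H9Kummer.etale_away f n hnu hn1) n hn1 hKL σ φ hφ₀ (fun i => (hni i).1)
    fun i V hV => ?_
  obtain rfl := huniq i V hV
  rfl

end Groth.Agent.H9Abh
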