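import Groth.Agent.H9Abh.KummerPoint

/-!
# The fraction field of a Kummer algebra and the valuations of its subfields
-/

set_option autoImplicit false
set_option linter.style.haveILetI false
set_option backward.isDefEq.respectTransparency false
set_option backward.isDefEq.respectTransparency.types false

universe u

open IsLocalRing

noncomputable section

namespace Groth.Agent.H9Abh

open Groth.Agent

theorem exists_fractionField {A : Type u} [CommRing A] [IsDomain A] (C : Type u) [CommRing C] [IsDomain C]
    [Algebra A C] (hinj : Function.Injective (algebraMap A C)) :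
    ∃ (F : Type u) (_ : Field F) (_ : Algebra C F) (_ : IsFractionRing C F) (_ : Algebra (FractionRing A) F)
      (_ : Algebra A F), IsScalarTower A C F ∧ IsScalarTower A (FractionRing A) F ∧
      ∀ a, algebraMap (FractionRing A) F (algebraMap A (FractionRing A) a) = algebraMap C F (algebraMap A C a) := by
  let F := FractionRing C
  haveI h1 : IsScalarTower A C F := inferInstance
  have hi : Function.Injective (algebraMap A F) := by
    rw [IsScalarTower.algebraMap_eq A C F]; exact (IsFractionRing.injective C F).comp hinj
  letI aK : Algebra (FractionRing A) F := (IsFractionRing.lift (A := A) (K := FractionRing A) hi).toAlgebra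
  have h : ∀ a, algebraMap (FractionRing A) F (algebraMap A (FractionRing A) a) = algebraMap C F (algebraMap A C a) :=
    fun a => (IsFractionRing.lift_algebraMap hi a).trans (IsScalarTower.algebraMap_apply A C F a)
  exact ⟨F, inferInstance, inferInstance, inferInstance, aK, inferInstance, h1,
    IsScalarTower.of_algebraMap_eq fun a => (IsScalarTower.algebraMap_apply A C F a).trans (h a).symm, h⟩

theorem genericResidueMap_eq {A B : Type u} [CommRing A] [IsDomain A] [CommRing B] [Algebra A B] (P : Ideal A)
    [P.IsPrime] (q : Ideal B) [q.IsPrime] (hq : Ideal.comap (algebraMap A B) q = ⊥) :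
    letI := (genericHom q hq).toAlgebra
    (algebraMap (FractionRing A) q.ResidueField).comp (algebraMap (Localization.AtPrime P) (FractionRing A)) =
      SGA1.genericResidueMap (algebraMap A B) P q hq := by
  letI := (genericHom q hq).toAlgebra
  refine IsLocalization.ringHom_ext P.primeCompl (RingHom.ext fun a => ?_)
  rw [RingHom.comp_apply, RingHom.comp_apply,
    ← IsScalarTower.algebraMap_apply A (Localization.AtPrime P) (FractionRing A), RingHom.algebraMap_toAlgebra,
    genericHom_algebraMap]
  unfold SGA1.genericResidueMap
  rw [RingHom.comp_apply, IsLocalization.lift_eq, RingHom.comp_apply]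

/-- Goodness and tameness at a generic point embedded in a field where they hold. -/
theorem good_point {A B : Type u} [CommRing A] [IsDomain A] [CommRing B] [Algebra A B] (P : Ideal A) [P.IsPrime]
    [IsDiscreteValuationRing (Localization.AtPrime P)] (q : Ideal B) [q.IsPrime]
    (hq : Ideal.comap (algebraMap A B) q = ⊥) {L : Type u} [Field L] [Algebra (FractionRing A) L]
    [FiniteDimensional (FractionRing A) L] [Algebra.IsSeparable (FractionRing A) L] (ι : q.ResidueField →+* L)
    (hι : ∀ a, ι (algebraMap B q.ResidueField (algebraMap A B a)) =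
      algebraMap (FractionRing A) L (algebraMap A (FractionRing A) a)) :
    (∀ n, Good (Localization.AtPrime P)
        ((algebraMap (FractionRing A) L).comp (algebraMap (Localization.AtPrime P) (FractionRing A))) n →
      Good (Localization.AtPrime P) (SGA1.genericResidueMap (algebraMap A B) P q hq) n) ∧
    (EtRam.IsTamelyRamified (Localization.AtPrime P)
        ((algebraMap (FractionRing A) L).comp (algebraMap (Localization.AtPrime P) (FractionRing A))) →
      EtRam.IsTamelyRamified (Localization.AtPrime P) (SGA1.genericResidueMap (algebraMap A B) P q hq)) := by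
  letI := (genericHom q hq).toAlgebra
  letI : Algebra q.ResidueField L := ι.toAlgebra
  haveI : IsScalarTower (FractionRing A) q.ResidueField L := IsScalarTower.of_algebraMap_eq' (by
    refine IsLocalization.ringHom_ext (nonZeroDivisors A) (RingHom.ext fun a => ?_)
    show _ = ι (genericHom q hq (algebraMap A (FractionRing A) a))
    rw [genericHom_algebraMap, hι]
    rfl)
  rw [← genericResidueMap_eq P q hq]
  exact ⟨fun n h => good_subextension h, fun h => EtRamLib.tame_subextension h⟩

variable {A : Type u} [CommRing A] [IsRegularLocalRing A] [IsDomain A] [HenselianLocalRing A]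
  [IsSepClosed (ResidueField A)] {r : ℕ} {f : Fin r → A}

/-- Valuations of Kummer extensions and of their subfields. -/
theorem kummer_subfield (hm : ∀ i, f i ∈ maximalIdeal A)
    (hf : LinearIndependent (ResidueField A) (fun i => (maximalIdeal A).toCotangent ⟨f i, hm i⟩))
    [∀ i, (Ideal.span {f i}).IsPrime] (n : Fin r → ℕ) (hn : ∀ i, 1 ≤ n i) (hu : ∀ i, IsUnit (n i : A))
    {F : Type u} [Field F] [Algebra (SGA1.kummerAlg A f n) F] [IsFractionRing (SGA1.kummerAlg A f n) F]
    [Algebra (FractionRing A) F]
    (hKF : ∀ a, algebraMap (FractionRing A) F (algebraMap A (FractionRing A) a) =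
      algebraMap (SGA1.kummerAlg A f n) F (algebraMap A _ a)) :
    FiniteDimensional (FractionRing A) F ∧ Algebra.IsSeparable (FractionRing A) F ∧
    ∀ (i : Fin r),
      Good (Localization.AtPrime (Ideal.span {f i}))
        ((algebraMap (FractionRing A) F).comp (algebraMap (Localization.AtPrime (Ideal.span {f i})) (FractionRing A)))
        (n i) ∧
      ∀ {L : Type u} [Field L] [Algebra (FractionRing A) L] (σ : L →ₐ[FractionRing A] F) (V₁ V₂ : ValuationSubring L),
        EtRam.Dominates (Localization.AtPrime (Ideal.span {f i}))
          ((algebraMap (FractionRing A) L).comp (algebraMap (Localization.AtPrime (Ideal.span {f i})) (FractionRing A))) V₁ →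
        EtRam.Dominates (Localization.AtPrime (Ideal.span {f i}))
          ((algebraMap (FractionRing A) L).comp (algebraMap (Localization.AtPrime (Ideal.span {f i})) (FractionRing A))) V₂ →
        V₁ = V₂ := by
  have hn0 : ∀ k, (n k : FractionRing A) ≠ 0 := fun k => by
    have := ((hu k).map (algebraMap A (FractionRing A))).ne_zero
    rwa [map_natCast] at this
  obtain ⟨hfin, -⟩ := kummer_finite n hn hKF
  haveI := hfin
  haveI := kummer_separable hm hf n hn hKF hn0
  refine ⟨hfin, inferInstance, fun i => ⟨fun W hW => ?_, fun {L} _ _ σ V₁ V₂ h₁ h₂ => ?_⟩⟩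
  · letI : Algebra (Localization.AtPrime (Ideal.span {f i})) W := (RingHom.codRestrict _ W hW.1).toAlgebra
    intro _
    obtain ⟨hs, -⟩ := kummer_tame hm hf n hn hKF hu i W hW
    exact ⟨hs, ((kummer_val hm hf n hn hKF i hn0 W W hW hW).2).dvd⟩
  · letI : Algebra L F := σ.toRingHom.toAlgebra
    haveI : IsScalarTower (FractionRing A) L F := IsScalarTower.of_algebraMap_eq fun x => (σ.commutes x).symm
    obtain ⟨W₁, hW₁, e₁⟩ := EtRamLib.exists_above (M := F) _ V₁ h₁
    obtain ⟨W₂, hW₂, e₂⟩ := EtRamLib.exists_above (M := F) _ V₂ h₂
    rw [← EtRamLib.comp_eq] at hW₁ hW₂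
    rw [← e₁, ← e₂, (kummer_val hm hf n hn hKF i hn0 W₁ W₂ hW₁ hW₂).1]

end Groth.Agent.H9Abh
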