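import Groth.Agent.H9Abh.KummerVal
import Groth.Agent.H9Abh.CoverAlg

/-!
# Embedding generic fields of tame covers into Kummer extensions
-/

set_option autoImplicit false
set_option linter.style.haveILetI false
set_option backward.isDefEq.respectTransparency false
set_option backward.isDefEq.respectTransparency.types false

universe u

open CategoryTheory CategoryTheory.Limits AlgebraicGeometry TensorProduct IsLocalRing

noncomputable section

namespace Groth.Agent.H9Abh

open Groth.Agent

/-- Points of a cover with values in fields over a strictly henselian base over which it extends are embedded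
into the fraction field of the base. -/
theorem exists_embedding_of_extension {A S : Type u} [CommRing A] [CommRing S] [IsDomain S]
    [HenselianLocalRing S] [IsSepClosed (ResidueField S)] [Algebra A S]
    {F : A} (V : FEt.Cat ((SGA1.specBasicOpen A F) : Scheme.{u}))
    (W : FEt.Cat (Spec (CommRingCat.of S)))
    (e : (FEt.restrict ((Spec.map (CommRingCat.ofHom (algebraMap A S))) ⁻¹ᵁ (SGA1.specBasicOpen A F)).ι).obj W ≅
      (FEt.restrict ((Spec.map (CommRingCat.ofHom (algebraMap A S))) ∣_ (SGA1.specBasicOpen A F))).obj V)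
    {K₀ : Type u} [Field K₀] [Algebra A K₀] (K : Type u) [Field K] [Algebra S K] [IsFractionRing S K]
    [Algebra K₀ K] [Algebra A K] [IsScalarTower A S K] [IsScalarTower A K₀ K]
    (hF : algebraMap A K F ≠ 0) {L : Type u} [Field L] [Algebra K₀ L] [Algebra.IsAlgebraic K₀ L]
    (h : letI : Algebra A Γ(V.left, ⊤) := (structHom V).toAlgebra; Γ(V.left, ⊤) →+* L)
    (hh : ∀ a, h (structHom V a) = algebraMap K₀ L (algebraMap A K₀ a))
    (hgen : ∀ z : L, ∃ (γ : Γ(V.left, ⊤)) (k : K₀), z = h γ * algebraMap K₀ L k) :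
    Nonempty (L →ₐ[K₀] K) := by
  let Ω := AlgebraicClosure K
  let σ₀ : L →ₐ[K₀] Ω := IsAlgClosed.lift
  have hr := range_of_extension (A := A) (A' := S) (S := S) V W e K hF Ω (algebraMap K Ω) (σ₀.toRingHom.comp h) (fun a => by
    show σ₀ (h (structHom V a)) = _
    rw [hh, AlgHom.commutes, IsScalarTower.algebraMap_apply A K₀ K, ← IsScalarTower.algebraMap_apply K₀ K Ω])
  let ι : K →ₐ[K₀] Ω := IsScalarTower.toAlgHom K₀ K Ω
  have hrange : ∀ z, σ₀ z ∈ ι.range := fun z => by
    obtain ⟨γ, k, rfl⟩ := hgen z
    obtain ⟨x, hx⟩ := hr γ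
    refine ⟨x * algebraMap K₀ K k, ?_⟩
    show ι (x * algebraMap K₀ K k) = _
    rw [map_mul, AlgHom.commutes, map_mul, AlgHom.commutes]
    exact congrArg (· * _) hx.symm
  exact ⟨(AlgEquiv.ofInjective ι (algebraMap K Ω).injective).symm.toAlgHom.comp (σ₀.codRestrict ι.range hrange)⟩

end Groth.Agent.H9Abh
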