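import Groth.Agent.H9Abh.Main
import Groth.Agent.H9Kummer.RadicalTame
import Groth.Agent.H9Kummer.Galois

/-!
# Valuations of Kummer extensions along the branches
-/

set_option autoImplicit false
set_option linter.style.haveILetI false

universe u

open IsLocalRing

noncomputable section

namespace Groth.Agent.H9Abh

open Groth.Agent

theorem ramificationIdx'_eq_of_pow {R S : Type u} [CommRing R] [IsDomain R] [IsDiscreteValuationRing R] [CommRing S]
    [IsDomain S] [IsDiscreteValuationRing S] [Algebra R S] {π : R} {τ : S} {e : ℕ} (hπ : Irreducible π)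
    (hτ : Irreducible τ) (h : algebraMap R S π = τ ^ e) :
    Ideal.ramificationIdx' (maximalIdeal R) (maximalIdeal S) = e := by
  refine Ideal.ramificationIdx'_spec ?_ ?_ <;>
    rw [hπ.maximalIdeal_eq, hτ.maximalIdeal_eq, Ideal.map_span, Set.image_singleton, h, Ideal.span_singleton_pow]
  rw [Ideal.span_singleton_le_span_singleton]
  exact fun hd => ((pow_dvd_pow_iff hτ.ne_zero hτ.not_isUnit).1 hd).not_gt (Nat.lt_succ_self e)

/-- Valuation subrings dominating a DVR and centred at the same height one prime of an integral normal model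
are equal. -/
theorem valuationSubring_eq_of_center {C : Type u} [CommRing C] [IsDomain C] {F : Type u} [Field F] [Algebra C F]
    [IsFractionRing C F] (W₁ W₂ : ValuationSubring F) (h₁ : ∀ c, algebraMap C F c ∈ W₁)
    (h₂ : ∀ c, algebraMap C F c ∈ W₂) (P : Ideal C) [P.IsPrime] [IsDiscreteValuationRing (Localization.AtPrime P)]
    (hP₁ : ((maximalIdeal W₁).comap ((algebraMap C F).codRestrict W₁ h₁)) = P)
    (hP₂ : ((maximalIdeal W₂).comap ((algebraMap C F).codRestrict W₂ h₂)) = P) : W₁ = W₂ := by
  suffices H : ∀ (W W' : ValuationSubring F) (h : ∀ c, algebraMap C F c ∈ W) (h' : ∀ c, algebraMap C F c ∈ W'),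
      (maximalIdeal W).comap ((algebraMap C F).codRestrict W h) = P →
      (maximalIdeal W').comap ((algebraMap C F).codRestrict W' h') = P → W ≤ W' from
    le_antisymm (H _ _ h₁ h₂ hP₁ hP₂) (H _ _ h₂ h₁ hP₂ hP₁)
  intro W W' h h' hP hP' x hx
  letI : Algebra C W := ((algebraMap C F).codRestrict W h).toAlgebra
  subst hP
  obtain ⟨Φ, hΦ, -⟩ := EtRamLib.exists_surjective_of_center W (Algebra.ofId C W) (fun _ => rfl)
    (inferInstanceAs (ValuationRing (Localization.AtPrime ((maximalIdeal W).comap ((algebraMap C F).codRestrict W h)))))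
  obtain ⟨l, hl⟩ := hΦ ⟨x, hx⟩
  obtain ⟨c, s, rfl⟩ := IsLocalization.exists_mk'_eq ((maximalIdeal W).comap (Algebra.ofId C W).toRingHom).primeCompl l
  have e : x * algebraMap C F (s : C) = algebraMap C F c := by
    have e1 := congrArg Φ (IsLocalization.mk'_spec (Localization.AtPrime _) c s)
    rw [map_mul, hl, AlgHom.commutes, AlgHom.commutes] at e1
    exact congrArg Subtype.val e1
  have hu : IsUnit ((algebraMap C F).codRestrict W' h' (s : C)) := notMem_maximalIdeal.1 fun hm => s.2 (by
    have : (s : C) ∈ (maximalIdeal W').comap ((algebraMap C F).codRestrict W' h') := hm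
    rwa [hP'] at this)
  obtain ⟨v, hv⟩ := hu
  have hv1 : algebraMap C F (s : C) * ((v⁻¹ : W'ˣ) : W') = (1 : F) := by
    have := congrArg Subtype.val (v.mul_inv)
    rw [hv] at this
    exact this
  have : x = algebraMap C F c * ((v⁻¹ : W'ˣ) : W') := by rw [← e, mul_assoc, hv1, mul_one]
  rw [this]
  exact W'.mul_mem _ _ (h' c) (SetLike.coe_mem _)

variable {A : Type u} [CommRing A] [IsRegularLocalRing A] [IsDomain A] {r : ℕ} {f : Fin r → A}
  (hm : ∀ i, f i ∈ maximalIdeal A)
  (hf : LinearIndependent (ResidueField A) (fun i => (maximalIdeal A).toCotangent ⟨f i, hm i⟩))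
  [hprime : ∀ i, (Ideal.span {f i}).IsPrime] (n : Fin r → ℕ) (hn : ∀ i, 1 ≤ n i)
  {K : Type u} [Field K] [Algebra A K] [IsFractionRing A K]
  {F : Type u} [Field F] [Algebra (SGA1.kummerAlg A f n) F] [IsFractionRing (SGA1.kummerAlg A f n) F] [Algebra K F]
  (hKF : ∀ a, algebraMap K F (algebraMap A K a) = algebraMap (SGA1.kummerAlg A f n) F (algebraMap A _ a))

include hn hKF in
theorem kummer_finite : FiniteDimensional K F ∧
    IntermediateField.adjoin K (Set.range fun i => algebraMap (SGA1.kummerAlg A f n) F (H9Kummer.T f n i)) = ⊤ := by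
  let τ := fun i => algebraMap (SGA1.kummerAlg A f n) F (H9Kummer.T f n i)
  let E := IntermediateField.adjoin K (Set.range τ)
  have hmem : ∀ c, algebraMap (SGA1.kummerAlg A f n) F c ∈ E := fun c => by
    have hc : c ∈ Algebra.adjoin A (Set.range (H9Kummer.T f n)) := H9Kummer.adjoin_T f n ▸ Algebra.mem_top
    induction hc using Algebra.adjoin_induction with
    | mem x hx => obtain ⟨i, rfl⟩ := hx; exact IntermediateField.subset_adjoin K _ ⟨i, rfl⟩
    | algebraMap a => rw [← hKF]; exact E.algebraMap_mem _
    | add x y _ _ hx hy => rw [map_add]; exact E.add_mem hx hy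
    | mul x y _ _ hx hy => rw [map_mul]; exact E.mul_mem hx hy
  have hE : E = ⊤ := eq_top_iff.2 fun z _ => by
    obtain ⟨a, b, -, rfl⟩ := IsFractionRing.div_surjective (A := SGA1.kummerAlg A f n) z
    exact E.div_mem (hmem a) (hmem b)
  refine ⟨?_, hE⟩
  have hint : ∀ x ∈ Set.range τ, IsIntegral K x := by
    rintro _ ⟨i, rfl⟩
    refine IsIntegral.of_pow (hn i) ?_
    show IsIntegral K (algebraMap (SGA1.kummerAlg A f n) F (H9Kummer.T f n i) ^ n i)
    rw [← map_pow, H9Kummer.T_pow, ← hKF]
    exact isIntegral_algebraMap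
  haveI : FiniteDimensional K E := IntermediateField.finiteDimensional_adjoin hint
  exact ((IntermediateField.equivOfEq hE).trans IntermediateField.topEquiv).toLinearEquiv.finiteDimensional

include hm hf hn hKF in
theorem kummer_separable (hn0 : ∀ i, (n i : K) ≠ 0) : Algebra.IsSeparable K F := by
  obtain ⟨hfin, htop⟩ := kummer_finite n hn hKF
  haveI := H9Kummer.regular f n hm hf hn
  haveI : Algebra.IsSeparable K (IntermediateField.adjoin K
      (Set.range fun i => algebraMap (SGA1.kummerAlg A f n) F (H9Kummer.T f n i))) := by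
    refine (IntermediateField.isSeparable_adjoin_iff_isSeparable K F).2 ?_
    rintro _ ⟨i, rfl⟩
    have hp : (Polynomial.X ^ n i - Polynomial.C (algebraMap A K (f i))).Separable :=
      Polynomial.separable_X_pow_sub_C _ (hn0 i)
        ((map_ne_zero_iff _ (IsFractionRing.injective A K)).2 (f_ne_zero hm hf i))
    refine hp.of_dvd (minpoly.dvd K _ ?_)
    rw [map_sub, map_pow, Polynomial.aeval_X, Polynomial.aeval_C, hKF, ← map_pow, H9Kummer.T_pow, sub_self]
  exact AlgEquiv.Algebra.isSeparable ((IntermediateField.equivOfEq htop).trans IntermediateField.topEquiv)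

include hm hf hn hKF in
/-- Along each branch there is exactly one valuation, with ramification index the exponent. -/
theorem kummer_val (i : Fin r) (hn0 : ∀ k, (n k : K) ≠ 0)
    (W₁ W₂ : ValuationSubring F)
    [Algebra (Localization.AtPrime (Ideal.span {f i})) K] [IsScalarTower A (Localization.AtPrime (Ideal.span {f i})) K]
    (h₁ : EtRam.Dominates (Localization.AtPrime (Ideal.span {f i}))
      ((algebraMap K F).comp (algebraMap (Localization.AtPrime (Ideal.span {f i})) K)) W₁)
    (h₂ : EtRam.Dominates (Localization.AtPrime (Ideal.span {f i}))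
      ((algebraMap K F).comp (algebraMap (Localization.AtPrime (Ideal.span {f i})) K)) W₂) :
    W₁ = W₂ ∧
      letI : Algebra (Localization.AtPrime (Ideal.span {f i})) W₁ := (RingHom.codRestrict _ W₁ h₁.1).toAlgebra
      Ideal.ramificationIdx' (maximalIdeal (Localization.AtPrime (Ideal.span {f i}))) (maximalIdeal W₁) = n i := by
  classical
  let AP := Localization.AtPrime (Ideal.span {f i})
  let A' := SGA1.kummerAlg A f n
  haveI := H9Kummer.regular f n hm hf hn
  haveI := RegLoc6.isDomain_of_isRegularLocalRing A'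
  haveI := H9Kummer.isIntegral f n hn
  obtain ⟨hTp, hT0⟩ := T_prime f n hm hf hn i
  haveI := hTp
  haveI : IsDiscreteValuationRing (Localization.AtPrime (Ideal.span {H9Kummer.T f n i})) := isDVR_atPrime _ hT0 _ rfl
  have hA : ∀ (W : ValuationSubring F),
      EtRam.Dominates AP ((algebraMap K F).comp (algebraMap AP K)) W →
      ∃ h : ∀ c, algebraMap A' F c ∈ W,
        (maximalIdeal W).comap ((algebraMap A' F).codRestrict W h) = Ideal.span {H9Kummer.T f n i} := by
    intro W hW
    have hAW : ∀ a, algebraMap A' F (algebraMap A A' a) ∈ W := fun a => by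
      rw [← hKF, IsScalarTower.algebraMap_apply A AP K]; exact hW.1 _
    let gW : A →+* W := ((algebraMap A' F).comp (algebraMap A A')).codRestrict W hAW
    have h : ∀ c, algebraMap A' F c ∈ W := fun c => by
      obtain ⟨P, hP, hPc⟩ := Algebra.IsIntegral.isIntegral (R := A) c
      have hi : IsIntegral W (algebraMap A' F c) := ⟨P.map gW, hP.map gW, by
        rw [Polynomial.eval₂_map]
        have := congrArg (algebraMap A' F) hPc
        rw [Polynomial.hom_eval₂, map_zero] at this
        exact this⟩
      obtain ⟨v, hv⟩ := IsIntegrallyClosed.isIntegral_iff.1 hi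
      rw [← hv]; exact v.2
    refine ⟨h, ?_⟩
    let P := (maximalIdeal W).comap ((algebraMap A' F).codRestrict W h)
    haveI : P.IsPrime := Ideal.IsPrime.comap _
    have hPA : P.comap (algebraMap A A') = Ideal.span {f i} := by
      ext a
      rw [← IsLocalization.AtPrime.to_map_mem_maximal_iff AP (Ideal.span {f i}) a]
      show (algebraMap A' F).codRestrict W h (algebraMap A A' a) ∈ maximalIdeal W ↔ _
      rw [W.valuation_lt_one_iff]
      show W.valuation (algebraMap A' F (algebraMap A A' a)) < 1 ↔ _
      rw [← hKF, IsScalarTower.algebraMap_apply A AP K]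
      refine ⟨fun hlt => ?_, fun hmem => hW.2 _ hmem⟩
      rw [mem_maximalIdeal]
      intro hu
      obtain ⟨y, hy⟩ := hu.exists_left_inv
      have h3 := congrArg (fun z => W.valuation (algebraMap K F (algebraMap AP K z))) hy
      simp only [map_mul, map_one] at h3
      have h4 : W.valuation (algebraMap K F (algebraMap AP K y)) * W.valuation (algebraMap K F (algebraMap AP K (algebraMap A AP a))) < 1 :=
        lt_of_le_of_lt ((mul_le_mul' ((W.valuation_le_one_iff _).2 (hW.1 y)) le_rfl).trans_eq (one_mul _)) hlt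
      exact h4.ne h3
    have hT : H9Kummer.T f n i ∈ P := Ideal.IsPrime.mem_of_pow_mem inferInstance (n i) (by
      rw [H9Kummer.T_pow]
      exact hPA.ge (Ideal.mem_span_singleton_self _))
    refine ((eq_or_lt_of_le ((Ideal.span_singleton_le_iff_mem _).2 hT)).resolve_right fun hlt => ?_).symm
    exact (Ideal.IsIntegral.comap_lt_comap (R := A) hlt).ne (by rw [hPA, comap_span_T f n hm hf hn (f_ne_zero hm hf) i])
  obtain ⟨g₁, hg₁⟩ := hA W₁ h₁
  obtain ⟨g₂, hg₂⟩ := hA W₂ h₂
  refine ⟨valuationSubring_eq_of_center W₁ W₂ g₁ g₂ _ hg₁ hg₂, ?_⟩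
  letI : Algebra AP W₁ := (RingHom.codRestrict _ W₁ h₁.1).toAlgebra
  haveI : IsFractionRing AP K :=
    IsFractionRing.isFractionRing_of_isDomain_of_isLocalization (Ideal.span {f i}).primeCompl AP K
  haveI : IsDiscreteValuationRing AP := isDVR_atPrime (f i) (f_ne_zero hm hf i) _ rfl
  obtain ⟨hfin, -⟩ := kummer_finite n hn hKF
  haveI := kummer_separable hm hf n hn hKF hn0
  haveI : IsDiscreteValuationRing W₁ := EtRamLib.isDVR_of_dominates AP K W₁ h₁
  letI : Algebra A' W₁ := ((algebraMap A' F).codRestrict W₁ g₁).toAlgebra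
  let τ : W₁ := algebraMap A' W₁ (H9Kummer.T f n i)
  have hτm : maximalIdeal W₁ = Ideal.span {τ} := by
    have hdvr : ValuationRing (Localization.AtPrime ((maximalIdeal W₁).comap (Algebra.ofId A' W₁).toRingHom)) := by
      have e : (maximalIdeal W₁).comap (Algebra.ofId A' W₁).toRingHom = Ideal.span {H9Kummer.T f n i} := hg₁
      have : IsDiscreteValuationRing (Localization.AtPrime ((maximalIdeal W₁).comap (Algebra.ofId A' W₁).toRingHom)) :=
        isDVR_atPrime _ hT0 _ e
      infer_instance
    obtain ⟨Φ, hΦ, hloc⟩ := EtRamLib.exists_surjective_of_center W₁ (Algebra.ofId A' W₁) (fun _ => rfl) hdvr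
    refine le_antisymm (fun x hx => ?_) ((Ideal.span_singleton_le_iff_mem _).2 (by
      have : H9Kummer.T f n i ∈ (maximalIdeal W₁).comap ((algebraMap A' F).codRestrict W₁ g₁) :=
        hg₁.ge (Ideal.mem_span_singleton_self _)
      exact this))
    obtain ⟨l, rfl⟩ := hΦ x
    have hl : l ∈ maximalIdeal (Localization.AtPrime ((maximalIdeal W₁).comap (Algebra.ofId A' W₁).toRingHom)) :=
      (mem_maximalIdeal _).2 fun hu => (mem_maximalIdeal _).1 hx (hu.map Φ)
    have h2 := Ideal.mem_map_of_mem Φ.toRingHom ((IsLocalization.AtPrime.map_eq_maximalIdeal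
      ((maximalIdeal W₁).comap (Algebra.ofId A' W₁).toRingHom) (Localization.AtPrime _)).ge hl)
    rw [Ideal.map_map, show Φ.toRingHom.comp (algebraMap A' _) = algebraMap A' W₁ from Φ.comp_algebraMap] at h2
    have h3 := ((congrArg (Ideal.map (algebraMap A' W₁))
      (show (maximalIdeal W₁).comap (Algebra.ofId A' W₁).toRingHom = Ideal.span {H9Kummer.T f n i} from hg₁)).trans
      ((Ideal.map_span _ _).trans (congrArg Ideal.span Set.image_singleton))).le h2
    exact h3
  have hτ0 : τ ≠ 0 := fun h0 => hT0 (IsFractionRing.injective A' F ((congrArg Subtype.val h0).trans (map_zero _).symm))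
  have hπ : algebraMap AP W₁ (algebraMap A AP (f i)) = τ ^ n i := Subtype.ext (by
    show algebraMap K F (algebraMap AP K (algebraMap A AP (f i))) = algebraMap A' F (H9Kummer.T f n i) ^ n i
    rw [← IsScalarTower.algebraMap_apply A AP K, hKF, ← map_pow, H9Kummer.T_pow])
  have hirr : Irreducible (algebraMap A AP (f i)) := irreducible_of_span (f i) (f_ne_zero hm hf i) _ rfl
  exact ramificationIdx'_eq_of_pow hirr ((IsDiscreteValuationRing.irreducible_iff_uniformizer τ).2 hτm) hπ

include hm hf hn hKF in
/-- The residue extensions along the branches are separable. -/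
theorem kummer_tame [HenselianLocalRing A] [IsSepClosed (ResidueField A)] (hu : ∀ k, IsUnit (n k : A)) (i : Fin r)
    [Algebra (Localization.AtPrime (Ideal.span {f i})) K] [IsScalarTower A (Localization.AtPrime (Ideal.span {f i})) K] :
    EtRam.IsTamelyRamified (Localization.AtPrime (Ideal.span {f i}))
      ((algebraMap K F).comp (algebraMap (Localization.AtPrime (Ideal.span {f i})) K)) := by
  let AP := Localization.AtPrime (Ideal.span {f i})
  haveI : IsFractionRing AP K :=
    IsFractionRing.isFractionRing_of_isDomain_of_isLocalization (Ideal.span {f i}).primeCompl AP K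
  haveI : IsDiscreteValuationRing AP := isDVR_atPrime (f i) (f_ne_zero hm hf i) _ rfl
  have hn0 : ∀ k, (n k : K) ≠ 0 := fun k => by
    have := ((hu k).map (algebraMap A K)).ne_zero
    rwa [map_natCast] at this
  obtain ⟨hfin, htop⟩ := kummer_finite n hn hKF
  haveI := kummer_separable hm hf n hn hKF hn0
  refine H9Kummer.RadicalTame.main AP K (fun k => algebraMap (SGA1.kummerAlg A f n) F (H9Kummer.T f n k)) n hn
    (fun k => ⟨algebraMap A K (f k), by rw [hKF, ← map_pow, H9Kummer.T_pow]⟩) (fun k => ?_)
    (fun L _ σ τ hK hT => ?_) (fun k => ?_)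
  · obtain ⟨ζ, h1, h2⟩ := H9Kummer.Galois.exists_primitiveRoot (n k) (hn k) (hu k)
    refine ⟨algebraMap A K ζ, (IsPrimitiveRoot.iff (hn k)).2 ⟨by rw [← map_pow, h1, map_one], fun l hl0 hl h => ?_⟩⟩
    refine (h2 l hl0 hl).ne_zero ?_
    rw [sub_eq_zero]
    exact IsFractionRing.injective A K (by rw [map_pow, h, map_one])
  · refine RingHom.ext fun z => ?_
    have hz : z ∈ IntermediateField.adjoin K
        (Set.range fun k => algebraMap (SGA1.kummerAlg A f n) F (H9Kummer.T f n k)) := htop ▸ trivial
    induction hz using IntermediateField.adjoin_induction with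
    | mem x hx => obtain ⟨k, rfl⟩ := hx; exact hT k
    | algebraMap c => exact RingHom.congr_fun hK c
    | add x y _ _ hx hy => rw [map_add, map_add, hx, hy]
    | inv x _ hx => rw [map_inv₀, map_inv₀, hx]
    | mul x y _ _ hx hy => rw [map_mul, map_mul, hx, hy]
  · have h := ((hu k).map (algebraMap A AP)).map (residue AP)
    rwa [map_natCast, map_natCast] at h

end Groth.Agent.H9Abh
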