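import Groth.Agent.H9Abh.Degree

/-!
# The radicial Kummer algebra in the splitting criterion
-/

set_option autoImplicit false
set_option linter.style.haveILetI false

universe u

open CategoryTheory CategoryTheory.Limits AlgebraicGeometry TensorProduct IsLocalRing

noncomputable section

namespace Groth.Agent.H9Abh

open Groth.Agent

/-- A cover which extends over the Kummer algebra of exponent `n' · p ^ a` and is unramified at the branches
of residue characteristic `p` is split over a strictly henselian regular ring containing `n'`-th roots. -/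
theorem rational_of_pPart {A : Type u} [CommRing A] [IsRegularLocalRing A] [IsDomain A] {r : ℕ} {f : Fin r → A}
    (hm : ∀ i, f i ∈ maximalIdeal A)
    (hf : LinearIndependent (ResidueField A) (fun i => (maximalIdeal A).toCotangent ⟨f i, hm i⟩))
    [∀ i, (Ideal.span {f i}).IsPrime] (V : FEt.Cat ((SGA1.specBasicOpen A (∏ i, f i)) : Scheme.{u}))
    (n : Fin r → ℕ) (hu : ∀ i, IsUnit (n i : Localization.AtPrime (Ideal.span {f i})))
    (hgood : letI : Algebra A Γ(V.left, ⊤) := (structHom V).toAlgebra
      ∀ (i : Fin r) (q : Ideal Γ(V.left, ⊤)) [q.IsPrime] (hq : Ideal.comap (algebraMap A Γ(V.left, ⊤)) q = ⊥),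
        Good (Localization.AtPrime (Ideal.span {f i}))
          (SGA1.genericResidueMap (algebraMap A Γ(V.left, ⊤)) (Ideal.span {f i}) q hq) (n i))
    (W : FEt.Cat (Spec (CommRingCat.of (SGA1.kummerAlg A f n))))
    (e : (FEt.restrict ((Spec.map (CommRingCat.ofHom (algebraMap A (SGA1.kummerAlg A f n)))) ⁻¹ᵁ (SGA1.specBasicOpen A (∏ i, f i))).ι).obj W ≅ (FEt.restrict ((Spec.map (CommRingCat.ofHom (algebraMap A (SGA1.kummerAlg A f n)))) ∣_ (SGA1.specBasicOpen A (∏ i, f i)))).obj V)
    (p : ℕ) [Fact p.Prime] (n' a : Fin r → ℕ) (hnn' : ∀ i, n i = p ^ a i * n' i)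
    (hJ : ∀ i, (p : A) ∈ Ideal.span {f i} → a i = 0)
    (S : Type u) [CommRing S] [IsRegularLocalRing S] [IsDomain S] [HenselianLocalRing S]
    [IsSepClosed (ResidueField S)] [Algebra A S] (hinj : Function.Injective (algebraMap A S))
    (t : Fin r → S) (htm : ∀ i, t i ∈ maximalIdeal S)
    (htli : LinearIndependent (ResidueField S) (fun i => (maximalIdeal S).toCotangent ⟨t i, htm i⟩))
    (ht : ∀ i, t i ^ n' i = algebraMap A S (f i))
    (hcomap : ∀ i, (Ideal.span {t i}).comap (algebraMap A S) = Ideal.span {f i})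
    (hpS : (p : S) ∈ maximalIdeal S)
    (M : Type u) [Field M] (j : FractionRing S →+* M)
    (jB : letI : Algebra A Γ(V.left, ⊤) := (structHom V).toAlgebra; Γ(V.left, ⊤) →+* M)
    (hj : ∀ a, jB (structHom V a) = j (algebraMap A (FractionRing S) a)) :
    ∀ b, ∃ x : FractionRing S, jB b = j x := by
  classical
  let m : Fin r → ℕ := fun i => p ^ a i
  have hm1 : ∀ i, 1 ≤ m i := fun i => Nat.one_le_pow _ _ (Fact.out : p.Prime).pos
  let S' := SGA1.kummerAlg S t m
  haveI := H9Kummer.regular t m htm htli hm1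
  haveI := RegLoc6.isDomain_of_isRegularLocalRing S'
  haveI := RegLoc6.isIntegrallyClosed_of_isRegularLocalRing S'
  haveI := H9Kummer.isIntegral t m hm1
  haveI : HenselianLocalRing S' := Hensel.henselianLocalRing_of_isIntegral_local S S'
  have hinj' := H9Kummer.injective t m hm1
  haveI : IsLocalHom (algebraMap S S') := Hensel.isLocalHom_of_isIntegral_local (A := S) (B := S')
  haveI : IsSepClosed (ResidueField S') := by
    haveI : Algebra.IsAlgebraic (ResidueField S) (ResidueField S') := ⟨fun x => by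
      obtain ⟨y, rfl⟩ := residue_surjective x
      have h := (Algebra.IsIntegral.isIntegral (R := S) y).map (IsScalarTower.toAlgHom S S' (ResidueField S'))
      exact IsIntegral.isAlgebraic (IsIntegral.tower_top (A := ResidueField S) h)⟩
    exact @Algebra.IsAlgebraic.isSepClosed (ResidueField S) (ResidueField S') _ _ _ _ _
  haveI : IsScalarTower A S S' := inferInstance
  let κ : SGA1.kummerAlg A f n →ₐ[A] S' := Ideal.Quotient.liftₐ _ (MvPolynomial.aeval fun i => H9Kummer.T t m i) (by
    intro x hx
    refine (Ideal.span_le.2 ?_ hx : x ∈ RingHom.ker (MvPolynomial.aeval fun i => H9Kummer.T t m i).toRingHom)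
    rintro _ ⟨i, rfl⟩
    show MvPolynomial.aeval _ _ = 0
    rw [map_sub, map_pow, MvPolynomial.aeval_X, MvPolynomial.aeval_C, hnn', pow_mul, H9Kummer.T_pow, ← map_pow, ht,
      ← IsScalarTower.algebraMap_apply, sub_self])
  letI : Algebra (SGA1.kummerAlg A f n) S' := κ.toRingHom.toAlgebra
  haveI : IsScalarTower A (SGA1.kummerAlg A f n) S' := IsScalarTower.of_algebraMap_eq fun x => (κ.commutes x).symm
  refine rational_core hm hf V n hu hgood p n' (fun i hi => by rw [hnn', hJ i hi, pow_zero, one_mul]) S hinj t htm htli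
    ht hcomap hpS (SGA1.kummerAlg A f n) W e S' hinj' (N := Finset.univ.sum a) ?_ M j jB hj
  refine pow_sub_mem_of_adjoin _ (H9Kummer.adjoin_T t m) ?_ fun c => ⟨c ^ p ^ Finset.univ.sum a, by rw [map_pow]⟩
  rintro _ ⟨i, rfl⟩
  refine ⟨t i ^ p ^ (Finset.univ.sum a - a i), ?_⟩
  rw [map_pow, ← H9Kummer.T_pow t m i, ← pow_mul, ← pow_add,
    Nat.add_sub_cancel' (Finset.single_le_sum (fun _ _ => Nat.zero_le _) (Finset.mem_univ i))]

end Groth.Agent.H9Abh
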