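import Groth.Agent.H9Abh.Descent
import Groth.Agent.H9Abh.Radical
import Groth.Agent.Hensel.HenselizationDescent

/-!
# The ramification indices of a tame cover are prime to the residue characteristic
-/

set_option autoImplicit false
set_option linter.style.haveILetI false

universe u

open CategoryTheory CategoryTheory.Limits AlgebraicGeometry TensorProduct IsLocalRing

noncomputable section

namespace Groth.Agent.H9Abh

open Groth.Agent

theorem T_injective {A : Type u} [CommRing A] [IsRegularLocalRing A] [IsDomain A] {r : ℕ} (f : Fin r → A)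
    (hm : ∀ i, f i ∈ maximalIdeal A)
    (hf : LinearIndependent (ResidueField A) (fun i => (maximalIdeal A).toCotangent ⟨f i, hm i⟩))
    [∀ i, (Ideal.span {f i}).IsPrime] (n : Fin r → ℕ) (hn : ∀ i, 1 ≤ n i) :
    Function.Injective (H9Kummer.T f n) := by
  intro i j h
  by_contra hij
  have h1 : Ideal.span {f i} = Ideal.span {f j} := by
    rw [← comap_span_T f n hm hf hn (f_ne_zero hm hf) i, ← comap_span_T f n hm hf hn (f_ne_zero hm hf) j, h]
  obtain ⟨u, hu⟩ := Ideal.span_singleton_eq_span_singleton.1 h1
  have h2 : residue A (u : A) • (maximalIdeal A).toCotangent ⟨f i, hm i⟩ =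
      (maximalIdeal A).toCotangent ⟨f j, hm j⟩ := by
    rw [show residue A (u : A) • (maximalIdeal A).toCotangent ⟨f i, hm i⟩ =
      (u : A) • (maximalIdeal A).toCotangent ⟨f i, hm i⟩ from rfl, ← map_smul]
    exact congrArg _ (Subtype.ext (by show (u : A) * f i = f j; rw [mul_comm]; exact hu))
  have h3 := Fintype.linearIndependent_iff.1 hf (Pi.single i (residue A (u : A)) - Pi.single j 1) (by
    simp only [Pi.sub_apply, sub_smul, Finset.sum_sub_distrib, Pi.single_apply, ite_smul, zero_smul,
      Finset.sum_ite_eq', Finset.mem_univ, if_true, h2, one_smul, sub_self]) j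
  rw [Pi.sub_apply, Pi.single_eq_of_ne (Ne.symm hij), Pi.single_eq_same, zero_sub, neg_eq_zero] at h3
  exact one_ne_zero h3

theorem isUnit_natCast_of_not_dvd {A : Type u} [CommRing A] [IsLocalRing A] (p : ℕ) [CharP (ResidueField A) p]
    {e : ℕ} (h : ¬ p ∣ e) : IsUnit (e : A) := by
  rw [← residue_ne_zero_iff_isUnit, map_natCast]
  exact fun h0 => h ((CharP.cast_eq_zero_iff (ResidueField A) p e).1 h0)

/-- The bound on ramification indices, for a structure map given up to equality. -/
theorem ramificationIdx'_le_of_eq {A K L : Type u} [CommRing A] [IsDomain A] [IsDiscreteValuationRing A] [Field K]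
    [Algebra A K] [IsFractionRing A K] [Field L] [Algebra K L] [FiniteDimensional K L] [Algebra.IsSeparable K L]
    {g : A →+* L} (hg : (algebraMap K L).comp (algebraMap A K) = g) (W : ValuationSubring L)
    (hW : EtRam.Dominates A g W) :
    letI : Algebra A W := (RingHom.codRestrict _ W hW.1).toAlgebra
    Ideal.ramificationIdx' (maximalIdeal A) (maximalIdeal W) ≤ Module.finrank K L := by
  subst hg
  exact (ramificationIdx'_bound A K W hW).2

variable {A : Type u} [CommRing A] [IsRegularLocalRing A] [IsDomain A] {r : ℕ} {f : Fin r → A}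

set_option maxHeartbeats 1000000 in
/-- The indices divide the prime-to-`p` exponents, given a strictly henselian base over the Kummer algebra. -/
theorem dvd_of_strict (hm : ∀ i, f i ∈ maximalIdeal A)
    (hf : LinearIndependent (ResidueField A) (fun i => (maximalIdeal A).toCotangent ⟨f i, hm i⟩))
    [∀ i, (Ideal.span {f i}).IsPrime] (V : FEt.Cat ((SGA1.specBasicOpen A (∏ i, f i)) : Scheme.{u}))
    (nn : Fin r → ℕ) (hnn1 : ∀ k, 1 ≤ nn k) (hu : ∀ k, IsUnit (nn k : Localization.AtPrime (Ideal.span {f k})))
    (hgood : letI : Algebra A Γ(V.left, ⊤) := (structHom V).toAlgebra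
      ∀ (i : Fin r) (q : Ideal Γ(V.left, ⊤)) [q.IsPrime] (hq : Ideal.comap (algebraMap A Γ(V.left, ⊤)) q = ⊥),
        Good (Localization.AtPrime (Ideal.span {f i}))
          (SGA1.genericResidueMap (algebraMap A Γ(V.left, ⊤)) (Ideal.span {f i}) q hq) (nn i))
    (p : ℕ) [Fact p.Prime] (hpm : (p : A) ∈ maximalIdeal A) (n' a : Fin r → ℕ) (hn'1 : ∀ k, 1 ≤ n' k)
    (hnn' : ∀ k, nn k = p ^ a k * n' k) (hJ : ∀ k, (p : A) ∈ Ideal.span {f k} → a k = 0)
    (S : Type u) [CommRing S] [IsRegularLocalRing S] [IsDomain S] [HenselianLocalRing S]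
    [IsSepClosed (ResidueField S)] [Algebra A S] [Algebra (SGA1.kummerAlg A f n') S]
    (hAS : algebraMap A S = (algebraMap (SGA1.kummerAlg A f n') S).comp (algebraMap A (SGA1.kummerAlg A f n')))
    [Module.FaithfullyFlat (SGA1.kummerAlg A f n') S]
    (hmap : ∀ m : Ideal (SGA1.kummerAlg A f n'), m.IsMaximal → m.map (algebraMap _ S) = maximalIdeal S)
    (hdim : ringKrullDim S = ringKrullDim (SGA1.kummerAlg A f n'))
    (i : Fin r) :
    letI : Algebra A Γ(V.left, ⊤) := (structHom V).toAlgebra
    ∀ (q : Ideal Γ(V.left, ⊤)) [q.IsPrime] (hq : Ideal.comap (algebraMap A Γ(V.left, ⊤)) q = ⊥)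
      (W : ValuationSubring q.ResidueField)
      (hW : EtRam.Dominates (Localization.AtPrime (Ideal.span {f i}))
        (SGA1.genericResidueMap (algebraMap A Γ(V.left, ⊤)) (Ideal.span {f i}) q hq) W),
      letI : Algebra (Localization.AtPrime (Ideal.span {f i})) W := (RingHom.codRestrict _ W hW.1).toAlgebra
      ∀ [IsLocalHom (algebraMap (Localization.AtPrime (Ideal.span {f i})) W)],
      Ideal.ramificationIdx' (maximalIdeal (Localization.AtPrime (Ideal.span {f i}))) (maximalIdeal W) ∣ n' i := by
  letI algB : Algebra A Γ(V.left, ⊤) := (structHom V).toAlgebra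
  intro q _ hq W hW
  letI : Algebra (Localization.AtPrime (Ideal.span {f i})) W := (RingHom.codRestrict _ W hW.1).toAlgebra
  intro _
  obtain ⟨hsepW, -⟩ := hgood i q hq W hW
  let A2 := SGA1.kummerAlg A f n'
  let B := Γ(V.left, ⊤)
  have hF : (∏ i, f i) ≠ 0 := Finset.prod_ne_zero_iff.2 fun i _ => f_ne_zero hm hf i
  obtain ⟨hfinK, hetK⟩ := generic_finite_etale hF V
  haveI := hfinK
  haveI := hetK
  haveI : ∀ i, IsDiscreteValuationRing (Localization.AtPrime (Ideal.span {f i})) := fun i =>
    isDVR_atPrime (f i) (f_ne_zero hm hf i) _ rfl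
  obtain ⟨Wc, ⟨ec⟩⟩ := exists_extension hm hf V nn hnn1 hu hgood
  haveI := H9Kummer.isIntegral f n' hn'1
  have hinj2 : Function.Injective (algebraMap A A2) := H9Kummer.injective f n' hn'1
  let t : Fin r → S := fun k => algebraMap A2 S (H9Kummer.T f n' k)
  obtain ⟨G, hG, hTG, hcard, _, hmax⟩ := H9Kummer.exists_gens f n' hm hf hn'1
  have hmaxS : maximalIdeal S = Ideal.span (algebraMap A2 S '' G) := by
    rw [← hmap _ (IsLocalRing.maximalIdeal.isMaximal _), hmax, Ideal.map_span]
  have hrange : Set.range t ⊆ algebraMap A2 S '' G := by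
    rintro _ ⟨k, rfl⟩; exact ⟨_, hTG ⟨k, rfl⟩, rfl⟩
  have htm : ∀ k, t k ∈ maximalIdeal S := fun k => hmaxS.ge (Ideal.subset_span (hrange ⟨k, rfl⟩))
  have htli := linearIndependent_of_gens t
    ((FaithfulSMul.algebraMap_injective A2 S).comp (T_injective f hm hf n' hn'1)) _ (hG.image _) hrange hmaxS
    (by
      rw [hdim]
      exact le_trans (Nat.cast_le.2 (Set.ncard_image_le hG)) hcard) htm
  have ht : ∀ k, t k ^ n' k = algebraMap A S (f k) := fun k => by
    show algebraMap A2 S _ ^ n' k = _
    rw [← map_pow, H9Kummer.T_pow, hAS, RingHom.comp_apply]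
  have hcomap : ∀ k, (Ideal.span {t k}).comap (algebraMap A S) = Ideal.span {f k} := fun k => by
    rw [hAS, ← Ideal.comap_comap,
      show Ideal.span {t k} = (Ideal.span {H9Kummer.T f n' k}).map (algebraMap A2 S) by
        rw [Ideal.map_span, Set.image_singleton],
      Ideal.comap_map_eq_self_of_faithfullyFlat, comap_span_T f n' hm hf hn'1 (f_ne_zero hm hf) k]
  have hinjS : Function.Injective (algebraMap A S) := by
    rw [hAS]
    exact (FaithfulSMul.algebraMap_injective A2 S).comp hinj2
  have hpS : (p : S) ∈ maximalIdeal S := by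
    haveI : IsLocalHom (algebraMap A A2) := Hensel.isLocalHom_of_isIntegral_local (A := A) (B := A2)
    haveI : IsLocalRing A2 := by assumption
    haveI : IsLocalHom (algebraMap A2 S) := ⟨fun x hx => by
      by_contra hn
      exact (mem_maximalIdeal _).1 ((hmap _ (IsLocalRing.maximalIdeal.isMaximal _)).le (Ideal.mem_map_of_mem _ ((mem_maximalIdeal _).2 hn))) hx⟩
    rw [← map_natCast (algebraMap A2 S) p, ← map_natCast (algebraMap A A2) p]
    exact map_nonunit _ _ (map_nonunit _ _ hpm)
  obtain ⟨htp, ht0⟩ := prime_span_of_notMem_sq (htm i) (notMem_sq_of_linearIndependent htm htli i)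
  haveI := htp
  haveI : IsDiscreteValuationRing (Localization.AtPrime (Ideal.span {t i})) := isDVR_atPrime (t i) ht0 _ rfl
  let R := Localization.AtPrime (Ideal.span {t i})
  haveI : IsDomain R := IsLocalization.isDomain_localization (Ideal.span {t i}).primeCompl_le_nonZeroDivisors
  let K := FractionRing S
  haveI : IsFractionRing R K :=
    IsFractionRing.isFractionRing_of_isDomain_of_isLocalization (Ideal.span {t i}).primeCompl R K
  have hd := ramificationIdx'_dvd_of_rational (B := B) (Ideal.span {f i}) (irreducible_of_span (f i) (f_ne_zero hm hf i) _ rfl)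
    (R := R) (by
      rw [IsScalarTower.algebraMap_eq A S R]
      exact (IsLocalization.injective R (Ideal.span {t i}).primeCompl_le_nonZeroDivisors).comp hinjS)
    (by
      rw [IsScalarTower.algebraMap_eq A S R, ← Ideal.comap_comap,
        show Ideal.comap (algebraMap S R) (maximalIdeal R) = Ideal.span {t i} from
          IsLocalization.AtPrime.under_maximalIdeal R _, hcomap])
    (irreducible_of_span (t i) ht0 _ rfl) (n' := n' i)
    (by rw [← map_pow, ht, ← IsScalarTower.algebraMap_apply]) K
    (fun M _ j jB hj => rational_of_pPart hm hf V nn hu hgood Wc ec p n' a hnn' hJ S hinjS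
      t htm htli ht hcomap hpS M j jB fun x => by
        rw [show structHom V x = algebraMap A B x from rfl, hj, IsScalarTower.algebraMap_apply A S R,
          ← IsScalarTower.algebraMap_apply S R K, ← IsScalarTower.algebraMap_apply A S K])
    q hq W hW (fun {_} => hsepW)
  exact hd

set_option maxHeartbeats 400000 in
/-- A tame cover is good along each branch for one exponent which is a unit in `A`. -/
theorem exists_good_exponent (hm : ∀ i, f i ∈ maximalIdeal A)
    (hf : LinearIndependent (ResidueField A) (fun i => (maximalIdeal A).toCotangent ⟨f i, hm i⟩))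
    [∀ i, (Ideal.span {f i}).IsPrime] (V : FEt.Cat ((SGA1.specBasicOpen A (∏ i, f i)) : Scheme.{u}))
    (htame : SGA1.IsTameAlong f (structHom V)) :
    letI : Algebra A Γ(V.left, ⊤) := (structHom V).toAlgebra
    ∃ n : ℕ, 1 ≤ n ∧ IsUnit (n : A) ∧
      ∀ (i : Fin r) (q : Ideal Γ(V.left, ⊤)) [q.IsPrime] (hq : Ideal.comap (algebraMap A Γ(V.left, ⊤)) q = ⊥),
        Good (Localization.AtPrime (Ideal.span {f i}))
          (SGA1.genericResidueMap (algebraMap A Γ(V.left, ⊤)) (Ideal.span {f i}) q hq) n := by
  letI algB : Algebra A Γ(V.left, ⊤) := (structHom V).toAlgebra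
  let B := Γ(V.left, ⊤)
  have hF : (∏ i, f i) ≠ 0 := Finset.prod_ne_zero_iff.2 fun i _ => f_ne_zero hm hf i
  obtain ⟨hfinK, hetK⟩ := generic_finite_etale hF V
  haveI := hfinK
  haveI := hetK
  let N := Module.finrank (FractionRing A) (FractionRing A ⊗[A] B)
  haveI : ∀ i, IsDiscreteValuationRing (Localization.AtPrime (Ideal.span {f i})) := fun i =>
    isDVR_atPrime (f i) (f_ne_zero hm hf i) _ rfl
  let nn : Fin r → ℕ := fun i => exponent (Localization.AtPrime (Ideal.span {f i})) N
  have hgood : ∀ (i : Fin r) (q : Ideal B) [q.IsPrime] (hq : Ideal.comap (algebraMap A B) q = ⊥),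
      Good (Localization.AtPrime (Ideal.span {f i}))
        (SGA1.genericResidueMap (algebraMap A B) (Ideal.span {f i}) q hq) (nn i) := fun i q _ hq => by
    letI := (genericHom q hq).toAlgebra
    obtain ⟨hfin, hsep, hle⟩ := finite_separable_generic q hq
    let AP := Localization.AtPrime (Ideal.span {f i})
    have hgm : (algebraMap (FractionRing A) q.ResidueField).comp (algebraMap AP (FractionRing A)) =
        SGA1.genericResidueMap (algebraMap A B) (Ideal.span {f i}) q hq :=
      IsLocalization.ringHom_ext (Ideal.span {f i}).primeCompl (RingHom.ext fun a => by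
        rw [RingHom.comp_apply, RingHom.comp_apply, ← IsScalarTower.algebraMap_apply A AP (FractionRing A),
          RingHom.algebraMap_toAlgebra, genericHom_algebraMap]
        unfold SGA1.genericResidueMap
        rw [RingHom.comp_apply, IsLocalization.lift_eq, RingHom.comp_apply])
    have ht := htame i q hq
    change EtRam.IsTamelyRamified AP (SGA1.genericResidueMap (algebraMap A B) (Ideal.span {f i}) q hq) at ht
    rw [← hgm] at ht ⊢
    exact good_of_tame AP (FractionRing A) ht hle
  suffices key : ∀ (i : Fin r) (q : Ideal B) [q.IsPrime] (hq : Ideal.comap (algebraMap A B) q = ⊥)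
      (W : ValuationSubring q.ResidueField)
      (hW : EtRam.Dominates (Localization.AtPrime (Ideal.span {f i}))
        (SGA1.genericResidueMap (algebraMap A B) (Ideal.span {f i}) q hq) W),
      letI : Algebra (Localization.AtPrime (Ideal.span {f i})) W := (RingHom.codRestrict _ W hW.1).toAlgebra
      IsUnit ((Ideal.ramificationIdx' (maximalIdeal (Localization.AtPrime (Ideal.span {f i}))) (maximalIdeal W) : ℕ) : A) by
    refine ⟨exponent A N, exponent_pos A N, exponent_isUnit A N, fun i q _ hq W hW => ?_⟩
    letI : Algebra (Localization.AtPrime (Ideal.span {f i})) W := (RingHom.codRestrict _ W hW.1).toAlgebra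
    intro _
    obtain ⟨hs, -⟩ := hgood i q hq W hW
    letI := (genericHom q hq).toAlgebra
    obtain ⟨hfin, hsep, hle⟩ := finite_separable_generic q hq
    refine ⟨hs, dvd_exponent A (Nat.one_le_iff_ne_zero.2 fun h0 => ?_) ?_ (key i q hq W hW)⟩
    · have := key i q hq W hW
      rw [h0, Nat.cast_zero] at this
      exact not_isUnit_zero this
    · let AP := Localization.AtPrime (Ideal.span {f i})
      have hgm : (algebraMap (FractionRing A) q.ResidueField).comp (algebraMap AP (FractionRing A)) =
          SGA1.genericResidueMap (algebraMap A B) (Ideal.span {f i}) q hq :=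
        IsLocalization.ringHom_ext (Ideal.span {f i}).primeCompl (RingHom.ext fun a => by
          rw [RingHom.comp_apply, RingHom.comp_apply, ← IsScalarTower.algebraMap_apply A AP (FractionRing A),
            RingHom.algebraMap_toAlgebra, genericHom_algebraMap]
          unfold SGA1.genericResidueMap
          rw [RingHom.comp_apply, IsLocalization.lift_eq, RingHom.comp_apply])
      exact (ramificationIdx'_le_of_eq hgm W hW).trans hle
  intro i q _ hq W hW
  let AP := Localization.AtPrime (Ideal.span {f i})
  letI : Algebra AP W := (RingHom.codRestrict _ W hW.1).toAlgebra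
  haveI : IsLocalHom (algebraMap AP W) := EtRamLib.isLocalHom_of_dominates _ W hW
  obtain ⟨hsepW, hdvd⟩ := hgood i q hq W hW
  set e := Ideal.ramificationIdx' (maximalIdeal AP) (maximalIdeal W)
  have heAP : IsUnit ((e : ℕ) : AP) := isUnit_of_dvd_unit (map_dvd (Nat.castRingHom AP) hdvd) (exponent_isUnit AP N)
  obtain ⟨p, hpc⟩ := CharP.exists (ResidueField A)
  rcases CharP.char_is_prime_or_zero (ResidueField A) p with hp | hp0
  swap
  · subst hp0
    refine isUnit_natCast_of_not_dvd 0 fun h => ?_
    rw [Nat.eq_zero_of_zero_dvd h, Nat.cast_zero] at heAP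
    exact not_isUnit_zero heAP
  haveI := Fact.mk hp
  refine isUnit_natCast_of_not_dvd p ?_
  by_cases hpA : (p : A) = 0
  · rintro ⟨c, hc⟩
    rw [hc, Nat.cast_mul, ← map_natCast (algebraMap A AP) p, hpA, map_zero, zero_mul] at heAP
    exact not_isUnit_zero heAP
  -- mixed characteristic: pass to a strictly henselian base
  let a : Fin r → ℕ := fun k => (nn k).factorization p
  let n' : Fin r → ℕ := fun k => nn k / p ^ a k
  have hnn' : ∀ k, nn k = p ^ a k * n' k := fun k => (Nat.ordProj_mul_ordCompl_eq_self (nn k) p).symm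
  have hn'p : ∀ k, ¬ p ∣ n' k := fun k => Nat.not_dvd_ordCompl hp (Nat.one_le_iff_ne_zero.1 (exponent_pos _ N))
  have hn'1 : ∀ k, 1 ≤ n' k := fun k => Nat.one_le_iff_ne_zero.2 fun h => hn'p k (h ▸ dvd_zero p)
  have hpm : (p : A) ∈ maximalIdeal A := by
    rw [← residue_eq_zero_iff, map_natCast]; exact CharP.cast_eq_zero _ p
  have hJ : ∀ k, (p : A) ∈ Ideal.span {f k} → a k = 0 := fun k hk => by
    by_contra h0
    have hd : p ∣ nn k := Dvd.dvd.trans (dvd_pow_self p h0) ⟨n' k, hnn' k⟩
    have h1 : IsUnit ((p : ℕ) : Localization.AtPrime (Ideal.span {f k})) :=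
      isUnit_of_dvd_unit (map_dvd (Nat.castRingHom _) hd) (exponent_isUnit _ N)
    rw [← map_natCast (algebraMap A _) p, IsLocalization.AtPrime.isUnit_to_map_iff _ (Ideal.span {f k})] at h1
    exact h1 hk
  haveI := H9Kummer.regular f n' hm hf hn'1
  let A2 := SGA1.kummerAlg A f n'
  let S := Hensel.StrictHenz A2
  have hlike : Hensel.IsHenzLike A2 S := Hensel.isHenzLike_of_isStrictHenselization A2 S
  haveI : IsRegularLocalRing S := hlike.isRegularLocalRing_iff.1 inferInstance
  haveI := RegLoc6.isDomain_of_isRegularLocalRing S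
  haveI : Module.FaithfullyFlat A2 S := hlike.faithfullyFlat
  haveI : IsSepClosed (ResidueField S) := (Hensel.isSepClosure_residueField_strictHenz A2).sep_closed
  letI : Algebra A S := ((algebraMap A2 S).comp (algebraMap A A2)).toAlgebra
  exact fun h => hn'p i (h.trans (dvd_of_strict hm hf V nn (fun k => exponent_pos _ N) (fun k => exponent_isUnit _ N) hgood
    p hpm n' a hn'1 hnn' hJ S rfl (fun m hm' => (IsLocalRing.eq_maximalIdeal hm') ▸ hlike.map_maximalIdeal)
    hlike.ringKrullDim_eq i q hq W hW))

end Groth.Agent.H9Abh
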