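import Groth.Agent.H9Abh.Diff
import Groth.Agent.EtRamLib.UnrBaseChange

/-!
# Abhyankar's lemma: extracting roots of a uniformizer kills tame ramification
-/

set_option autoImplicit false
set_option linter.style.haveILetI false
universe u

open IsLocalRing TensorProduct

namespace Groth.Agent.H9Abh

/-- Residue extensions separable and all ramification indices dividing `n`. -/
def Good (A : Type u) [CommRing A] [IsLocalRing A] {L : Type u} [Field L] (g : A →+* L) (n : ℕ) : Prop :=
  ∀ (V : ValuationSubring L) (h : EtRam.Dominates A g V),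
    letI : Algebra A V := (RingHom.codRestrict g V h.1).toAlgebra
    ∀ [IsLocalHom (algebraMap A V)],
      Algebra.IsSeparable (ResidueField A) (ResidueField V) ∧
        Ideal.ramificationIdx' (maximalIdeal A) (maximalIdeal V) ∣ n

theorem exists_uniformizer_pow {A V : Type u} [CommRing A] [IsDomain A] [IsDiscreteValuationRing A] [CommRing V]
    [IsDomain V] [IsDiscreteValuationRing V] [Algebra A V] {π : A} (hπ : Irreducible π)
    (h0 : algebraMap A V π ≠ 0) :
    ∃ (ϖ : V) (u : Vˣ), Irreducible ϖ ∧
      algebraMap A V π = u * ϖ ^ Ideal.ramificationIdx' (maximalIdeal A) (maximalIdeal V) := by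
  obtain ⟨ϖ, hϖ⟩ := IsDiscreteValuationRing.exists_irreducible V
  obtain ⟨a, u, hu⟩ := IsDiscreteValuationRing.eq_unit_mul_pow_irreducible h0 hϖ
  refine ⟨ϖ, u, hϖ, ?_⟩
  have h : Ideal.ramificationIdx' (maximalIdeal A) (maximalIdeal V) = a := by
    refine Ideal.ramificationIdx'_spec ?_ ?_ <;>
      rw [hπ.maximalIdeal_eq, hϖ.maximalIdeal_eq, Ideal.map_span, Set.image_singleton, hu,
        Ideal.span_singleton_mul_left_unit u.isUnit, Ideal.span_singleton_pow]
    rw [Ideal.span_singleton_le_span_singleton]
    exact fun hd => (pow_dvd_pow_iff hϖ.ne_zero hϖ.not_isUnit).1 hd |>.not_gt (Nat.lt_succ_self a)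
  rw [h]
  exact hu

/-- A `B`-subalgebra of a domain generated by a tame algebra and a root of a unit is formally unramified. -/
theorem formallyUnramified_aux {A B V D : Type u} [CommRing A] [IsLocalRing A] [CommRing B] [CommRing V]
    [IsLocalRing V] [CommRing D] [IsLocalRing D] [Algebra A B] [Algebra A V] [Algebra B D] [Algebra V D] [Algebra A D]
    [IsScalarTower A B D] [IsScalarTower A V D]
    [IsLocalHom (algebraMap A V)] [Algebra.EssFiniteType A V]
    [Algebra.IsSeparable (ResidueField A) (ResidueField V)]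
    (ϖ : V) (hϖ : maximalIdeal V = Ideal.span {ϖ}) (s : D) (hs : IsUnit s)
    (e : ℕ) (he : IsUnit (e : A)) (u : V) (hu : s ^ e = algebraMap V D u)
    (hϖD : algebraMap V D ϖ ∈ maximalIdeal D) (b : B) (hb : algebraMap B D b = s * algebraMap V D ϖ)
    (hgen : ∀ x : D, ∃ y z : D, y ∈ Algebra.adjoin B (insert s (Set.range (algebraMap V D))) ∧
      z ∈ Algebra.adjoin B (insert s (Set.range (algebraMap V D))) ∧ IsUnit z ∧ x * z = y) :
    Algebra.FormallyUnramified B D := by
  let d := KaehlerDifferential.D B D
  have hspan : ∀ v : V, d (algebraMap V D v) ∈ Submodule.span D {d (algebraMap V D ϖ)} := fun v => by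
    have hv := diff_mem_span (A := A) ϖ hϖ v
    obtain ⟨c, hc⟩ := Submodule.mem_span_singleton.1 hv
    have := congrArg (KaehlerDifferential.map A B V D) hc
    rw [map_smul, KaehlerDifferential.map_D, KaehlerDifferential.map_D] at this
    refine Submodule.mem_span_singleton.2 ⟨algebraMap V D c, ?_⟩
    rw [algebraMap_smul]
    exact this
  -- the relation `b = s ϖ`
  have h1 : s • d (algebraMap V D ϖ) + algebraMap V D ϖ • d s = 0 := by
    rw [← Derivation.leibniz, ← hb, Derivation.map_algebraMap]
  obtain ⟨c, hc⟩ := Submodule.mem_span_singleton.1 (hspan u)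
  -- the relation `s ^ e = u`
  have h2 : e • s ^ (e - 1) • d s = c • d (algebraMap V D ϖ) := by
    rw [hc, ← hu, Derivation.leibniz_pow]
  obtain ⟨si, hsi⟩ := hs.exists_left_inv
  have h3 : d (algebraMap V D ϖ) = -(si * algebraMap V D ϖ) • d s := by
    have := congrArg (si • ·) h1
    simp only [smul_add, smul_smul, hsi, one_smul, smul_zero] at this
    rw [neg_smul]
    exact eq_neg_of_add_eq_zero_left this
  have heD : IsUnit ((e : D) * s ^ (e - 1)) :=
    (by simpa using he.map (algebraMap A D) : IsUnit (e : D)).mul (hs.pow _)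
  have hds : d s = 0 := by
    have h4 : ((e : D) * s ^ (e - 1) + c * (si * algebraMap V D ϖ)) • d s = 0 := by
      rw [h3, smul_smul, mul_neg, neg_smul] at h2
      rw [add_smul, ← eq_neg_iff_add_eq_zero, ← smul_smul, Nat.cast_smul_eq_nsmul]
      exact h2
    have hu' : IsUnit ((e : D) * s ^ (e - 1) + c * (si * algebraMap V D ϖ)) := by
      by_contra h
      have := Ideal.sub_mem _ ((mem_maximalIdeal _).2 h : _ ∈ maximalIdeal D)
        (Ideal.mul_mem_left _ c (Ideal.mul_mem_left _ si hϖD))
      rw [add_sub_cancel_right] at this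
      exact (mem_maximalIdeal _).1 this heD
    exact hu'.smul_eq_zero.1 h4
  have hv : ∀ v, d (algebraMap V D v) = 0 := fun v => by
    obtain ⟨c', hc'⟩ := Submodule.mem_span_singleton.1 (hspan v)
    rw [← hc', h3, hds, smul_zero, smul_zero]
  have hadj : ∀ y ∈ Algebra.adjoin B (insert s (Set.range (algebraMap V D))), d y = 0 := fun y hy => by
    induction hy using Algebra.adjoin_induction with
    | mem x hx =>
      rcases hx with rfl | ⟨v, rfl⟩
      · exact hds
      · exact hv v
    | algebraMap r => exact d.map_algebraMap r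
    | add x y _ _ hx hy => rw [map_add, hx, hy, add_zero]
    | mul x y _ _ hx hy => rw [Derivation.leibniz, hx, hy, smul_zero, smul_zero, add_zero]
  have hall : ∀ x, d x = 0 := fun x => by
    obtain ⟨y, z, hy, hz, hzu, hxz⟩ := hgen x
    have := congrArg d hxz
    rw [Derivation.leibniz, hadj y hy, hadj z hz, smul_zero, zero_add] at this
    exact hzu.smul_eq_zero.1 this
  refine ⟨subsingleton_of_forall_eq 0 fun y => ?_⟩
  have : y ∈ Submodule.span D (Set.range (KaehlerDifferential.D B D)) :=
    (KaehlerDifferential.span_range_derivation B D).symm ▸ Submodule.mem_top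
  induction this using Submodule.span_induction with
  | mem x hx => obtain ⟨r, rfl⟩ := hx; exact hall r
  | zero => rfl
  | add x y _ _ hx hy => rw [hx, hy, add_zero]
  | smul a x _ hx => rw [hx, smul_zero]

/-- **Abhyankar's lemma.** If the base contains an `n`-th root of a uniformizer, `n` a multiple of the
ramification indices, the composite extension is unramified. -/
theorem isUnramifiedExt_of_root {A : Type u} [CommRing A] [IsDomain A] [IsDiscreteValuationRing A]
    (K : Type u) [Field K] [Algebra A K] [IsFractionRing A K] {L : Type u} [Field L] [Algebra K L]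
    [FiniteDimensional K L] [Algebra.IsSeparable K L]
    {B : Type u} [CommRing B] [IsDomain B] [IsDiscreteValuationRing B] [Algebra A B] [IsLocalHom (algebraMap A B)]
    {M : Type u} [Field M] (i : L →+* M) (g : B →+* M) (hgi : Function.Injective g)
    (hcomm : i.comp ((algebraMap K L).comp (algebraMap A K)) = g.comp (algebraMap A B))
    (hgen : Subfield.closure (Set.range i ∪ Set.range g) = ⊤)
    (n : ℕ) (hn : IsUnit (n : A)) {π : A} (hπ : Irreducible π) (τ : B) (hτ : τ ^ n = algebraMap A B π)
    (hgood : Good A ((algebraMap K L).comp (algebraMap A K)) n) :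
    EtRam.IsUnramifiedExt B g := by
  intro W hW
  letI : Algebra B W := (RingHom.codRestrict g W hW.1).toAlgebra
  intro _
  let gA : A →+* L := (algebraMap K L).comp (algebraMap A K)
  letI : Algebra L M := i.toAlgebra
  have hWA : EtRam.Dominates A ((algebraMap L M).comp gA) W := by
    show EtRam.Dominates A (i.comp gA) W
    rw [hcomm]
    exact ⟨fun a => hW.1 _, fun a ha => hW.2 _ (map_nonunit (algebraMap A B) a ha)⟩
  let V := W.comap (algebraMap L M)
  have hV : EtRam.Dominates A gA V := EtRamLib.dominates_comap gA hWA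
  letI : Algebra A V := (RingHom.codRestrict gA V hV.1).toAlgebra
  haveI : IsLocalHom (algebraMap A V) := EtRamLib.isLocalHom_of_dominates gA V hV
  haveI : IsDiscreteValuationRing V := EtRamLib.isDVR_of_dominates A K V hV
  haveI : Algebra.EssFiniteType A V := EtRamLib.essFiniteType_of_dominates A K V hV
  obtain ⟨hsep, hdvd⟩ := hgood V hV
  haveI := hsep
  have hπ0 : algebraMap A V π ≠ 0 := fun h => hπ.ne_zero (IsFractionRing.injective A K
    ((algebraMap K L).injective ((congrArg Subtype.val h).trans (by simp))))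
  obtain ⟨ϖ, u, hϖ, hπu⟩ := exists_uniformizer_pow (V := V) hπ hπ0
  obtain ⟨m, hm⟩ := hdvd
  generalize Ideal.ramificationIdx' (maximalIdeal A) (maximalIdeal V) = e at hπu hm
  have he : IsUnit (e : A) := isUnit_of_mul_isUnit_left (y := (m : A)) (by rw [← Nat.cast_mul, ← hm]; exact hn)
  have he0 : e ≠ 0 := fun h => not_isUnit_zero (M₀ := A) (by simpa [h] using he)
  -- the root of the unit
  let x : M := i (ϖ : L)
  let t : M := g τ ^ m
  have hx0 : x ≠ 0 := fun h => hϖ.ne_zero (Subtype.ext (i.injective (h.trans i.map_zero.symm)))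
  have hte : t ^ e = i ((u : V) : L) * x ^ e := by
    show (g τ ^ m) ^ e = i ((u : V) : L) * i (ϖ : L) ^ e
    rw [← pow_mul, mul_comm m e, ← hm, ← map_pow, hτ, ← map_pow, ← map_mul]
    exact ((RingHom.congr_fun hcomm π).symm.trans (congrArg (fun v : V => i (v : L)) hπu))
  have hse : (t / x) ^ e = i ((u : V) : L) := by
    rw [div_pow, hte, mul_div_cancel_right₀ _ (pow_ne_zero _ hx0)]
  let ψ : V →+* W := EtRam.inclOfComap W (algebraMap L M)
  have hsW : t / x ∈ W := by
    have : IsIntegral W (t / x) := IsIntegral.of_pow (Nat.pos_of_ne_zero he0) (by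
      rw [hse]
      exact isIntegral_algebraMap (R := W) (A := M) (x := ψ u))
    obtain ⟨w, hw⟩ := IsIntegrallyClosed.isIntegral_iff.1 this
    exact hw ▸ w.2
  let sW : W := ⟨t / x, hsW⟩
  have hsu : sW ^ e = ψ u := Subtype.ext hse
  have hsunit : IsUnit sW := (isUnit_pow_iff he0).1 (hsu ▸ u.isUnit.map ψ)
  have hbs : algebraMap B W (τ ^ m) = sW * ψ ϖ := Subtype.ext (by
    show g (τ ^ m) = t / x * x
    rw [map_pow, div_mul_cancel₀ _ hx0])
  letI : Algebra A W := ((algebraMap B W).comp (algebraMap A B)).toAlgebra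
  haveI : IsScalarTower A B W := IsScalarTower.of_algebraMap_eq fun _ => rfl
  have hψA : ∀ a, ψ (algebraMap A V a) = algebraMap A W a := fun a => Subtype.ext (RingHom.congr_fun hcomm a)
  let ψ' : V →ₐ[A] W := { ψ with commutes' := hψA }
  letI : Algebra V (Polynomial V) := inferInstance
  let θ₁ : Polynomial V →ₐ[A] W :=
    { Polynomial.eval₂RingHom ψ sW with
      commutes' := fun a => by
        show Polynomial.eval₂ ψ sW (algebraMap A (Polynomial V) a) = _
        rw [Polynomial.algebraMap_apply, Polynomial.eval₂_C, hψA] }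
  let θ₀ : B ⊗[A] Polynomial V →ₐ[B] W := Algebra.TensorProduct.lift (Algebra.ofId B W) θ₁ fun _ _ => .all _ _
  haveI : Algebra.EssFiniteType A (Polynomial V) := Algebra.EssFiniteType.comp A V (Polynomial V)
  let D₀ := θ₀.range
  haveI : Algebra.EssFiniteType B D₀ := Algebra.EssFiniteType.of_surjective θ₀.rangeRestrict θ₀.rangeRestrict_surjective
  let P : Ideal D₀ := (maximalIdeal W).comap D₀.val.toRingHom
  let D := Localization.AtPrime P
  haveI : Algebra.EssFiniteType D₀ D := Algebra.EssFiniteType.of_isLocalization D P.primeCompl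
  haveI : Algebra.EssFiniteType B D := Algebra.EssFiniteType.comp B D₀ D
  have hs0 : sW ∈ D₀ := ⟨1 ⊗ₜ Polynomial.X, by
    show θ₀ (1 ⊗ₜ Polynomial.X) = sW
    rw [Algebra.TensorProduct.lift_tmul, map_one, one_mul]
    exact Polynomial.eval₂_X _ _⟩
  have hψ0 : ∀ v, ψ v ∈ D₀ := fun v => ⟨1 ⊗ₜ Polynomial.C v, by
    show θ₀ (1 ⊗ₜ Polynomial.C v) = ψ v
    rw [Algebra.TensorProduct.lift_tmul, map_one, one_mul]
    exact Polynomial.eval₂_C _ _⟩
  let ρ : V →+* D₀ := ψ.codRestrict D₀ hψ0
  letI : Algebra V D := ((algebraMap D₀ D).comp ρ).toAlgebra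
  haveI : IsScalarTower A V D := IsScalarTower.of_algebraMap_eq fun a => by
    show algebraMap A D a = algebraMap D₀ D (ρ (algebraMap A V a))
    rw [IsScalarTower.algebraMap_apply A D₀ D]
    exact congrArg _ (Subtype.ext (hψA a).symm)
  haveI : IsScalarTower A B D := IsScalarTower.of_algebraMap_eq fun a => by
    rw [IsScalarTower.algebraMap_apply A D₀ D, IsScalarTower.algebraMap_apply B D₀ D]
    rfl
  let s₀ : D₀ := ⟨sW, hs0⟩
  have hmem : ∀ y : D₀, algebraMap D₀ D y ∈ Algebra.adjoin B
      (insert (algebraMap D₀ D s₀) (Set.range (algebraMap V D))) := fun y => by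
    obtain ⟨z, rfl⟩ := θ₀.rangeRestrict_surjective y
    induction z using TensorProduct.induction_on with
    | zero => rw [map_zero, map_zero]; exact zero_mem _
    | add a b ha hb => rw [map_add, map_add]; exact add_mem ha hb
    | tmul b p =>
      induction p using Polynomial.induction_on' with
      | add p q hp hq => rw [tmul_add, map_add, map_add]; exact add_mem hp hq
      | monomial k v =>
        have e1 : θ₀.rangeRestrict (b ⊗ₜ Polynomial.monomial k v) = algebraMap B D₀ b * (ρ v * s₀ ^ k) :=
          Subtype.ext (by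
            show θ₀ (b ⊗ₜ Polynomial.monomial k v) = algebraMap B W b * (ψ v * sW ^ k)
            rw [Algebra.TensorProduct.lift_tmul]
            exact congrArg (algebraMap B W b * ·) (Polynomial.eval₂_monomial ψ sW))
        rw [e1, map_mul, map_mul, map_pow, ← IsScalarTower.algebraMap_apply B D₀ D]
        exact mul_mem (Subalgebra.algebraMap_mem _ b) (mul_mem
          (Algebra.subset_adjoin (Set.mem_insert_of_mem (algebraMap D₀ D s₀) (Set.mem_range_self (f := algebraMap V D) v)))
          (pow_mem (Algebra.subset_adjoin (Set.mem_insert (algebraMap D₀ D s₀) _)) k))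
  haveI : Algebra.FormallyUnramified B D := by
    refine formallyUnramified_aux (A := A) ϖ hϖ.maximalIdeal_eq (algebraMap D₀ D s₀) ?_ e he (u : V) ?_ ?_ (τ ^ m) ?_ ?_
    · exact (IsLocalization.AtPrime.isUnit_to_map_iff D P s₀).2 fun h => (mem_maximalIdeal _).1 h hsunit
    · rw [← map_pow]; exact congrArg (algebraMap D₀ D) (Subtype.ext hsu)
    · exact (IsLocalization.AtPrime.to_map_mem_maximal_iff D P (ρ ϖ)).2 ((mem_maximalIdeal _).2 fun hu =>
        hϖ.not_isUnit (by
          haveI : IsLocalHom ψ := ⟨fun v hv => isUnit_of_map_unit (EtRam.inclOfComap W (algebraMap L M)) v hv⟩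
          exact isUnit_of_map_unit ψ ϖ hu))
    · show algebraMap B D _ = algebraMap D₀ D s₀ * algebraMap D₀ D (ρ ϖ)
      rw [IsScalarTower.algebraMap_apply B D₀ D, ← map_mul]
      exact congrArg (algebraMap D₀ D) (Subtype.ext hbs)
    · intro x
      obtain ⟨c, s, rfl⟩ := IsLocalization.exists_mk'_eq P.primeCompl x
      exact ⟨_, _, hmem c, hmem s, IsLocalization.map_units D s, IsLocalization.mk'_spec D c s⟩
  have hunit : ∀ s : P.primeCompl, IsUnit (D₀.val (s : D₀)) := fun s => notMem_maximalIdeal.1 s.2
  let θ : D →ₐ[B] W := IsLocalization.liftAlgHom hunit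
  have hθ : ∀ y : D₀, θ (algebraMap D₀ D y) = (y : W) := fun y => IsLocalization.lift_eq hunit y
  refine EtRamLib.formallyUnramified_of_birational (T := D) W hW θ (fun p hp h => hp.ne_zero (hgi (h.trans g.map_zero.symm)))
    fun z => ?_
  let S := Subfield.closure (Set.range fun t => (θ t : M))
  refine (Subfield.closure_le (t := S)).2 ?_ (hgen ▸ Subfield.mem_top z)
  have hv : ∀ v : V, i (v : L) ∈ S := fun v => Subfield.subset_closure ⟨algebraMap D₀ D (ρ v), by
    show (θ _ : M) = _
    rw [hθ]; rfl⟩
  rintro _ (⟨y, rfl⟩ | ⟨b, rfl⟩)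
  · rcases V.mem_or_inv_mem y with hy | hy
    · exact hv ⟨y, hy⟩
    · have := S.inv_mem (hv ⟨y⁻¹, hy⟩)
      rwa [map_inv₀, inv_inv] at this
  · exact Subfield.subset_closure ⟨algebraMap B D b, congrArg Subtype.val (θ.commutes b)⟩

end Groth.Agent.H9Abh
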