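import Groth.Agent.H9Abh.Split
import Groth.Agent.H9Kummer.LocalCover
import Groth.Agent.Hensel.IntegralStrict
import Groth.Agent.Pi1X.FEtBasic

/-!
# Kummer covers dominate tame covers over strictly henselian bases
-/

set_option autoImplicit false
set_option linter.style.haveILetI false
set_option backward.isDefEq.respectTransparency false
set_option backward.isDefEq.respectTransparency.types false

universe u

open CategoryTheory CategoryTheory.Limits AlgebraicGeometry TensorProduct IsLocalRing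

noncomputable section

namespace Groth.Agent.H9Abh

open Groth.Agent

/-- A nonempty finite étale cover of a strictly henselian scheme has a section. -/
theorem exists_section {R : Type u} [CommRing R] [HenselianLocalRing R] [IsSepClosed (ResidueField R)]
    (W : FEt.Cat (Spec (CommRingCat.of R))) [Nonempty W.left] :
    ∃ s : Spec (CommRingCat.of R) ⟶ W.left, s ≫ W.hom = 𝟙 _ := by
  obtain ⟨C, _, _, hC1, hC2, ⟨e⟩⟩ := exists_ofAlg R W
  haveI := hC1
  haveI := hC2
  obtain ⟨x⟩ := ‹Nonempty W.left›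
  let y : PrimeSpectrum C := e.hom.left.base x
  haveI : Nontrivial C := ⟨⟨0, 1, fun h => y.isPrime.ne_top ((Ideal.eq_top_iff_one _).2 (h ▸ y.asIdeal.zero_mem))⟩⟩
  obtain ⟨Q, hQ⟩ := Ideal.exists_maximal C
  have hQc : Q.comap (algebraMap R C) = maximalIdeal R :=
    IsLocalRing.eq_maximalIdeal (Ideal.isMaximal_comap_of_isIntegral_of_isMaximal Q)
  obtain ⟨ψ, -⟩ := EtFound.exists_section_integral (R := R) R C (fun z hz => ⟨⟨Q, hQ.isPrime⟩, PrimeSpectrum.ext (by
      show Q.comap (algebraMap R C) = z.asIdeal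
      rw [hQc, ← hz, Algebra.algebraMap_self, Ideal.comap_id])⟩) ⟨Q, hQ.isPrime⟩
    (by show (Q.comap (algebraMap R C)).comap (algebraMap R R) = _; rw [hQc, Algebra.algebraMap_self, Ideal.comap_id])
  refine ⟨Spec.map (CommRingCat.ofHom ψ.toRingHom) ≫ e.inv.left, ?_⟩
  rw [Category.assoc]
  have hw : e.inv.left ≫ W.hom = Spec.map (CommRingCat.ofHom (algebraMap R C)) := Over.w e.inv.hom
  rw [hw, ← Spec.map_comp, ← CommRingCat.ofHom_comp, AlgHom.toRingHom_eq_coe, ψ.comp_algebraMap,
    Algebra.algebraMap_self, CommRingCat.ofHom_id, Spec.map_id]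

/-- A cover extending over a strictly henselian irreducible finite étale neighbourhood is dominated by it. -/
theorem exists_dominating {A A' : Type u} [CommRing A] [IsDomain A] [CommRing A'] [IsDomain A'] [Algebra A A']
    [HenselianLocalRing A'] [IsSepClosed (ResidueField A')] {F : A} (hF : algebraMap A A' F ≠ 0) (hF0 : F ≠ 0)
    (V : FEt.Cat ((SGA1.specBasicOpen A F) : Scheme.{u})) [ConnectedSpace V.left]
    (hprop : FEt.prop ((Spec.map (CommRingCat.ofHom (algebraMap A A'))) ∣_ (SGA1.specBasicOpen A F)))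
    (W : FEt.Cat (Spec (CommRingCat.of A')))
    (e : (FEt.restrict ((Spec.map (CommRingCat.ofHom (algebraMap A A'))) ⁻¹ᵁ (SGA1.specBasicOpen A F)).ι).obj W ≅
      (FEt.restrict ((Spec.map (CommRingCat.ofHom (algebraMap A A'))) ∣_ (SGA1.specBasicOpen A F))).obj V) :
    ∃ φ : (↑((Spec.map (CommRingCat.ofHom (algebraMap A A'))) ⁻¹ᵁ (SGA1.specBasicOpen A F)) : Scheme.{u}) ⟶ V.left,
      φ ≫ V.hom = (Spec.map (CommRingCat.ofHom (algebraMap A A'))) ∣_ (SGA1.specBasicOpen A F) ∧ Surjective φ := by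
  let p := Spec.map (CommRingCat.ofHom (algebraMap A A'))
  let U := SGA1.specBasicOpen A F
  let U' := p ⁻¹ᵁ U
  haveI : Nonempty (U' : Scheme.{u}) := by
    refine ⟨⟨(⟨⊥, Ideal.isPrime_bot⟩ : PrimeSpectrum A'), ?_⟩⟩
    show algebraMap A A' F ∉ (⊥ : Ideal A')
    simpa using hF
  haveI : IrreducibleSpace (Spec (CommRingCat.of A)) := inferInstanceAs (IrreducibleSpace (PrimeSpectrum A))
  haveI : PreirreducibleSpace (U : Scheme.{u}) := U.ι.isOpenEmbedding.preirreducibleSpace
  -- `V` surjects onto the open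
  haveI : IsFinite V.hom := V.prop.1
  haveI : Etale V.hom := V.prop.2
  obtain ⟨v⟩ := (inferInstance : Nonempty V.left)
  have hVs : Surjective V.hom := ⟨fun z => by
    have h : IsClopen (Set.range V.hom.base) := ⟨V.hom.isClosedMap.isClosed_range, V.hom.isOpenMap.isOpen_range⟩
    haveI : PreconnectedSpace ↥((Functor.fromPUnit (U : Scheme.{u})).obj V.right) :=
      inferInstanceAs (PreconnectedSpace (U : Scheme.{u}))
    have := h.eq_univ ⟨_, v, rfl⟩
    exact this.ge (Set.mem_univ z)⟩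
  obtain ⟨z⟩ := (inferInstance : Nonempty (U' : Scheme.{u}))
  obtain ⟨v', hv'⟩ := hVs.surj ((p ∣_ U).base z)
  obtain ⟨w, -, -⟩ := Scheme.Pullback.exists_preimage_pullback v' z hv'
  haveI : Nonempty W.left := ⟨(pullback.fst W.hom U'.ι).base (e.inv.left.base w)⟩
  obtain ⟨s, hs⟩ := exists_section W
  let s' : (U' : Scheme.{u}) ⟶ ((FEt.restrict U'.ι).obj W).left :=
    pullback.lift (U'.ι ≫ s) (𝟙 _) (by rw [Category.assoc, hs, Category.comp_id, Category.id_comp])
  let φ : (U' : Scheme.{u}) ⟶ V.left := (s' ≫ e.hom.left) ≫ pullback.fst V.hom (p ∣_ U)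
  have hw : e.hom.left ≫ pullback.snd V.hom (p ∣_ U) = pullback.snd W.hom U'.ι := Over.w e.hom.hom
  have hφ : φ ≫ V.hom = p ∣_ U := by
    show ((s' ≫ e.hom.left) ≫ pullback.fst V.hom (p ∣_ U)) ≫ V.hom = _
    rw [Category.assoc, pullback.condition, ← Category.assoc, Category.assoc s', hw]
    rw [show s' ≫ pullback.snd W.hom U'.ι = 𝟙 _ from pullback.lift_snd _ _ _, Category.id_comp]
  refine ⟨φ, hφ, ?_⟩
  obtain ⟨h1, h2⟩ := Pi1X.prop_of_comp φ V.hom V.prop (by rw [hφ]; exact hprop)
  haveI := h1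
  haveI := h2
  exact ⟨fun y => by
    have h : IsClopen (Set.range φ.base) := ⟨φ.isClosedMap.isClosed_range, φ.isOpenMap.isOpen_range⟩
    have := h.eq_univ ⟨_, z, rfl⟩
    exact this.ge (Set.mem_univ y)⟩

end Groth.Agent.H9Abh
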